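import Cfsg.Agent.H17.Fi24T
import Cfsg.Agent.H29.C24D0
import Cfsg.Agent.H29.C24D1
import Cfsg.Agent.H29.C24D2

/-! Data of a coset table certificate. -/

open Cfsg Subgroup Equiv Cfsg.Agent.H17

namespace Cfsg.Agent.H29.U24

set_option maxRecDepth 100000
set_option Elab.async false
noncomputable def K : List (List ℕ) := [[nat_lit 0, nat_lit 1, nat_lit 0, nat_lit 1, nat_lit 0, nat_lit 1],
  [nat_lit 0, nat_lit 2, nat_lit 0, nat_lit 2],
  [nat_lit 0, nat_lit 3, nat_lit 0, nat_lit 3],
  [nat_lit 0, nat_lit 4, nat_lit 0, nat_lit 4],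
  [nat_lit 0, nat_lit 5, nat_lit 0, nat_lit 5],
  [nat_lit 0, nat_lit 6, nat_lit 0, nat_lit 6],
  [nat_lit 0, nat_lit 7, nat_lit 0, nat_lit 7],
  [nat_lit 0, nat_lit 8, nat_lit 0, nat_lit 8],
  [nat_lit 0, nat_lit 9, nat_lit 0, nat_lit 9],
  [nat_lit 0, nat_lit 10, nat_lit 0, nat_lit 10],
  [nat_lit 0, nat_lit 11, nat_lit 0, nat_lit 11],
  [nat_lit 1, nat_lit 2, nat_lit 1, nat_lit 2, nat_lit 1, nat_lit 2],
  [nat_lit 1, nat_lit 3, nat_lit 1, nat_lit 3],
  [nat_lit 1, nat_lit 4, nat_lit 1, nat_lit 4],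
  [nat_lit 1, nat_lit 5, nat_lit 1, nat_lit 5],
  [nat_lit 1, nat_lit 6, nat_lit 1, nat_lit 6],
  [nat_lit 1, nat_lit 7, nat_lit 1, nat_lit 7],
  [nat_lit 1, nat_lit 8, nat_lit 1, nat_lit 8],
  [nat_lit 1, nat_lit 9, nat_lit 1, nat_lit 9],
  [nat_lit 1, nat_lit 10, nat_lit 1, nat_lit 10],
  [nat_lit 1, nat_lit 11, nat_lit 1, nat_lit 11],
  [nat_lit 2, nat_lit 3, nat_lit 2, nat_lit 3, nat_lit 2, nat_lit 3],
  [nat_lit 2, nat_lit 4, nat_lit 2, nat_lit 4],
  [nat_lit 2, nat_lit 5, nat_lit 2, nat_lit 5],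
  [nat_lit 2, nat_lit 6, nat_lit 2, nat_lit 6],
  [nat_lit 2, nat_lit 7, nat_lit 2, nat_lit 7],
  [nat_lit 2, nat_lit 8, nat_lit 2, nat_lit 8],
  [nat_lit 2, nat_lit 9, nat_lit 2, nat_lit 9],
  [nat_lit 2, nat_lit 10, nat_lit 2, nat_lit 10],
  [nat_lit 2, nat_lit 11, nat_lit 2, nat_lit 11],
  [nat_lit 3, nat_lit 4, nat_lit 3, nat_lit 4, nat_lit 3, nat_lit 4],
  [nat_lit 3, nat_lit 5, nat_lit 3, nat_lit 5],
  [nat_lit 3, nat_lit 6, nat_lit 3, nat_lit 6],
  [nat_lit 3, nat_lit 7, nat_lit 3, nat_lit 7],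
  [nat_lit 3, nat_lit 8, nat_lit 3, nat_lit 8],
  [nat_lit 3, nat_lit 9, nat_lit 3, nat_lit 9],
  [nat_lit 3, nat_lit 10, nat_lit 3, nat_lit 10],
  [nat_lit 3, nat_lit 11, nat_lit 3, nat_lit 11],
  [nat_lit 4, nat_lit 5, nat_lit 4, nat_lit 5, nat_lit 4, nat_lit 5],
  [nat_lit 4, nat_lit 6, nat_lit 4, nat_lit 6],
  [nat_lit 4, nat_lit 7, nat_lit 4, nat_lit 7],
  [nat_lit 4, nat_lit 8, nat_lit 4, nat_lit 8],
  [nat_lit 4, nat_lit 9, nat_lit 4, nat_lit 9],
  [nat_lit 4, nat_lit 10, nat_lit 4, nat_lit 10],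
  [nat_lit 4, nat_lit 11, nat_lit 4, nat_lit 11],
  [nat_lit 5, nat_lit 6, nat_lit 5, nat_lit 6, nat_lit 5, nat_lit 6],
  [nat_lit 5, nat_lit 7, nat_lit 5, nat_lit 7],
  [nat_lit 5, nat_lit 8, nat_lit 5, nat_lit 8],
  [nat_lit 5, nat_lit 9, nat_lit 5, nat_lit 9],
  [nat_lit 5, nat_lit 10, nat_lit 5, nat_lit 10, nat_lit 5, nat_lit 10],
  [nat_lit 5, nat_lit 11, nat_lit 5, nat_lit 11],
  [nat_lit 6, nat_lit 7, nat_lit 6, nat_lit 7, nat_lit 6, nat_lit 7],
  [nat_lit 6, nat_lit 8, nat_lit 6, nat_lit 8],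
  [nat_lit 6, nat_lit 9, nat_lit 6, nat_lit 9],
  [nat_lit 6, nat_lit 10, nat_lit 6, nat_lit 10],
  [nat_lit 6, nat_lit 11, nat_lit 6, nat_lit 11],
  [nat_lit 7, nat_lit 8, nat_lit 7, nat_lit 8, nat_lit 7, nat_lit 8],
  [nat_lit 7, nat_lit 9, nat_lit 7, nat_lit 9],
  [nat_lit 7, nat_lit 10, nat_lit 7, nat_lit 10],
  [nat_lit 7, nat_lit 11, nat_lit 7, nat_lit 11],
  [nat_lit 8, nat_lit 9, nat_lit 8, nat_lit 9, nat_lit 8, nat_lit 9],
  [nat_lit 8, nat_lit 10, nat_lit 8, nat_lit 10],
  [nat_lit 8, nat_lit 11, nat_lit 8, nat_lit 11],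
  [nat_lit 9, nat_lit 10, nat_lit 9, nat_lit 10],
  [nat_lit 9, nat_lit 11, nat_lit 9, nat_lit 11],
  [nat_lit 10, nat_lit 11, nat_lit 10, nat_lit 11, nat_lit 10, nat_lit 11],
  unp 8 74 (nat_lit 0x706050a0405060304050a07060504030203040506070a0504030605040a0506070100020304050a0605040302030405060a050403010304050a0605040302030405060a050403020001),
  unp 8 144 (nat_lit 0x20304050a0b06050a070806070405060304050a0b0705060304050a0908070605040302030405060708090a0504030605070b0a050403060504070608070a05060b0a0504030201020304050a0b06050a070806070405060304050a0b0705060304050a0908070605040302030405060708090a0504030605070b0a050403060504070608070a05060b0a0504030201),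
  unp 8 82 (nat_lit 0x4030203040506070a0504030605040a050806070807010002030408050a060504030203040506050a050403010304090a050a090605040302030405060a0504030200010706050a0405060304050a070605),
  [nat_lit 0, nat_lit 0],
  [nat_lit 1, nat_lit 1],
  [nat_lit 2, nat_lit 2],
  [nat_lit 3, nat_lit 3],
  [nat_lit 4, nat_lit 4],
  [nat_lit 5, nat_lit 5],
  [nat_lit 6, nat_lit 6],
  [nat_lit 7, nat_lit 7],
  [nat_lit 8, nat_lit 8],
  [nat_lit 9, nat_lit 9],
  [nat_lit 10, nat_lit 10],
  [nat_lit 11, nat_lit 11]]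
noncomputable def W : List (List ℕ) := [[nat_lit 0],
  [nat_lit 2],
  [nat_lit 3],
  [nat_lit 4],
  [nat_lit 5],
  [nat_lit 6],
  [nat_lit 7],
  [nat_lit 8],
  [nat_lit 9],
  [nat_lit 10],
  [nat_lit 11]]
noncomputable def C : TT := ⟨8, 3, [t0, t1, t2, t3, t4, t5, t6, t7, t8, t9, t10, t11], 7, [i0, i1, i2, i3, i4, i5, i6, i7, i8, i9, i10, i11], K, W⟩
noncomputable def rs1 : List Rule := [.bulk 0 48]
noncomputable def rs2 : List Rule := [.bulk 1 12]
noncomputable def rs3 : List Rule := [.bulk 2 12]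
noncomputable def rs4 : List Rule := [.bulk 3 12]
noncomputable def rs5 : List Rule := [.bulk 4 12]
noncomputable def rs6 : List Rule := [.bulk 5 12]
noncomputable def rs7 : List Rule := [.bulk 6 12]
noncomputable def rs8 : List Rule := [.bulk 7 12]
noncomputable def rs9 : List Rule := [.bulk 8 12]
noncomputable def rs10 : List Rule := [.bulk 9 12]
noncomputable def rs11 : List Rule := [.bulk 10 12]
noncomputable def rs12 : List Rule := [.bulk 11 48]
noncomputable def rs13 : List Rule := [.bulk 12 12]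
noncomputable def rs14 : List Rule := [.bulk 13 12]
noncomputable def rs15 : List Rule := [.bulk 14 12]
noncomputable def rs16 : List Rule := [.bulk 15 12]
noncomputable def rs17 : List Rule := [.bulk 16 12]
noncomputable def rs18 : List Rule := [.bulk 17 12]
noncomputable def rs19 : List Rule := [.bulk 18 12]
noncomputable def rs20 : List Rule := [.bulk 19 12]
noncomputable def rs21 : List Rule := [.bulk 20 12]
noncomputable def rs22 : List Rule := [.bulk 21 48]
noncomputable def rs23 : List Rule := [.bulk 22 12]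
noncomputable def rs24 : List Rule := [.bulk 23 12]
noncomputable def rs25 : List Rule := [.bulk 24 12]
noncomputable def rs26 : List Rule := [.bulk 25 12]
noncomputable def rs27 : List Rule := [.bulk 26 12]
noncomputable def rs28 : List Rule := [.bulk 27 12]
noncomputable def rs29 : List Rule := [.bulk 28 12]
noncomputable def rs30 : List Rule := [.bulk 29 12]
noncomputable def rs31 : List Rule := [.bulk 30 48]
noncomputable def rs32 : List Rule := [.bulk 31 12]
noncomputable def rs33 : List Rule := [.bulk 32 12]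
noncomputable def rs34 : List Rule := [.bulk 33 12]
noncomputable def rs35 : List Rule := [.bulk 34 12]
noncomputable def rs36 : List Rule := [.bulk 35 12]
noncomputable def rs37 : List Rule := [.bulk 36 12]
noncomputable def rs38 : List Rule := [.bulk 37 12]
noncomputable def rs39 : List Rule := [.bulk 38 48]
noncomputable def rs40 : List Rule := [.bulk 39 12]
noncomputable def rs41 : List Rule := [.bulk 40 12]
noncomputable def rs42 : List Rule := [.bulk 41 12]
noncomputable def rs43 : List Rule := [.bulk 42 12]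
noncomputable def rs44 : List Rule := [.bulk 43 12]
noncomputable def rs45 : List Rule := [.bulk 44 12]
noncomputable def rs46 : List Rule := [.bulk 45 48]
noncomputable def rs47 : List Rule := [.bulk 46 12]
noncomputable def rs48 : List Rule := [.bulk 47 12]
noncomputable def rs49 : List Rule := [.bulk 48 12]
noncomputable def rs50 : List Rule := [.bulk 49 48]
noncomputable def rs51 : List Rule := [.bulk 50 12]
noncomputable def rs52 : List Rule := [.bulk 51 48]
noncomputable def rs53 : List Rule := [.bulk 52 12]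
noncomputable def rs54 : List Rule := [.bulk 53 12]
noncomputable def rs55 : List Rule := [.bulk 54 12]
noncomputable def rs56 : List Rule := [.bulk 55 12]
noncomputable def rs57 : List Rule := [.bulk 56 48]
noncomputable def rs58 : List Rule := [.bulk 57 12]
noncomputable def rs59 : List Rule := [.bulk 58 12]
noncomputable def rs60 : List Rule := [.bulk 59 12]
noncomputable def rs61 : List Rule := [.bulk 60 48]
noncomputable def rs62 : List Rule := [.bulk 61 12]
noncomputable def rs63 : List Rule := [.bulk 62 12]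
noncomputable def rs64 : List Rule := [.bulk 63 12]
noncomputable def rs65 : List Rule := [.bulk 64 12]
noncomputable def rs66 : List Rule := [.bulk 65 48, .sub 0 0]
noncomputable def rs67 : List Rule := [.bulk 69 2, .bulk 70 2, .sub 1 0, .bulk 71 2]
noncomputable def rs68 : List Rule := [.rel 66 7 57]
noncomputable def rs69 : List Rule := [.rel 67 1 108]
noncomputable def rs70 : List Rule := [.sub 2 0, .bulk 72 2, .rel 66 136906 3, .sub 3 0]
noncomputable def rs71 : List Rule := [.bulk 73 2, .rel 66 345 69]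
noncomputable def rs72 : List Rule := [.rel 68 37302 81, .sub 4 0, .bulk 74 2, .sub 5 0]
noncomputable def rs73 : List Rule := [.bulk 75 2, .sub 6 0, .bulk 76 2, .sub 7 0, .bulk 77 2, .sub 8 0, .bulk 78 2, .sub 9 0]
noncomputable def rs74 : List Rule := [.bulk 79 2, .rel 66 1447 63, .sub 10 0]
noncomputable def rs75 : List Rule := [.bulk 80 2]
noncomputable def rss : List (List Rule) := [rs1, rs2, rs3, rs4, rs5, rs6, rs7, rs8, rs9, rs10, rs11, rs12, rs13, rs14, rs15, rs16, rs17, rs18, rs19, rs20, rs21, rs22, rs23, rs24, rs25, rs26, rs27, rs28, rs29, rs30, rs31, rs32, rs33, rs34, rs35, rs36, rs37, rs38, rs39, rs40, rs41, rs42, rs43, rs44, rs45, rs46, rs47, rs48, rs49, rs50, rs51, rs52, rs53, rs54, rs55, rs56, rs57, rs58, rs59, rs60, rs61, rs62, rs63, rs64, rs65, rs66, rs67, rs68, rs69, rs70, rs71, rs72, rs73, rs74, rs75]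
noncomputable def ds : List (List (List ℕ)) := [[[nat_lit 1]],
 [[nat_lit 17]],
 [[nat_lit 33]],
 [[nat_lit 49]],
 [[nat_lit 65]],
 [[nat_lit 81]],
 [[nat_lit 97]],
 [[nat_lit 113]],
 [[nat_lit 129]],
 [[nat_lit 145]],
 [[nat_lit 161]],
 [[nat_lit 177]],
 [[nat_lit 193]],
 [[nat_lit 209]],
 [[nat_lit 225]],
 [[nat_lit 241]],
 [[nat_lit 257]],
 [[nat_lit 273]],
 [[nat_lit 289]],
 [[nat_lit 305]],
 [[nat_lit 321]],
 [[nat_lit 337]],
 [[nat_lit 353]],
 [[nat_lit 369]],
 [[nat_lit 385]],
 [[nat_lit 401]],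
 [[nat_lit 417]],
 [[nat_lit 433]],
 [[nat_lit 449]],
 [[nat_lit 465]],
 [[nat_lit 481]],
 [[nat_lit 497]],
 [[nat_lit 513]],
 [[nat_lit 529]],
 [[nat_lit 545]],
 [[nat_lit 561]],
 [[nat_lit 577]],
 [[nat_lit 593]],
 [[nat_lit 609]],
 [[nat_lit 625]],
 [[nat_lit 641]],
 [[nat_lit 657]],
 [[nat_lit 673]],
 [[nat_lit 689]],
 [[nat_lit 705]],
 [[nat_lit 721]],
 [[nat_lit 737]],
 [[nat_lit 753]],
 [[nat_lit 769]],
 [[nat_lit 785]],
 [[nat_lit 801]],
 [[nat_lit 817]],
 [[nat_lit 833]],
 [[nat_lit 849]],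
 [[nat_lit 865]],
 [[nat_lit 881]],
 [[nat_lit 897]],
 [[nat_lit 913]],
 [[nat_lit 929]],
 [[nat_lit 945]],
 [[nat_lit 961]],
 [[nat_lit 977]],
 [[nat_lit 993]],
 [[nat_lit 1009]],
 [[nat_lit 1025]],
 [[nat_lit 1041]],
 [[nat_lit 1057]],
 [[nat_lit 1073]],
 [unp 16 7 (nat_lit 0x40003000400040007900400040),
  unp 16 8 (nat_lit 0x380040003800400040005900400040),
  [nat_lit 64, nat_lit 64, nat_lit 401, nat_lit 64, nat_lit 64, nat_lit 8],
  [nat_lit 64, nat_lit 64, nat_lit 481, nat_lit 64, nat_lit 64, nat_lit 0],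
  [nat_lit 64, nat_lit 64, nat_lit 329, nat_lit 64, nat_lit 64, nat_lit 16],
  [nat_lit 64, nat_lit 64, nat_lit 265, nat_lit 64, nat_lit 64, nat_lit 24],
  unp 16 7 (nat_lit 0x4000200040004000d100400040),
  unp 16 8 (nat_lit 0x280050002800500050009100500050),
  [nat_lit 80, nat_lit 80, nat_lit 193, nat_lit 80, nat_lit 80, nat_lit 32],
  [nat_lit 80, nat_lit 80, nat_lit 249, nat_lit 80, nat_lit 80, nat_lit 24],
  [nat_lit 80, nat_lit 80, nat_lit 385, nat_lit 80, nat_lit 80, nat_lit 8],
  [nat_lit 80, nat_lit 80, nat_lit 249, nat_lit 80, nat_lit 80, nat_lit 24],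
  [nat_lit 80, nat_lit 80, nat_lit 193, nat_lit 80, nat_lit 80, nat_lit 32],
  unp 16 7 (nat_lit 0x50004800500050002100500050),
  unp 16 7 (nat_lit 0x4002800480048009900480048),
  unp 16 9 (nat_lit 0x4800500048004800500021005000480048),
  unp 16 101 (nat_lit 0x18001000180020002800300038005000280020001800300028002000500028007b0073006c0064005c0053004c002800500030002800200018001000180020002800300044003b0034002c0024001b000b000400300028002000180010001800200028003000500028002000180010000000080038003000280050002000280030001800200028005000380030002800280030003800500028002000180030002800200050002800300038000900380030002800500020002800300018002000280050003800300028),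
  unp 16 82 (nat_lit 0x28003000380050002800200018003000280020005000280030003800080000001000180020002800500030002800200018001000180020002800300048005000280050004800200018000800180020002800500028003000280020001800100018002000280030005000280040002000180010000000080038004000380030004000280050002000280030001800200028005000380030002800200018001000180003)],
 [],
 [],
 [],
 [],
 [],
 [],
 [],
 [],
 [],
 [],
 [],
 []]

end Cfsg.Agent.H29.U24
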