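import Cfsg.Agent.H29.U23
import Cfsg.Agent.H29.S24

/-! The configuration of type M(24). -/

open Cfsg Subgroup Equiv Cfsg.Agent.H17

namespace Cfsg.Agent.H29.U24

set_option maxRecDepth 100000
set_option Elab.async false
universe u
variable {G : Type u} [Group G] {E : Set G}

noncomputable def Rb : List (List ℕ) := [[nat_lit 0, nat_lit 1, nat_lit 0, nat_lit 1, nat_lit 0, nat_lit 1],
  [nat_lit 0, nat_lit 2, nat_lit 0, nat_lit 2],
  [nat_lit 0, nat_lit 3, nat_lit 0, nat_lit 3],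
  [nat_lit 0, nat_lit 4, nat_lit 0, nat_lit 4],
  [nat_lit 0, nat_lit 5, nat_lit 0, nat_lit 5],
  [nat_lit 0, nat_lit 6, nat_lit 0, nat_lit 6],
  [nat_lit 0, nat_lit 7, nat_lit 0, nat_lit 7],
  [nat_lit 0, nat_lit 8, nat_lit 0, nat_lit 8],
  [nat_lit 0, nat_lit 9, nat_lit 0, nat_lit 9],
  [nat_lit 0, nat_lit 10, nat_lit 0, nat_lit 10],
  [nat_lit 0, nat_lit 11, nat_lit 0, nat_lit 11],
  [nat_lit 1, nat_lit 2, nat_lit 1, nat_lit 2, nat_lit 1, nat_lit 2],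
  [nat_lit 1, nat_lit 3, nat_lit 1, nat_lit 3],
  [nat_lit 1, nat_lit 4, nat_lit 1, nat_lit 4],
  [nat_lit 1, nat_lit 5, nat_lit 1, nat_lit 5],
  [nat_lit 1, nat_lit 6, nat_lit 1, nat_lit 6],
  [nat_lit 1, nat_lit 7, nat_lit 1, nat_lit 7],
  [nat_lit 1, nat_lit 8, nat_lit 1, nat_lit 8],
  [nat_lit 1, nat_lit 9, nat_lit 1, nat_lit 9],
  [nat_lit 1, nat_lit 10, nat_lit 1, nat_lit 10],
  [nat_lit 1, nat_lit 11, nat_lit 1, nat_lit 11],
  [nat_lit 2, nat_lit 3, nat_lit 2, nat_lit 3, nat_lit 2, nat_lit 3],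
  [nat_lit 2, nat_lit 4, nat_lit 2, nat_lit 4],
  [nat_lit 2, nat_lit 5, nat_lit 2, nat_lit 5],
  [nat_lit 2, nat_lit 6, nat_lit 2, nat_lit 6],
  [nat_lit 2, nat_lit 7, nat_lit 2, nat_lit 7],
  [nat_lit 2, nat_lit 8, nat_lit 2, nat_lit 8],
  [nat_lit 2, nat_lit 9, nat_lit 2, nat_lit 9],
  [nat_lit 2, nat_lit 10, nat_lit 2, nat_lit 10],
  [nat_lit 2, nat_lit 11, nat_lit 2, nat_lit 11],
  [nat_lit 3, nat_lit 4, nat_lit 3, nat_lit 4, nat_lit 3, nat_lit 4],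
  [nat_lit 3, nat_lit 5, nat_lit 3, nat_lit 5],
  [nat_lit 3, nat_lit 6, nat_lit 3, nat_lit 6],
  [nat_lit 3, nat_lit 7, nat_lit 3, nat_lit 7],
  [nat_lit 3, nat_lit 8, nat_lit 3, nat_lit 8],
  [nat_lit 3, nat_lit 9, nat_lit 3, nat_lit 9],
  [nat_lit 3, nat_lit 10, nat_lit 3, nat_lit 10],
  [nat_lit 3, nat_lit 11, nat_lit 3, nat_lit 11],
  [nat_lit 4, nat_lit 5, nat_lit 4, nat_lit 5, nat_lit 4, nat_lit 5],
  [nat_lit 4, nat_lit 6, nat_lit 4, nat_lit 6],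
  [nat_lit 4, nat_lit 7, nat_lit 4, nat_lit 7],
  [nat_lit 4, nat_lit 8, nat_lit 4, nat_lit 8],
  [nat_lit 4, nat_lit 9, nat_lit 4, nat_lit 9],
  [nat_lit 4, nat_lit 10, nat_lit 4, nat_lit 10],
  [nat_lit 4, nat_lit 11, nat_lit 4, nat_lit 11],
  [nat_lit 5, nat_lit 6, nat_lit 5, nat_lit 6, nat_lit 5, nat_lit 6],
  [nat_lit 5, nat_lit 7, nat_lit 5, nat_lit 7],
  [nat_lit 5, nat_lit 8, nat_lit 5, nat_lit 8],
  [nat_lit 5, nat_lit 9, nat_lit 5, nat_lit 9],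
  [nat_lit 5, nat_lit 10, nat_lit 5, nat_lit 10, nat_lit 5, nat_lit 10],
  [nat_lit 5, nat_lit 11, nat_lit 5, nat_lit 11],
  [nat_lit 6, nat_lit 7, nat_lit 6, nat_lit 7, nat_lit 6, nat_lit 7],
  [nat_lit 6, nat_lit 8, nat_lit 6, nat_lit 8],
  [nat_lit 6, nat_lit 9, nat_lit 6, nat_lit 9],
  [nat_lit 6, nat_lit 10, nat_lit 6, nat_lit 10],
  [nat_lit 6, nat_lit 11, nat_lit 6, nat_lit 11],
  [nat_lit 7, nat_lit 8, nat_lit 7, nat_lit 8, nat_lit 7, nat_lit 8],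
  [nat_lit 7, nat_lit 9, nat_lit 7, nat_lit 9],
  [nat_lit 7, nat_lit 10, nat_lit 7, nat_lit 10],
  [nat_lit 7, nat_lit 11, nat_lit 7, nat_lit 11],
  [nat_lit 8, nat_lit 9, nat_lit 8, nat_lit 9, nat_lit 8, nat_lit 9],
  [nat_lit 8, nat_lit 10, nat_lit 8, nat_lit 10],
  [nat_lit 8, nat_lit 11, nat_lit 8, nat_lit 11],
  [nat_lit 9, nat_lit 10, nat_lit 9, nat_lit 10],
  [nat_lit 9, nat_lit 11, nat_lit 9, nat_lit 11],
  [nat_lit 10, nat_lit 11, nat_lit 10, nat_lit 11, nat_lit 10, nat_lit 11]]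
noncomputable def px : List ℕ × ℕ := ([], 0)
noncomputable def py : List ℕ × ℕ := (unp 8 8 (nat_lit 0x102030408030201), 0)
noncomputable def pθ : List ℕ × ℕ := (unp 8 16 (nat_lit 0x1020304050803020104030208030405), 0)
noncomputable def ps : List ℕ × ℕ := (unp 8 35 (nat_lit 0x102030405060708030201040305090803020104030205040605080304090803020100), 0)
noncomputable def R : List (List ℕ) := Rb ++ ([clW px py pθ] ++ (scW [ps] ++ mapW sh []))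
noncomputable def Y : List (List ℕ) := [[nat_lit 14, nat_lit 4, nat_lit 15, nat_lit 7],
  [nat_lit 15, nat_lit 4, nat_lit 14, nat_lit 8, nat_lit 15],
  [nat_lit 6, nat_lit 7],
  [],
  [nat_lit 13, nat_lit 14, nat_lit 15],
  [nat_lit 15, nat_lit 10, nat_lit 0, nat_lit 15],
  [nat_lit 12, nat_lit 3, nat_lit 15, nat_lit 7],
  [nat_lit 14, nat_lit 8, nat_lit 7, nat_lit 12, nat_lit 10, nat_lit 7],
  [nat_lit 14, nat_lit 4, nat_lit 2, nat_lit 15],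
  [nat_lit 14, nat_lit 13, nat_lit 7, nat_lit 12, nat_lit 10, nat_lit 7]]
noncomputable def Z : List (List ℕ) := [[nat_lit 12, nat_lit 4, nat_lit 15, nat_lit 7],
  [nat_lit 13, nat_lit 14, nat_lit 15],
  [],
  [nat_lit 6, nat_lit 7],
  [nat_lit 8, nat_lit 15, nat_lit 2, nat_lit 12, nat_lit 7],
  [nat_lit 0, nat_lit 14, nat_lit 11, nat_lit 13, nat_lit 15, nat_lit 7],
  [nat_lit 15, nat_lit 10, nat_lit 4, nat_lit 15],
  [nat_lit 6, nat_lit 5, nat_lit 4, nat_lit 15],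
  [nat_lit 12, nat_lit 3, nat_lit 2, nat_lit 15, nat_lit 7]]
theorem c1 : coxB M23.B S24.S1b Y Rb = true := by decide +kernel
theorem c2 : allL [ps] (scB M23.B S24.S1b Y) = true := by decide +kernel
theorem c4 : clB M23.B S24.S1b Y px py pθ [[],
  [nat_lit 6, nat_lit 7],
  [nat_lit 13, nat_lit 14, nat_lit 15],
  [nat_lit 14, nat_lit 4, nat_lit 2, nat_lit 15]] [] = true := by decide +kernel
theorem lets (hE : Tr3 E) {d c : G} (hd : d ∈ E) (hc : c ∈ E) (hdc : ¬ Commute d c) (h : Conf M23.B E d c S24.S1b) :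
    Lets E 12 0 1 Rb R :=
  h.lets hE hd hc hdc (Y := Y) (by decide +kernel) c1 c2 rfl (.inr ⟨px, py, pθ, _, _, c4, rfl⟩)
theorem n1 : subB S24.S1a (M23.B.T.orbIt (M23.B.σ Z) 6 (M23.B.bits Z)) = true := by decide +kernel
theorem excl (hE : Tr3 E) {d c : G} (hd : d ∈ E) (hc : c ∈ E) (hdc : ¬ Commute d c) (h : Conf M23.B E d c S24.S1a)
    (ψ : closure (Nb E d ∩ Nb E c) →* Perm (Fin 3)) : ¬ Function.Surjective ψ :=
  let ⟨_, _, h, hC⟩ := h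
  not_s3 hE hd hc hdc h hC (Y := Z) n1 (by decide +kernel) (e1 := [(0, 1), (1, 2), (2, 3), (2, 7), (3, 4), (7, 8), (4, 5), (5, 6)]) (e2 := [(0, 2), (0, 3), (0, 4), (0, 5), (0, 6), (0, 7), (0, 8), (3, 1)])
    (by decide +kernel) (by decide +kernel) (by decide +kernel) (by decide +kernel) ψ

end Cfsg.Agent.H29.U24
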