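import Cfsg.Agent.H29.Fi12
import Cfsg.Agent.H29.M22
import Cfsg.Agent.H17.Fi22B

/-! Cliques, fixed points and relations for `Fi22`. -/

open Cfsg Subgroup Equiv Cfsg.Agent.H17

namespace Cfsg.Agent.H29.M22

universe u
variable {G : Type u} [Group G] {S E : Set G}

set_option maxRecDepth 100000
set_option Elab.async false
def bs : List ℕ := Fi22.baseB
theorem base : B.Base bs := base_of_faith rep Fi22.faithB
noncomputable def u3 : List ℕ := unp 8 8 (nat_lit 0x100020103020703)
noncomputable def W3 : List (List ℕ) := [[nat_lit 4],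
  [nat_lit 5],
  [nat_lit 6],
  [nat_lit 8],
  [nat_lit 9],
  unp 8 17 (nat_lit 0x307040301020001000100020103040703)]
noncomputable def Y3 : List (List ℕ) := u3 :: [u1, []]
theorem fl3 : B.flB W3 (B.pts [u1, []]) 5 (B.cn' [u1, []]) [u3] = true := by decide +kernel
theorem tr3 : B.Tr Y3 := r3.tr2.cons goodB (band_true.2 ⟨by decide +kernel, fl3⟩)
noncomputable def ub : List ℕ := unp 8 8 (nat_lit 0x100020103040703)
noncomputable def Wb : List (List ℕ) := [[nat_lit 4],
  [nat_lit 5],
  [nat_lit 6],
  [nat_lit 9],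
  unp 8 17 (nat_lit 0x307040301020001000100020103040703),
  unp 8 33 (nat_lit 0x80907080509030706050403010200010001000201030405060703090508070908)]
noncomputable def H3 : List (List ℕ) := [unp 8 12 (nat_lit 0x10002010304050609050403),
  unp 8 14 (nat_lit 0x100020103020405060709050403),
  unp 8 12 (nat_lit 0x10203040506090504030201)]
noncomputable def Zb : List (List ℕ) := [[],
  [nat_lit 1, nat_lit 2, nat_lit 0, nat_lit 1],
  unp 8 8 (nat_lit 0x100020103020703),
  unp 8 8 (nat_lit 0x100020103040703),
  unp 8 8 (nat_lit 0x100020103020403),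
  unp 8 8 (nat_lit 0x102030407030201),
  unp 8 12 (nat_lit 0x10002010304050607030405),
  unp 8 12 (nat_lit 0x10002010304050607030905),
  unp 8 12 (nat_lit 0x10002010302040305040605),
  unp 8 12 (nat_lit 0x10002010304050609050403),
  unp 8 12 (nat_lit 0x10002010302040305060905),
  unp 8 12 (nat_lit 0x10203040506090504030201),
  unp 8 12 (nat_lit 0x10002010302040305040905),
  unp 8 14 (nat_lit 0x100020103020405060709050403),
  unp 8 16 (nat_lit 0x1000201030405060703090508070908),
  unp 8 16 (nat_lit 0x1000201030405060703040508070908),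
  unp 8 16 (nat_lit 0x1000201030405060905040308070908),
  unp 8 16 (nat_lit 0x1020304050609050403020108070908),
  unp 8 20 (nat_lit 0x100020103040506070304050807090504080905),
  unp 8 20 (nat_lit 0x100020103040506070304050807090504060508),
  unp 8 20 (nat_lit 0x100020103040506070304050807030209080703),
  unp 8 20 (nat_lit 0x100020103040506070304050807030409080703)]
theorem width {β γ : ℕ → G} (h : Chart B S β γ) : commutingWidth S = 22 :=
  width_eq (h.width r3 tr3 (Z := Zb) (t := 7) (by decide) (Bd.step (t := 7) (W := Wb) (r := 2) (L := B.bits (List.append H3 Y3))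
    (R := [ub]) (by decide) (by decide) (by decide +kernel) fun u hu => List.mem_singleton.1 hu ▸
      Bd.leaf (t := 7) (by decide) (by decide) (by decide +kernel)) (by decide) (by decide) (by decide +kernel))
theorem f0 : pop 7 (fixSet B.T (B.pw (Y3.drop 3))) = 3510 := by decide +kernel
theorem f1 : pop 7 (fixSet B.T (B.pw (Y3.drop 2))) = 694 := by decide +kernel
theorem f2 : pop 7 (fixSet B.T (B.pw (Y3.drop 1))) = 182 := by decide +kernel
theorem f3 : pop 7 (fixSet B.T (B.pw (Y3.drop 0))) = 54 := by decide +kernel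
theorem fv : ∀ m ≤ 3, pop 7 (fixSet B.T (B.pw (Y3.drop (3 - m)))) = [3510, 694, 182, 54].getD m 0 := fun m hm => by
  interval_cases m
  exacts [f0, f1, f2, f3]
theorem wit2 : wit6 B (Y3.drop 1) [3, 1] 0 = true := by decide +kernel
theorem wit3 : wit6 B (Y3.drop 0) [3, 8] 1 = true := by decide +kernel
noncomputable def Z2 : List (List ℕ) := [[],
  [nat_lit 1, nat_lit 2, nat_lit 0, nat_lit 1],
  unp 8 8 (nat_lit 0x100020103020703),
  unp 8 9 (nat_lit 0x10002010302070308),
  unp 8 11 (nat_lit 0x102030405070302010809)]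
theorem fac2B : band (subB (B.bits Z2) (B.cn [u1, []])) (subB (B.cn Z2) (B.bits [u1, []])) = true := by decide +kernel
noncomputable def Rd : List (List ℕ) := [[nat_lit 1, nat_lit 2, nat_lit 0, nat_lit 1],
  unp 8 8 (nat_lit 0x100020103020703),
  unp 8 12 (nat_lit 0x10002010304050609050403),
  unp 8 12 (nat_lit 0x10203040506090504030201),
  unp 8 14 (nat_lit 0x100020103020405060709050403)]
theorem Rds : subB (B.bits Rd) (B.cn' [[]]) = true := by decide +kernel
theorem Rdr : B.idB bs (B.pw ([] :: Rd)) = true := by decide +kernel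
noncomputable def Ro : List (List ℕ) := [[nat_lit 1, nat_lit 2, nat_lit 0, nat_lit 1],
  unp 8 8 (nat_lit 0x100020103020703),
  unp 8 8 (nat_lit 0x100020103040703),
  unp 8 8 (nat_lit 0x100020103020403),
  unp 8 12 (nat_lit 0x10002010304050607030405),
  unp 8 12 (nat_lit 0x10002010302040305040605),
  unp 8 12 (nat_lit 0x10203040506090504030201)]
theorem Ros : subB (B.bits Ro) (B.cn' [[]]) = true := by decide +kernel
theorem Ror : B.idB bs (B.pw (Ro)) = true := by decide +kernel
theorem H3s : subB (B.bits H3) (B.cn' Y3) = true := by decide +kernel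
theorem H3r : B.idB bs (B.pw (u3 :: u1 :: [] :: H3)) = true := by decide +kernel
noncomputable def P4 : List (List ℕ × List (List ℕ)) := [(unp 8 8 (nat_lit 0x100020103040703), [unp 8 8 (nat_lit 0x100020103020403),
  unp 8 8 (nat_lit 0x102030407030201),
  unp 8 12 (nat_lit 0x10002010302040305040905)]),
  (unp 8 12 (nat_lit 0x10002010304050609050403), [unp 8 14 (nat_lit 0x100020103020405060709050403),
  unp 8 12 (nat_lit 0x10203040506090504030201)]),
  (unp 8 14 (nat_lit 0x100020103020405060709050403), [unp 8 12 (nat_lit 0x10002010304050609050403),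
  unp 8 12 (nat_lit 0x10203040506090504030201)]),
  (unp 8 12 (nat_lit 0x10203040506090504030201), [unp 8 12 (nat_lit 0x10002010304050609050403),
  unp 8 14 (nat_lit 0x100020103020405060709050403)])]
theorem fl4 : B.flB Wb (B.pts Y3) 2 (B.cn' Y3) (P4.map Prod.fst) = true := by decide +kernel
theorem red4 : redB B bs Y3 P4 3 = true := by decide +kernel
theorem fs1 : B.flB Wb (B.pts (u3 :: [u1, []])) 2 (dif (fixSet B.T (B.pw (u3 :: [u1, []]))) (B.bits (List.append H3 Y3))) [ub] = true := by decide +kernel
theorem fs2 : allL [ub] (fun v => bnot (Nat.beq (pop 7 (fixSet B.T (B.pw (v :: u3 :: [u1, []])))) 182)) = true := by decide +kernel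
theorem pp1 : B.popP 7 [[]] = 3510 := by decide +kernel
theorem pp2 : B.popP 7 [u1, []] = 3510 * 693 := by decide +kernel
theorem pp3 : B.popP 7 Y3 = 3510 * 693 * 180 := by decide +kernel
theorem clq3 : B.clq (List.append H3 Y3) = true := by decide +kernel
theorem pop6 : pop 7 (B.bits (List.append H3 Y3)) = 6 := by decide +kernel
theorem pop3 : pop 7 (B.bits H3) = 3 := by decide +kernel
noncomputable def Wp0 : List (List ℕ) := [[nat_lit 0],
  [nat_lit 5],
  [nat_lit 6],
  [nat_lit 8],
  [nat_lit 9],
  unp 8 12 (nat_lit 0x30207040304070203040702)]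
noncomputable def Wp1 : List (List ℕ) := [unp 8 20 (nat_lit 0x908000503020704030407020304070209050908),
  unp 8 20 (nat_lit 0x906000503020704030407020304070209050609)]
noncomputable def Wp2 : List (List ℕ) := []
theorem no_fpf (hS : IsThreeTranspositionSet S) {β γ : ℕ → G} (h : Chart B S β γ) (ψ : G → G) : ¬ Fpf S ψ := fun hψ => by
  have hc : ∀ a ∈ S, Commute a (ψ a) := fun a => hψ.comm_self hS fun _ ha _ => h.cj_mem' r3 (subset_closure ha)
  have h0 := (PS.start hψ hc h r3).swap hψ
  obtain ⟨u, hu, h1⟩ := h0.step hψ hc (v := [nat_lit 3, nat_lit 1, nat_lit 2, nat_lit 0, nat_lit 1]) (W := Wp0) (r := 4) (R := [[nat_lit 4, nat_lit 3, nat_lit 2, nat_lit 1]]) (by decide +kernel)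
  obtain rfl := List.mem_singleton.1 hu
  replace h1 := h1.swap hψ
  replace h1 := h1.add hψ 0 3 ([nat_lit 4, nat_lit 3, nat_lit 2, nat_lit 0, nat_lit 1], [nat_lit 2, nat_lit 3, nat_lit 1, nat_lit 2, nat_lit 0, nat_lit 1]) (by decide) (by decide) (by decide +kernel)
  replace h1 := h1.add hψ 2 3 ([nat_lit 2, nat_lit 3, nat_lit 1, nat_lit 2, nat_lit 0, nat_lit 1], [nat_lit 4, nat_lit 3, nat_lit 2, nat_lit 0, nat_lit 1]) (by decide) (by decide) (by decide +kernel)
  obtain ⟨u, hu, h2⟩ := h1.step hψ hc (v := unp 8 9 (nat_lit 0x10203040507030201)) (W := Wp1) (r := 1) (R := [unp 8 11 (nat_lit 0x100020103040506070304)]) (by decide +kernel)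
  obtain rfl := List.mem_singleton.1 hu
  replace h2 := h2.swap hψ
  obtain ⟨u, hu, h3⟩ := h2.step hψ hc (v := unp 8 12 (nat_lit 0x10203040506070304080703)) (W := Wp2) (r := 0) (R := []) (by decide +kernel)
  simp at hu

end Cfsg.Agent.H29.M22
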