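import Cfsg.Agent.H29.Fi12
import Cfsg.Agent.H29.M23

/-! Cliques, fixed points and relations for `Fi23`. -/

open Cfsg Subgroup Equiv Cfsg.Agent.H17

namespace Cfsg.Agent.H29.M23

universe u
variable {G : Type u} [Group G] {S E : Set G}

set_option maxRecDepth 100000
set_option Elab.async false
def bs : List ℕ := Fi23.base
theorem base : B.Base bs := base_of_faith rep Fi23.faith
noncomputable def u3 : List ℕ := [nat_lit 1, nat_lit 0, nat_lit 15, nat_lit 7]
noncomputable def W3 : List (List ℕ) := [[nat_lit 2],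
  [nat_lit 3],
  [nat_lit 4],
  [nat_lit 5],
  [nat_lit 6],
  [nat_lit 8],
  [nat_lit 9],
  [nat_lit 11]]
noncomputable def Y3 : List (List ℕ) := u3 :: [u1, []]
theorem fl3 : B.flB W3 (B.pts [u1, []]) 5 (B.cn' [u1, []]) [u3] = true := by decide +kernel
theorem tr3 : B.Tr Y3 := r3.tr2.cons goodB (band_true.2 ⟨by decide +kernel, fl3⟩)
noncomputable def u4 : List ℕ := [nat_lit 12, nat_lit 13, nat_lit 15, nat_lit 7]
noncomputable def W4 : List (List ℕ) := [[nat_lit 5],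
  [nat_lit 6],
  [nat_lit 9],
  unp 8 9 (nat_lit 0xf040e070a070e040f),
  unp 8 9 (nat_lit 0xc0d0f070a070f0d0c),
  unp 8 11 (nat_lit 0xd0f0c06070a07060c0f0d)]
noncomputable def Y4 : List (List ℕ) := u4 :: Y3
theorem fl4 : B.flB W4 (B.pts Y3) 4 (B.cn' Y3) [u4] = true := by decide +kernel
theorem tr4 : B.Tr Y4 := tr3.cons goodB (band_true.2 ⟨by decide +kernel, fl4⟩)
noncomputable def ub : List ℕ := [nat_lit 15, nat_lit 4, nat_lit 14, nat_lit 7]
noncomputable def Wb : List (List ℕ) := [unp 8 9 (nat_lit 0xf040e070a070e040f),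
  unp 8 11 (nat_lit 0x80f02000f0a0f00020f08),
  unp 8 11 (nat_lit 0xb070e060f0a0f060e070b),
  unp 8 11 (nat_lit 0xc080e0f070a070f0e080c),
  unp 8 11 (nat_lit 0x80f0e06070a07060e0f08),
  unp 8 11 (nat_lit 0xf0c050e070a070e050c0f)]
noncomputable def H3 : List (List ℕ) := [unp 8 7 (nat_lit 0x70a0c0f0e0b05),
  unp 8 7 (nat_lit 0x7060e01070b05),
  [nat_lit 7, nat_lit 12, nat_lit 2, nat_lit 0, nat_lit 12, nat_lit 7]]
noncomputable def Zb : List (List ℕ) := [[],
  [nat_lit 1, nat_lit 0, nat_lit 15, nat_lit 7],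
  [nat_lit 12, nat_lit 13, nat_lit 15, nat_lit 7],
  [nat_lit 15, nat_lit 4, nat_lit 14, nat_lit 7],
  [nat_lit 15, nat_lit 10, nat_lit 0, nat_lit 15],
  [nat_lit 8, nat_lit 15, nat_lit 2, nat_lit 0, nat_lit 15],
  [nat_lit 12, nat_lit 8, nat_lit 14, nat_lit 15, nat_lit 7],
  [nat_lit 8, nat_lit 15, nat_lit 14, nat_lit 6, nat_lit 7],
  [nat_lit 12, nat_lit 8, nat_lit 7, nat_lit 14, nat_lit 6, nat_lit 7],
  [nat_lit 5, nat_lit 4, nat_lit 12, nat_lit 0, nat_lit 15, nat_lit 7],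
  [nat_lit 8, nat_lit 15, nat_lit 4, nat_lit 14, nat_lit 2, nat_lit 15],
  [nat_lit 7, nat_lit 12, nat_lit 9, nat_lit 0, nat_lit 12, nat_lit 7],
  [nat_lit 1, nat_lit 2, nat_lit 15, nat_lit 0, nat_lit 14, nat_lit 7],
  [nat_lit 5, nat_lit 14, nat_lit 15, nat_lit 11, nat_lit 4, nat_lit 15],
  [nat_lit 11, nat_lit 15, nat_lit 5, nat_lit 13, nat_lit 2, nat_lit 15],
  [nat_lit 7, nat_lit 12, nat_lit 2, nat_lit 0, nat_lit 12, nat_lit 7],
  [nat_lit 8, nat_lit 15, nat_lit 9, nat_lit 11, nat_lit 0, nat_lit 15],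
  [nat_lit 5, nat_lit 11, nat_lit 12, nat_lit 0, nat_lit 15, nat_lit 7],
  [nat_lit 3, nat_lit 15, nat_lit 5, nat_lit 11, nat_lit 0, nat_lit 15],
  [nat_lit 5, nat_lit 2, nat_lit 1, nat_lit 13, nat_lit 15, nat_lit 7],
  unp 8 7 (nat_lit 0x70a0c0f0e0b05),
  unp 8 7 (nat_lit 0x70c080f0b0504),
  unp 8 7 (nat_lit 0x7060e01070b05)]
theorem width {β γ : ℕ → G} (h : Chart B S β γ) : commutingWidth S = 23 :=
  width_eq (h.width r3 tr4 (Z := Zb) (t := 10) (by decide) (Bd.step (t := 10) (W := Wb) (r := 2) (L := B.bits (List.append H3 Y4))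
    (R := [ub]) (by decide) (by decide) (by decide +kernel) fun u hu => List.mem_singleton.1 hu ▸
      Bd.leaf (t := 10) (by decide) (by decide) (by decide +kernel)) (by decide) (by decide) (by decide +kernel))
theorem f0 : pop 10 (fixSet B.T (B.pw (Y3.drop 3))) = 31671 := by decide +kernel
theorem f1 : pop 10 (fixSet B.T (B.pw (Y3.drop 2))) = 3511 := by decide +kernel
theorem f2 : pop 10 (fixSet B.T (B.pw (Y3.drop 1))) = 695 := by decide +kernel
theorem f3 : pop 10 (fixSet B.T (B.pw (Y3.drop 0))) = 183 := by decide +kernel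
theorem fv : ∀ m ≤ 3, pop 10 (fixSet B.T (B.pw (Y3.drop (3 - m)))) = [31671, 3511, 695, 183].getD m 0 := fun m hm => by
  interval_cases m
  exacts [f0, f1, f2, f3]
theorem wit2 : wit6 B (Y3.drop 1) [7, 14] 0 = true := by decide +kernel
theorem wit3 : wit6 B (Y3.drop 0) [3, 12] 1 = true := by decide +kernel
noncomputable def Z2 : List (List ℕ) := [[],
  [nat_lit 1, nat_lit 0, nat_lit 15, nat_lit 7],
  [nat_lit 15, nat_lit 8, nat_lit 0, nat_lit 15],
  [nat_lit 12, nat_lit 0, nat_lit 15, nat_lit 7],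
  [nat_lit 15, nat_lit 11, nat_lit 10, nat_lit 15],
  [nat_lit 12, nat_lit 13, nat_lit 15, nat_lit 7]]
theorem fac2B : band (subB (B.bits Z2) (B.cn [u1, []])) (subB (B.cn Z2) (B.bits [u1, []])) = true := by decide +kernel
noncomputable def Rd : List (List ℕ) := [[nat_lit 1, nat_lit 0, nat_lit 15, nat_lit 7],
  [nat_lit 12, nat_lit 13, nat_lit 15, nat_lit 7],
  [nat_lit 15, nat_lit 4, nat_lit 14, nat_lit 7],
  [nat_lit 8, nat_lit 15, nat_lit 2, nat_lit 0, nat_lit 15],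
  [nat_lit 11, nat_lit 15, nat_lit 5, nat_lit 13, nat_lit 2, nat_lit 15],
  [nat_lit 5, nat_lit 11, nat_lit 12, nat_lit 0, nat_lit 15, nat_lit 7]]
theorem Rds : subB (B.bits Rd) (B.cn' [[]]) = true := by decide +kernel
theorem Rdr : B.idB bs (B.pw ([] :: Rd)) = true := by decide +kernel
noncomputable def Ro : List (List ℕ) := [[nat_lit 1, nat_lit 0, nat_lit 15, nat_lit 7],
  [nat_lit 15, nat_lit 4, nat_lit 14, nat_lit 7],
  [nat_lit 8, nat_lit 15, nat_lit 2, nat_lit 0, nat_lit 15],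
  [nat_lit 12, nat_lit 8, nat_lit 14, nat_lit 15, nat_lit 7],
  [nat_lit 8, nat_lit 15, nat_lit 14, nat_lit 6, nat_lit 7],
  [nat_lit 3, nat_lit 15, nat_lit 5, nat_lit 11, nat_lit 0, nat_lit 15],
  [nat_lit 5, nat_lit 2, nat_lit 1, nat_lit 13, nat_lit 15, nat_lit 7]]
theorem Ros : subB (B.bits Ro) (B.cn' [u1, []]) = true := by decide +kernel
theorem Ror : B.idB bs (B.pw (Ro)) = true := by decide +kernel
theorem Ros1 : subB (B.bits Ro) (B.cn' [[]]) = true := by decide +kernel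
noncomputable def R1 : List (List ℕ) := [[nat_lit 1, nat_lit 0, nat_lit 15, nat_lit 7],
  [nat_lit 12, nat_lit 13, nat_lit 15, nat_lit 7],
  [nat_lit 15, nat_lit 4, nat_lit 14, nat_lit 7],
  [nat_lit 8, nat_lit 15, nat_lit 2, nat_lit 0, nat_lit 15],
  [nat_lit 11, nat_lit 15, nat_lit 5, nat_lit 13, nat_lit 2, nat_lit 15],
  [nat_lit 5, nat_lit 11, nat_lit 12, nat_lit 0, nat_lit 15, nat_lit 7]]
theorem R1s : subB (B.bits R1) (B.cn' [u1, []]) = true := by decide +kernel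
theorem R1r : B.idB bs (B.pw ([] :: R1)) = true := by decide +kernel
noncomputable def R2 : List (List ℕ) := [[nat_lit 1, nat_lit 0, nat_lit 15, nat_lit 7],
  [nat_lit 12, nat_lit 13, nat_lit 15, nat_lit 7],
  [nat_lit 15, nat_lit 4, nat_lit 14, nat_lit 7],
  [nat_lit 8, nat_lit 15, nat_lit 14, nat_lit 6, nat_lit 7],
  [nat_lit 8, nat_lit 15, nat_lit 9, nat_lit 11, nat_lit 0, nat_lit 15],
  unp 8 7 (nat_lit 0x70c080f0b0504)]
theorem R2s : subB (B.bits R2) (B.cn' [u1, []]) = true := by decide +kernel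
theorem R2r : B.idB bs (B.pw (u1 :: R2)) = true := by decide +kernel
theorem red4 : redB B bs Y3 [(u4, H3)] 3 = true := by decide +kernel
theorem fs1 : B.flB W4 (B.pts (u3 :: [u1, []])) 4 (dif (fixSet B.T (B.pw (u3 :: [u1, []]))) (B.bits Y3)) [u4] = true := by decide +kernel
theorem fs2 : allL [u4] (fun v => bnot (Nat.beq (pop 10 (fixSet B.T (B.pw (v :: u3 :: [u1, []])))) 695)) = true := by decide +kernel
theorem pp2 : B.popP 10 [u1, []] = 31671 * 3510 := by decide +kernel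
theorem pp3 : B.popP 10 Y3 = 31671 * 3510 * 693 := by decide +kernel

end Cfsg.Agent.H29.M23
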