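import Cfsg.Agent.H29.Fi13
import Cfsg.Agent.H29.M24
import Cfsg.Agent.H17.Fi24S

/-! Cliques, fixed points and relations for `Fi24`. -/

open Cfsg Subgroup Equiv Cfsg.Agent.H17

namespace Cfsg.Agent.H29.M24

universe u
variable {G : Type u} [Group G] {S E : Set G}

set_option maxRecDepth 100000
set_option Elab.async false
theorem allL_one {α : Type} {f : α → Bool} {a : α} (h : f a = true) : allL [a] f = true := band_true.2 ⟨h, rfl⟩
def bs : List ℕ := Fi24.base
theorem base : B.Base bs := base_of_faith Fi24T.rep Fi24.faith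
noncomputable def u3 : List ℕ := unp 8 8 (nat_lit 0x100020103020403)
noncomputable def W3 : List (List ℕ) := [[nat_lit 4],
  [nat_lit 5],
  [nat_lit 6],
  [nat_lit 7],
  [nat_lit 8],
  [nat_lit 9],
  [nat_lit 10],
  [nat_lit 11],
  unp 8 25 (nat_lit 0x304050a06050403010200010001000201030405060a050403)]
noncomputable def Y3 : List (List ℕ) := u3 :: [u1, []]
theorem fl3 : B.flB W3 (B.pts [u1, []]) 6 (B.cn' [u1, []]) [u3] = true := by decide +kernel
theorem tr3 : B.Tr Y3 := r3.tr2.cons goodB (band_true.2 ⟨by decide +kernel, fl3⟩)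
noncomputable def u4 : List ℕ := unp 8 12 (nat_lit 0x10002010302040305040605)
noncomputable def W4 : List (List ℕ) := [[nat_lit 6],
  [nat_lit 7],
  [nat_lit 8],
  [nat_lit 9],
  [nat_lit 11],
  unp 8 25 (nat_lit 0x50a0605030402030102000100010002010302040305060a05),
  unp 8 25 (nat_lit 0x304050a06050403010200010001000201030405060a050403)]
noncomputable def Y4 : List (List ℕ) := u4 :: Y3
theorem fl4 : B.flB W4 (B.pts Y3) 4 (B.cn' Y3) [u4] = true := by decide +kernel
theorem tr4 : B.Tr Y4 := tr3.cons goodB (band_true.2 ⟨by decide +kernel, fl4⟩)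
theorem f0 : pop 14 (fixSet B.T (B.pw (Y4.drop 4))) = 306936 := by decide +kernel
theorem f1 : pop 14 (fixSet B.T (B.pw (Y4.drop 3))) = 31672 := by decide +kernel
theorem f2 : pop 14 (fixSet B.T (B.pw (Y4.drop 2))) = 3512 := by
  rw [fixSet_eq goodB base (v := [2, 0]) (idB_of_S goodB Fi24S.ok (by decide +kernel))]; decide +kernel
theorem f3 : pop 14 (fixSet B.T (B.pw (Y4.drop 1))) = 696 := by
  rw [fixSet_eq goodB base (v := [4, 2, 0]) (idB_of_S goodB Fi24S.ok (by decide +kernel))]; decide +kernel
theorem f4 : pop 14 (fixSet B.T (B.pw (Y4.drop 0))) = 504 := by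
  rw [fixSet_eq goodB base (v := [6, 4, 2, 0]) (idB_of_S goodB Fi24S.ok (by decide +kernel))]; decide +kernel
theorem fv : ∀ m ≤ 4, pop 14 (fixSet B.T (B.pw (Y4.drop (4 - m)))) = [306936, 31672, 3512, 696, 504].getD m 0 := fun m hm => by
  interval_cases m
  exacts [f0, f1, f2, f3, f4]
theorem wit2 : wit6 B (Y4.drop 2) [1, 3] 0 = true := by decide +kernel
theorem wit3 : wit6 B (Y4.drop 1) [3, 5] 1 = true := by decide +kernel
theorem wit4 : wit6 B (Y4.drop 0) [7, 5] 5 = true := by decide +kernel
noncomputable def Z2 : List (List ℕ) := [[],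
  [nat_lit 1, nat_lit 2, nat_lit 0, nat_lit 1],
  unp 8 8 (nat_lit 0x100020103020403),
  unp 8 9 (nat_lit 0x10002010302040305),
  unp 8 17 (nat_lit 0x100020103040506070a0504030b0a0506),
  unp 8 13 (nat_lit 0x100020103020403050607080a),
  unp 8 15 (nat_lit 0x10002010302040305060708090a0b)]
theorem fac2B : band (subB (B.bits Z2) (B.cn [u1, []])) (subB (B.cn Z2) (B.bits [u1, []])) = true := by decide +kernel
noncomputable def Rd : List (List ℕ) := [[nat_lit 1, nat_lit 2, nat_lit 0, nat_lit 1],
  unp 8 8 (nat_lit 0x100020103020403),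
  unp 8 12 (nat_lit 0x10002010302040305060a05),
  unp 8 12 (nat_lit 0x10002010302040305040a05),
  unp 8 12 (nat_lit 0x10002010302040305040605),
  unp 8 12 (nat_lit 0x1000201030405060a050403),
  unp 8 12 (nat_lit 0x102030405060a0504030201)]
theorem Rds : subB (B.bits Rd) (B.cn' [[]]) = true := by decide +kernel
theorem Rdr : B.idB bs (B.pw ([] :: Rd)) = true := idB_of_S goodB Fi24S.ok (by decide +kernel)
noncomputable def R1 : List (List ℕ) := [unp 8 8 (nat_lit 0x100020103020403),
  unp 8 12 (nat_lit 0x10002010302040305060a05),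
  unp 8 12 (nat_lit 0x102030405060a0504030201),
  unp 8 16 (nat_lit 0x100020103020403050607080a050607),
  unp 8 16 (nat_lit 0x1020304050607080a05040302010607),
  unp 8 20 (nat_lit 0x10002010304050607080a050403060504070605),
  unp 8 22 (nat_lit 0x1000201030204050607080a0504060507060a050403)]
theorem R1s : subB (B.bits R1) (B.cn' [u1, []]) = true := by decide +kernel
theorem R1r : B.idB bs (B.pw ([] :: R1)) = true := idB_of_S goodB Fi24S.ok (by decide +kernel)
noncomputable def R2 : List (List ℕ) := [unp 8 8 (nat_lit 0x100020103020403),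
  unp 8 12 (nat_lit 0x10002010302040305060a05),
  unp 8 12 (nat_lit 0x1000201030405060a050403),
  unp 8 16 (nat_lit 0x10002010304050607080a0504030607),
  unp 8 16 (nat_lit 0x100020103020403050607080a050607),
  unp 8 20 (nat_lit 0x10002010304050607080a050403060507060a05),
  unp 8 22 (nat_lit 0x1000201030204050607080a0504060507060a050403)]
theorem R2s : subB (B.bits R2) (B.cn' [u1, []]) = true := by decide +kernel
theorem R2r : B.idB bs (B.pw (u1 :: R2)) = true := idB_of_S goodB Fi24S.ok (by decide +kernel)
noncomputable def T1 : List (List ℕ) := [unp 8 12 (nat_lit 0x10002010302040305060a05),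
  unp 8 12 (nat_lit 0x10002010302040305040a05),
  unp 8 12 (nat_lit 0x1000201030405060a050403),
  unp 8 16 (nat_lit 0x1000201030204030504060507060807),
  unp 8 16 (nat_lit 0x1020304050607080a05040302010607),
  unp 8 20 (nat_lit 0x10002010304050607080a050403060507060a05),
  unp 8 22 (nat_lit 0x1000201030204050607080a0504060507060a050403)]
theorem T1s : subB (B.bits T1) (B.cn' Y3) = true := by decide +kernel
theorem T1r : B.idB bs (B.pw ([] :: T1)) = true := idB_of_S goodB Fi24S.ok (by decide +kernel)
noncomputable def T2 : List (List ℕ) := [unp 8 12 (nat_lit 0x10002010302040305060a05),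
  unp 8 12 (nat_lit 0x10002010302040305040a05),
  unp 8 12 (nat_lit 0x102030405060a0504030201),
  unp 8 16 (nat_lit 0x10002010304050607080a0504030607),
  unp 8 16 (nat_lit 0x1000201030204030504060507060807),
  unp 8 20 (nat_lit 0x10002010304050607080a050403060504070605),
  unp 8 22 (nat_lit 0x1000201030204050607080a0504060507060a050403)]
theorem T2s : subB (B.bits T2) (B.cn' Y3) = true := by decide +kernel
theorem T2r : B.idB bs (B.pw (u1 :: T2)) = true := idB_of_S goodB Fi24S.ok (by decide +kernel)
noncomputable def T3 : List (List ℕ) := [unp 8 12 (nat_lit 0x10002010302040305060a05),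
  unp 8 12 (nat_lit 0x10002010302040305040a05),
  unp 8 12 (nat_lit 0x10002010302040305040605),
  unp 8 16 (nat_lit 0x10002010304050607080a0504030607),
  unp 8 16 (nat_lit 0x1020304050607080a05040302010607),
  unp 8 20 (nat_lit 0x10002010304050607080a050403060504070605),
  unp 8 20 (nat_lit 0x10002010304050607080a050403060507060a05)]
theorem T3s : subB (B.bits T3) (B.cn' Y3) = true := by decide +kernel
theorem T3r : B.idB bs (B.pw (u3 :: T3)) = true := idB_of_S goodB Fi24S.ok (by decide +kernel)
theorem fs1 : B.flB W4 (B.pts (u3 :: [u1, []])) 4 (dif (fixSet B.T (B.pw (u3 :: [u1, []]))) (B.bits Y3)) [u4] = true := by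
  rw [fixSet_eq goodB base (v := [4, 2, 0]) (idB_of_S goodB Fi24S.ok (by decide +kernel))]; decide +kernel
theorem fs2 : allL [u4] (fun v => bnot (Nat.beq (pop 14 (fixSet B.T (B.pw (v :: u3 :: [u1, []])))) 3512)) = true :=
  have : bnot (Nat.beq (pop 14 (fixSet B.T (B.pw (u4 :: u3 :: [u1, []])))) 3512) = true := by
    rw [fixSet_eq goodB base (v := [6, 4, 2, 0]) (idB_of_S goodB Fi24S.ok (by decide +kernel))]; decide +kernel
  allL_one this
theorem pp2 : B.popP 14 [u1, []] = 306936 * 31671 := by decide +kernel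
theorem pp3 : B.popP 14 Y3 = 306936 * 31671 * 3510 := by decide +kernel

end Cfsg.Agent.H29.M24
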