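import Mathlib
import Cfsg.Prelude.Def_RootSubgroups
import Cfsg.Agent.H29.SL2

/-! Generation of `SL₂(k(α))` by `x(k)` and `y(kα)` for an infinite field `k`
(Stieltjes continued fractions). -/

set_option autoImplicit false
open Cfsg Polynomial
open scoped MatrixGroups

namespace Cfsg.Agent.H29

variable {k : Type*} [Field k]

/-- functions which are polynomial along every line -/
def PolyLine {V : Type*} [AddCommGroup V] [Module k V] (f : V → k) : Prop :=
  ∀ v w : V, ∃ p : k[X], ∀ s : k, f (v + s • w) = p.eval s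

theorem PolyLine.mul {V : Type*} [AddCommGroup V] [Module k V] {f g : V → k} (hf : PolyLine f)
    (hg : PolyLine g) : PolyLine (fun v => f v * g v) := by
  intro v w
  obtain ⟨p, hp⟩ := hf v w; obtain ⟨q, hq⟩ := hg v w
  exact ⟨p * q, fun s => by simp [hp, hq]⟩

theorem PolyLine.exists_both [Infinite k] {V : Type*} [AddCommGroup V] [Module k V] {f g : V → k}
    (hf : PolyLine f) (hg : PolyLine g) (h1 : ∃ v, f v ≠ 0) (h2 : ∃ v, g v ≠ 0) :
    ∃ v, f v * g v ≠ 0 := by
  obtain ⟨v, hv⟩ := h1; obtain ⟨w, hw⟩ := h2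
  obtain ⟨p, hp⟩ := hf v (w - v); obtain ⟨q, hq⟩ := hg v (w - v)
  have p0 : p ≠ 0 := by rintro rfl; apply hv; simpa using hp 0
  have q0 : q ≠ 0 := by rintro rfl; apply hw; simpa using hq 1
  by_contra hc
  push Not at hc
  apply mul_ne_zero p0 q0
  apply Polynomial.funext
  intro s
  rw [eval_mul, ← hp, ← hq, hc, eval_zero]

theorem PolyLine.exists_all [Infinite k] {V : Type*} [AddCommGroup V] [Module k V] {ι : Type*}
    (s : Finset ι) (f : ι → V → k) (hf : ∀ i ∈ s, PolyLine (f i)) (h : ∀ i ∈ s, ∃ v, f i v ≠ 0) :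
    PolyLine (fun v => ∏ i ∈ s, f i v) ∧ ∃ v, ∏ i ∈ s, f i v ≠ 0 := by
  classical
  induction s using Finset.induction_on with
  | empty => exact ⟨fun _ _ => ⟨1, by simp⟩, 0, by simp⟩
  | insert a s ha ih =>
    obtain ⟨h1, h2⟩ := ih (fun i hi => hf i (Finset.mem_insert_of_mem hi))
      (fun i hi => h i (Finset.mem_insert_of_mem hi))
    simp only [Finset.prod_insert ha]
    exact ⟨(hf a (Finset.mem_insert_self _ _)).mul h1,
      (hf a (Finset.mem_insert_self _ _)).exists_both h1 (h a (Finset.mem_insert_self _ _)) h2⟩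

theorem polyLine_det {V : Type*} [AddCommGroup V] [Module k V] {n : ℕ} (f : Fin n → Fin n → V →ₗ[k] k) :
    PolyLine (fun v => (Matrix.of fun i j => f i j v).det) := by
  intro v w
  refine ⟨(Matrix.of fun i j => C (f i j v) + X * C (f i j w)).det, fun s => ?_⟩
  rw [← coe_evalRingHom, RingHom.map_det]
  refine congrArg Matrix.det ?_
  ext i j
  simp only [Matrix.of_apply, RingHom.mapMatrix_apply, Matrix.map_apply, coe_evalRingHom, eval_add,
    eval_mul, eval_C, eval_X, map_add, map_smul, smul_eq_mul]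

/-- non-degeneracy of the Hankel form of `φ` on polynomials of degree `< j` -/
def ND (φ : k[X] →ₗ[k] k) (j : ℕ) : Prop :=
  ∀ u : k[X], u.degree < j → (∀ i < j, φ (u * X ^ i) = 0) → u = 0

theorem ND_iff (φ : k[X] →ₗ[k] k) (j : ℕ) :
    ND φ j ↔ (Matrix.of fun i l : Fin j => φ (X ^ (l : ℕ) * X ^ (i : ℕ))).det ≠ 0 := by
  rw [ne_eq, ← Matrix.exists_mulVec_eq_zero_iff]
  have key : ∀ (v : Fin j → k) (i : Fin j), (Matrix.of fun i l : Fin j =>
      φ (X ^ (l : ℕ) * X ^ (i : ℕ))).mulVec v i = φ ((∑ l : Fin j, monomial l (v l)) * X ^ (i : ℕ)) := by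
    intro v i
    simp only [Matrix.mulVec, dotProduct, Matrix.of_apply, Finset.sum_mul, map_sum]
    refine Finset.sum_congr rfl fun l _ => ?_
    rw [← C_mul_X_pow_eq_monomial, mul_assoc, ← smul_eq_C_mul, map_smul, smul_eq_mul, mul_comm]
  constructor
  · rintro h ⟨v, hv, e⟩
    apply hv
    have := h ((degreeLTEquiv k j).symm v) (mem_degreeLT.1 ((degreeLTEquiv k j).symm v).2) (by
      intro i hi
      have := congrFun e ⟨i, hi⟩
      rw [key] at this
      exact this)
    have h2 : (degreeLTEquiv k j).symm v = 0 := Subtype.ext this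
    simpa using h2
  · intro h u hu hφ
    by_contra u0
    apply h
    refine ⟨degreeLTEquiv k j ⟨u, mem_degreeLT.2 hu⟩, ?_, ?_⟩
    · intro e
      have := (degreeLTEquiv k j).map_eq_zero_iff.1 e
      exact u0 (congrArg Subtype.val this)
    · ext i
      rw [key]
      have : (∑ l : Fin j, monomial l (degreeLTEquiv k j ⟨u, mem_degreeLT.2 hu⟩ l)) = u :=
        congrArg Subtype.val ((degreeLTEquiv k j).symm_apply_apply ⟨u, mem_degreeLT.2 hu⟩)
      rw [this]; exact hφ i i.2

theorem ND.ne_zero {φ : k[X] →ₗ[k] k} {j : ℕ} (h : ND φ (j + 1)) {P : k[X]} (hP : P.Monic)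
    (hd : P.natDegree = j) (ho : ∀ i < j, φ (P * X ^ i) = 0) : φ (P * X ^ j) ≠ 0 := by
  intro e
  apply hP.ne_zero
  apply h P
  · rw [degree_eq_natDegree hP.ne_zero, hd]; exact_mod_cast Nat.lt_succ_self j
  · intro i hi
    rcases Nat.lt_succ_iff_lt_or_eq.1 hi with h | rfl
    exacts [ho i h, e]

variable {K : Type*} [Field K] [Algebra k K]

theorem lanczos (φ φ' : k[X] →ₗ[k] k) (hφ : ∀ u, φ' u = φ (u * X)) (α : K) (H : Subgroup SL(2, K))
    (hx : ∀ c : k, up (algebraMap k K c) ∈ H) (hy : ∀ c : k, lo (algebraMap k K c * α) ∈ H) (j : ℕ)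
    (h1 : ∀ i ≤ j + 1, ND φ i) (h2 : ∀ i ≤ j, ND φ' i) :
    ∃ P Q : k[X], P.Monic ∧ P.natDegree = j ∧ Q.Monic ∧ Q.natDegree = j ∧
      (∀ i < j, φ (P * X ^ i) = 0) ∧ (∀ i < j, φ' (Q * X ^ i) = 0) ∧
      ∃ g ∈ H, ∃ l m : k, l ≠ 0 ∧ m ≠ 0 ∧ (g : Matrix (Fin 2) (Fin 2) K) 0 0 = l • aeval α P ∧
        (g : Matrix (Fin 2) (Fin 2) K) 1 0 = m • (α * aeval α Q) := by
  induction j with
  | zero =>
    refine ⟨1, 1, monic_one, natDegree_one, monic_one, natDegree_one, by simp, by simp, _, hy 1, 1, 1,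
      one_ne_zero, one_ne_zero, ?_, ?_⟩ <;> simp [lo_val]
  | succ j ih =>
    obtain ⟨P, Q, p1, p2, q1, q2, o1, o2, g, hg, l, m, l0, m0, e1, e2⟩ :=
      ih (fun i hi => h1 i (by omega)) (fun i hi => h2 i (by omega))
    have n1 := (h1 (j + 1) (by omega)).ne_zero p1 p2 o1
    have n2 := (h2 (j + 1) le_rfl).ne_zero q1 q2 o2
    set a := φ' (Q * X ^ j) / φ (P * X ^ j) with ha
    have a0 : a ≠ 0 := div_ne_zero n2 n1
    set P' := Q * X - C a * P with hP'
    have dQX : (Q * X).natDegree = j + 1 := by rw [natDegree_mul_X q1.ne_zero, q2]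
    have dlt : (C a * P).natDegree < (Q * X).natDegree := by
      rw [dQX, natDegree_C_mul a0, p2]; omega
    have p1' : P'.Monic := (q1.mul monic_X).sub_of_left (degree_lt_degree dlt)
    have p2' : P'.natDegree = j + 1 := by rw [hP', natDegree_sub_eq_left_of_natDegree_lt dlt, dQX]
    have o1' : ∀ i < j + 1, φ (P' * X ^ i) = 0 := by
      intro i hi
      rw [hP', sub_mul, map_sub, mul_right_comm, ← hφ, mul_assoc, ← smul_eq_C_mul, map_smul, smul_eq_mul]
      rcases Nat.lt_succ_iff_lt_or_eq.1 hi with h | rfl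
      · rw [o1 i h, o2 i h]; simp
      · rw [ha]; field_simp; ring
    have n3 := (h1 (j + 2) le_rfl).ne_zero p1' p2' o1'
    set b := φ (P' * X ^ (j + 1)) / φ' (Q * X ^ j) with hb
    have b0 : b ≠ 0 := div_ne_zero n3 n2
    set Q' := P' - C b * Q with hQ'
    have dlt' : (C b * Q).natDegree < P'.natDegree := by
      rw [p2', natDegree_C_mul b0, q2]; omega
    refine ⟨P', Q', p1', p2', p1'.sub_of_left (degree_lt_degree dlt'),
      by rw [hQ', natDegree_sub_eq_left_of_natDegree_lt dlt', p2'], o1', ?_,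
      lo (algebraMap k K (m * a / (l * b)) * α) * (up (algebraMap k K (-(l / (a * m)))) * g),
      H.mul_mem (hy _) (H.mul_mem (hx _) hg), -(l / a), -(m / b), by simp [l0, a0], by simp [m0, b0], ?_, ?_⟩
    · intro i hi
      rw [hQ', sub_mul, map_sub, hφ (P' * _), mul_assoc, ← pow_succ, mul_assoc, ← smul_eq_C_mul,
        map_smul, smul_eq_mul]
      rcases Nat.lt_succ_iff_lt_or_eq.1 hi with h | rfl
      · rw [o1' (i + 1) (by omega), o2 i h]; simp
      · rw [hb]; field_simp; ring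
    · simp only [Matrix.SpecialLinearGroup.coe_mul, lo_val, up_val, Matrix.mul_apply, Fin.sum_univ_two,
        e1, e2, hP', Algebra.smul_def]
      have l0' : algebraMap k K l ≠ 0 := by simpa using l0
      have m0' : algebraMap k K m ≠ 0 := by simpa using m0
      have a0' : algebraMap k K a ≠ 0 := by simpa using a0
      simp
      field_simp
      ring
    · simp only [Matrix.SpecialLinearGroup.coe_mul, lo_val, up_val, Matrix.mul_apply, Fin.sum_univ_two,
        e1, e2, hQ', hP', Algebra.smul_def]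
      have l0' : algebraMap k K l ≠ 0 := by simpa using l0
      have m0' : algebraMap k K m ≠ 0 := by simpa using m0
      have a0' : algebraMap k K a ≠ 0 := by simpa using a0
      have b0' : algebraMap k K b ≠ 0 := by simpa using b0
      simp
      field_simp
      ring

theorem eq_top_of_up {H : Subgroup SL(2, K)} (hx : ∀ u, up u ∈ H) {α : K} (hα : α ≠ 0)
    (hy : lo α ∈ H) : H = ⊤ := by
  have := (r1_self_conj (sl2_r1 (k := K)) (lo_mem α) (fun e => hα (lo_eq_one.1 e))).2
  rw [lower_sup_upper] at this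
  have hU : upperUnipotentSL2 K ≤ H := fun g hg => by obtain ⟨t, rfl⟩ := mem_upper.1 hg; exact hx t
  rw [eq_top_iff, ← this]
  exact sup_le hU (conjBy_le_of_mem hU hy)

theorem conj_up (g : SL(2, K)) (hg : (g : Matrix (Fin 2) (Fin 2) K) 1 0 = 0) (u : K) :
    g * up u * g⁻¹ = up ((g : Matrix (Fin 2) (Fin 2) K) 0 0 ^ 2 * u) := by
  have hd := g.det_coe
  rw [Matrix.det_fin_two, hg] at hd
  rw [mul_inv_eq_iff_eq_mul]
  ext i j; fin_cases i <;> fin_cases j <;>
    simp [up_val, Matrix.SpecialLinearGroup.coe_mul, Matrix.mul_apply, Fin.sum_univ_two, hg]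
  linear_combination (-(g : Matrix (Fin 2) (Fin 2) K) 0 0 * u) * hd

theorem gen_infinite [Infinite k] (h2 : (2 : k) ≠ 0) {α : K} (hα : IsIntegral k α) (hα0 : α ≠ 0)
    (htop : Algebra.adjoin k {α} = ⊤) (H : Subgroup SL(2, K))
    (hx : ∀ c : k, up (algebraMap k K c) ∈ H) (hy : ∀ c : k, lo (algebraMap k K c * α) ∈ H) : H = ⊤ := by
  let S : Submodule k K :=
    { carrier := {u | ∀ c : k, up (c • u) ∈ H}
      add_mem' := fun {a b} ha hb c => by rw [smul_add, up_add]; exact H.mul_mem (ha c) (hb c)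
      zero_mem' := fun c => by rw [smul_zero, up_zero]; exact H.one_mem
      smul_mem' := fun c u hu c' => by rw [smul_smul]; exact hu _ }
  suffices hS : S = ⊤ by
    refine eq_top_of_up (fun u => ?_) hα0 (by simpa using hy 1)
    have : u ∈ S := hS ▸ Submodule.mem_top
    simpa using this 1
  by_contra hS
  obtain ⟨ℓ, ℓ0, hℓ⟩ := Submodule.exists_le_ker_of_lt_top S (lt_top_iff_ne_top.2 hS)
  set F := minpoly k α
  have F1 : F.Monic := minpoly.monic hα
  set m := F.natDegree
  have G1 : (F * X).Monic := F1.mul monic_X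
  have Gd : (F * X).degree = ((m + 1 : ℕ) : WithBot ℕ) := by
    rw [degree_eq_natDegree G1.ne_zero, natDegree_mul_X F1.ne_zero]
  let τ : k[X] →ₗ[k] k := (lcoeff k m).comp (modByMonicHom (F * X))
  have τ1 : ∀ u : k[X], u.natDegree ≤ m → τ u = u.coeff m := by
    intro u hu
    have : u %ₘ (F * X) = u := (modByMonic_eq_self_iff G1).2 (by
      rw [Gd]; exact lt_of_le_of_lt (degree_le_of_natDegree_le hu) (by exact_mod_cast Nat.lt_succ_self m))
    simp [τ, this]
  have τ2 : ∀ u : k[X], τ (F * X * u) = 0 := by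
    intro u
    have : (F * X * u) %ₘ (F * X) = 0 := (modByMonic_eq_zero_iff_dvd G1).2 (dvd_mul_right _ _)
    simp [τ, this]
  let φ : k[X] → k[X] →ₗ[k] k := fun W => τ.comp (LinearMap.mulLeft k W)
  have φe : ∀ W u, φ W u = τ (W * u) := fun _ _ => rfl
  have ndx : ∀ j ≤ m + 1, ND (φ (X ^ (m + 1 - j))) j := by
    intro j hj u hu ho
    by_contra u0
    have hd : u.natDegree < j := by rwa [degree_eq_natDegree u0, Nat.cast_lt] at hu
    have := ho (j - 1 - u.natDegree) (by omega)
    rw [φe, mul_comm, mul_assoc, ← pow_add, τ1 _ (by rw [natDegree_mul_X_pow _ u0]; omega)] at this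
    have e : u.natDegree + (j - 1 - u.natDegree + (m + 1 - j)) = m := by omega
    have h5 := coeff_mul_X_pow u (j - 1 - u.natDegree + (m + 1 - j)) u.natDegree
    rw [e, this] at h5
    exact u0 (leadingCoeff_eq_zero.1 h5.symm)
  let f1 : ℕ → k[X] → k := fun j W => (Matrix.of fun i l : Fin j =>
    (τ.comp (LinearMap.mulRight k (X ^ (l : ℕ) * X ^ (i : ℕ)))) W).det
  let f2 : ℕ → k[X] → k := fun j W => (Matrix.of fun i l : Fin j =>
    (τ.comp (LinearMap.mulRight k (X * (X ^ (l : ℕ) * X ^ (i : ℕ))))) W).det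
  let f3 : k[X] → k := fun W => ℓ (aeval α W ^ 2)
  have g1 : ∀ j W, f1 j W ≠ 0 ↔ ND (φ W) j := fun j W => (ND_iff (φ W) j).symm
  have g2 : ∀ j W, f2 j W ≠ 0 ↔ ND (φ (W * X)) j := by
    intro j W
    rw [ND_iff]
    simp only [f2, φe, mul_assoc, LinearMap.comp_apply, LinearMap.mulRight_apply]
  obtain ⟨a1, a2⟩ := PolyLine.exists_all (Finset.range (m + 2)) f1 (fun j _ => polyLine_det _)
    (fun j hj => ⟨_, (g1 _ _).2 (ndx j (by simp at hj; omega))⟩)
  obtain ⟨b1, b2⟩ := PolyLine.exists_all (Finset.range (m + 1)) f2 (fun j _ => polyLine_det _)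
    (fun j hj => ⟨X ^ (m - j), (g2 _ _).2 (by
      rw [← pow_succ, show m - j + 1 = m + 1 - j by simp at hj; omega]
      exact ndx j (by simp at hj; omega))⟩)
  have c1 : PolyLine f3 := by
    intro v w
    refine ⟨C (ℓ (aeval α v ^ 2)) + C (ℓ (2 * aeval α v * aeval α w)) * X +
      C (ℓ (aeval α w ^ 2)) * X ^ 2, fun s => ?_⟩
    have : aeval α (v + s • w) ^ 2 = aeval α v ^ 2 + s • (2 * aeval α v * aeval α w) +
        s ^ 2 • aeval α w ^ 2 := by
      simp only [map_add, map_smul, Algebra.smul_def, map_pow, map_mul, aeval_algebraMap_apply_eq_algebraMap_eval]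
      simp
      ring
    show ℓ (aeval α (v + s • w) ^ 2) = _
    rw [this]
    simp only [map_add, map_smul, eval_add, eval_mul, eval_C, eval_X, eval_pow, smul_eq_mul]
    ring
  have c2 : ∃ W, f3 W ≠ 0 := by
    by_contra hc
    push Not at hc
    apply ℓ0
    ext u
    have hu : u ∈ Algebra.adjoin k {α} := htop ▸ Algebra.mem_top
    rw [Algebra.adjoin_singleton_eq_range_aeval] at hu
    obtain ⟨W, rfl⟩ := hu
    have e1 := hc (W + 1)
    have e2 := hc (W - 1)
    simp only [f3, map_add, map_sub, map_one] at e1 e2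
    have : (4 : k) • aeval α W = (aeval α W + 1) ^ 2 - (aeval α W - 1) ^ 2 := by
      rw [Algebra.smul_def, map_ofNat]; ring
    have e3 := congrArg ℓ this
    rw [map_sub, e1, e2, map_smul, sub_zero, smul_eq_mul, mul_eq_zero] at e3
    refine e3.resolve_left ?_
    rw [show (4 : k) = 2 * 2 by norm_num]; exact mul_ne_zero h2 h2
  obtain ⟨W, hW⟩ := (a1.mul b1).exists_both c1 (a1.exists_both b1 a2 b2) c2
  simp only [ne_eq, mul_eq_zero, not_or, Finset.prod_eq_zero_iff, not_exists, not_and] at hW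
  obtain ⟨⟨w1, w2⟩, w3⟩ := hW
  obtain ⟨P, Q, p1, p2, q1, q2, o1, o2, g, hg, l, m', l0, m0, e1, e2⟩ :=
    lanczos (φ W) (φ (W * X)) (fun u => by rw [φe, φe]; congr 1; ring) α H hx hy m
      (fun i hi => (g1 _ _).1 (w1 i (by simp; omega))) (fun i hi => (g2 _ _).1 (w2 i (by simp; omega)))
  have hQ : Q = F := by
    rw [← sub_eq_zero]
    apply (g2 _ _).1 (w2 m (by simp))
    · have := degree_sub_lt (p := Q) (q := F) (by
        rw [degree_eq_natDegree q1.ne_zero, degree_eq_natDegree F1.ne_zero, q2]) q1.ne_zero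
        (by rw [q1.leadingCoeff, F1.leadingCoeff])
      rwa [degree_eq_natDegree q1.ne_zero, q2] at this
    · intro i hi
      rw [sub_mul, map_sub, o2 i hi, φe, show W * X * (F * X ^ i) = F * X * (W * X ^ i) by ring, τ2,
        sub_zero]
  rw [hQ, minpoly.aeval, mul_zero, smul_zero] at e2
  obtain ⟨c, hc⟩ : ∃ c, (W * P) %ₘ (F * X) = C c := by
    set r := (W * P) %ₘ (F * X) with hr
    refine ⟨r.coeff 0, eq_C_of_natDegree_eq_zero ?_⟩
    by_contra hn
    have r0 : r ≠ 0 := by rintro e; apply hn; rw [e]; simp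
    have hd : r.natDegree ≤ m := by
      have := degree_modByMonic_lt (W * P) G1
      rw [Gd, ← hr, degree_eq_natDegree r0, Nat.cast_lt] at this
      omega
    have := o1 (m - r.natDegree) (by omega)
    rw [φe, ← mul_assoc, ← modByMonic_add_div (W * P) (F * X), add_mul, map_add, mul_assoc (F * X), τ2,
      add_zero, ← hr, τ1 _ (by rw [natDegree_mul_X_pow _ r0]; omega)] at this
    have h5 := coeff_mul_X_pow r (m - r.natDegree) r.natDegree
    rw [show r.natDegree + (m - r.natDegree) = m by omega, this] at h5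
    exact r0 (leadingCoeff_eq_zero.1 h5.symm)
  have e3 : aeval α W * aeval α P = algebraMap k K c := by
    rw [← map_mul, ← modByMonic_add_div (W * P) (F * X), hc]
    simp [F]
  apply w3
  apply hℓ
  intro c'
  have hd := g.det_coe
  rw [Matrix.det_fin_two, e2, mul_zero, sub_zero] at hd
  have := conj_up g⁻¹ (by simp [Matrix.SpecialLinearGroup.coe_inv, Matrix.adjugate_fin_two, e2])
    (algebraMap k K (c' * (c * l) ^ 2))
  have h3 : c' • aeval α W ^ 2 = ((g⁻¹ : SL(2, K)) : Matrix (Fin 2) (Fin 2) K) 0 0 ^ 2 *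
      algebraMap k K (c' * (c * l) ^ 2) := by
    simp only [Matrix.SpecialLinearGroup.coe_inv, Matrix.adjugate_fin_two, map_mul, map_pow, ← e3,
      Algebra.smul_def] at *
    simp only [Matrix.of_apply, Matrix.cons_val', Matrix.cons_val_zero, Matrix.cons_val_fin_one]
    rw [e1] at hd
    linear_combination (-(algebraMap k K c' * aeval α W ^ 2) *
      (algebraMap k K l * aeval α P * (g : Matrix (Fin 2) (Fin 2) K) 1 1 + 1)) * hd
  rw [h3, ← this]
  exact H.mul_mem (H.mul_mem (H.inv_mem hg) (hx _)) (H.inv_mem (H.inv_mem hg))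

end Cfsg.Agent.H29
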