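import Mathlib
import Cfsg.Agent.H29.DicksonInf
import Cfsg.Agent.H12.Dickson

/-! Generation of `SL₂(k(α))` by `x(k)` and `y(kα)`. -/

set_option autoImplicit false
open Cfsg Polynomial Matrix
open scoped MatrixGroups Pointwise

namespace Cfsg.Agent.H29

theorem dihedral_mem {G : Type*} [Group G] {a s : G} (h1 : s * s = 1) (h2 : s * a * s⁻¹ = a⁻¹) {g : G}
    (hg : g ∈ Subgroup.closure {a, s}) : g ∈ Subgroup.zpowers a ∨ g * g = 1 := by
  have hs : s⁻¹ = s := inv_eq_of_mul_eq_one_right h1
  have hc : ∀ x ∈ Subgroup.zpowers a, s * x * s = x⁻¹ := by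
    rintro _ ⟨n, rfl⟩
    have := congrArg (fun y => y ^ n) h2
    simp only [conj_zpow, _root_.inv_zpow] at this
    rw [hs] at this
    exact this
  have : g ∈ Subgroup.zpowers a ∨ g * s ∈ Subgroup.zpowers a := by
    induction hg using Subgroup.closure_induction with
    | mem x hx =>
      rcases hx with rfl | rfl
      · exact Or.inl (Subgroup.mem_zpowers _)
      · exact Or.inr (h1 ▸ Subgroup.one_mem _)
    | one => exact Or.inl (Subgroup.one_mem _)
    | mul x y _ _ hx hy =>
      rcases hx with hx | hx <;> rcases hy with hy | hy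
      · exact Or.inl (Subgroup.mul_mem _ hx hy)
      · exact Or.inr (by rw [mul_assoc]; exact Subgroup.mul_mem _ hx hy)
      · refine Or.inr ?_
        have := Subgroup.mul_mem _ hx (Subgroup.inv_mem _ hy)
        rw [← hc y hy] at this
        convert this using 1
        calc x * y * s = x * (s * s) * y * s := by rw [h1, mul_one]
          _ = _ := by group
      · refine Or.inl ?_
        have := Subgroup.mul_mem _ hx (Subgroup.inv_mem _ hy)
        rw [← hc _ hy] at this
        convert this using 1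
        calc x * y = x * (s * s) * y * (s * s) := by rw [h1, mul_one, mul_one]
          _ = _ := by group
    | inv x _ hx =>
      rcases hx with hx | hx
      · exact Or.inl (Subgroup.inv_mem _ hx)
      · refine Or.inr ?_
        have := hc _ (Subgroup.inv_mem _ hx)
        rw [inv_inv] at this
        rw [← this] at hx
        convert hx using 1
        rw [_root_.mul_inv_rev, ← mul_assoc, mul_inv_cancel, one_mul]
  rcases this with h | h
  · exact Or.inl h
  · refine Or.inr ?_
    have := hc _ h
    calc g * g = (g * s) * (s * (g * s) * s) := by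
          calc g * g = g * (s * s) * g * (s * s) := by rw [h1, mul_one, mul_one]
            _ = _ := by group
      _ = 1 := by rw [this, mul_inv_cancel]

variable {k K : Type*} [Field k] [Field K] [Algebra k K]

theorem trace_inv {E : Subfield K} {c : PGL(2, K)} {g : GL (Fin 2) K}
    (h : ProjGenLinGroup.mk g ∈ MulAut.conj c • H12.subPGL E) :
    (g : Matrix (Fin 2) (Fin 2) K).trace ^ 2 / (g : Matrix (Fin 2) (Fin 2) K).det ∈ E := by
  obtain ⟨c, rfl⟩ := ProjGenLinGroup.mk_surjective c
  rw [Subgroup.mem_smul_pointwise_iff_exists] at h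
  obtain ⟨_, ⟨m, rfl⟩, e⟩ := h
  obtain ⟨m, rfl⟩ := ProjGenLinGroup.mk_surjective m
  rw [ProjGenLinGroup.map_mk, MulAut.smul_def, MulAut.conj_apply, ← map_inv, ← map_mul, ← map_mul,
    ProjGenLinGroup.mk_eq_mk_iff] at e
  obtain ⟨u, rfl⟩ := e
  have hu : (u : K) ≠ 0 := u.ne_zero
  have e1 : ((c * GeneralLinearGroup.map E.subtype m * c⁻¹ * GeneralLinearGroup.scalar (Fin 2) u :
      GL (Fin 2) K) : Matrix (Fin 2) (Fin 2) K) = (u : K) • ((c : Matrix (Fin 2) (Fin 2) K) *
        (m : Matrix (Fin 2) (Fin 2) E).map E.subtype * (c⁻¹ : GL (Fin 2) K)) := by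
    simp [GeneralLinearGroup.scalar, Matrix.scalar_apply, GeneralLinearGroup.map]
    ext i j; simp [Matrix.mul_diagonal, mul_comm]
  rw [e1, trace_smul, det_smul, Matrix.trace_units_conj, Matrix.det_units_conj]
  have : (u • ((m : Matrix (Fin 2) (Fin 2) E).map E.subtype).trace) ^ 2 / ((u : K) ^ Fintype.card (Fin 2) *
      ((m : Matrix (Fin 2) (Fin 2) E).map E.subtype).det) = E.subtype ((m : Matrix (Fin 2) (Fin 2) E).trace ^ 2 /
        (m : Matrix (Fin 2) (Fin 2) E).det) := by
    rw [map_div₀, map_pow, RingHom.map_det, AddMonoidHom.map_trace]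
    simp only [Fintype.card_fin, smul_eq_mul, mul_pow, Units.smul_def]
    rw [mul_div_mul_left _ _ (pow_ne_zero _ hu)]; rfl
  exact this ▸ ((m : Matrix (Fin 2) (Fin 2) E).trace ^ 2 / (m : Matrix (Fin 2) (Fin 2) E).det).2

theorem gen_finite [Finite K] (h2 : (2 : k) ≠ 0) (h3 : Nat.card k ≠ 3) {α : K} (hα0 : α ≠ 0)
    (htop : Algebra.adjoin k {α} = ⊤) (H : Subgroup SL(2, K))
    (hx : ∀ c : k, up (algebraMap k K c) ∈ H) (hy : ∀ c : k, lo (algebraMap k K c * α) ∈ H) : H = ⊤ := by
  have : Finite k := Finite.of_injective _ (algebraMap k K).injective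
  obtain ⟨p, hp⟩ := CharP.exists k
  have hpp : p.Prime := CharP.char_is_prime k p
  have : Fact p.Prime := ⟨hpp⟩
  have : CharP K p := charP_of_injective_algebraMap (algebraMap k K).injective p
  have p2 : p ≠ 2 := by rintro rfl; exact h2 (by exact_mod_cast CharP.cast_eq_zero k 2)
  have h2K : (2 : K) ≠ 0 := by
    intro e; apply h2; apply (algebraMap k K).injective; simpa [map_ofNat] using e
  let π : SL(2, K) →* PGL(2, K) := SpecialLinearGroup.toPGL
  have πu : ∀ u : K, π (up u) = H12.affPGL 1 u := fun u => H12.mk_toGL_upper u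
  set H' := H.map π with hH'
  have : Finite PGL(2, K) := Finite.of_surjective _ ProjGenLinGroup.mk_surjective
  let f : Multiplicative k →* H' :=
    { toFun := fun c => ⟨π (up (algebraMap k K c.toAdd)), _, hx _, rfl⟩
      map_one' := by ext; simp [up_zero]
      map_mul' := fun a b => by ext; simp [up_add] }
  have finj : Function.Injective f := by
    intro a b e
    have := congrArg Subtype.val e
    simp only [f, MonoidHom.coe_mk, OneHom.coe_mk, πu, H12.affPGL_inj] at this
    exact Multiplicative.toAdd.injective ((algebraMap k K).injective this.2)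
  have hd : Nat.card k ∣ Nat.card H' := Subgroup.card_dvd_of_injective (α := Multiplicative k) f finj
  have := Fintype.ofFinite k
  obtain ⟨n, -, hn⟩ := FiniteField.card k p
  rw [← Nat.card_eq_fintype_card] at hn
  have hpd : p ∣ Nat.card H' := (hn ▸ dvd_pow_self p n.ne_zero).trans hd
  have u1 : π (up 1) ∈ H' := ⟨_, by simpa using hx 1, rfl⟩
  have u1' : π (up 1) ≠ 1 := by rw [πu, ne_eq, H12.affPGL_eq_one]; simp
  rcases H12.dickson_pgl2 p H' with ⟨x, h1, -⟩ | ⟨-, h1⟩ | ⟨a, s, ⟨h1, h4, h5, -⟩, h6⟩ | ⟨-, h1⟩ |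
    ⟨E, c, -, -, h1⟩
  · exfalso
    have e := H12.eq_of_mem_unip_of_smul_eq (H12.mem_unip_inf.2 ⟨1, πu 1⟩) u1' (h1 _ u1)
    have := h1 (π (lo α)) ⟨_, by simpa using hy 1, rfl⟩
    rw [e] at this
    change ProjGenLinGroup.mk (SpecialLinearGroup.toGL (lo α)) • _ = _ at this
    rw [H12.pgl_mk_smul, H12.gl_smul_inf_eq_inf_iff] at this
    exact hα0 this
  · exact absurd hpd h1
  · exfalso
    have ho : orderOf (π (up 1)) = p := by
      refine orderOf_eq_prime ?_ u1'
      rw [πu, H12.affPGL_one_pow]; simp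
    rcases dihedral_mem h4 h5 (h1 ▸ u1) with h | h
    · exact h6 (ho ▸ orderOf_dvd_of_mem_zpowers h)
    · have := orderOf_dvd_of_pow_eq_one (x := π (up 1)) (n := 2) (by rw [pow_two]; exact h)
      rw [ho] at this
      exact p2 ((Nat.prime_dvd_prime_iff_eq hpp Nat.prime_two).1 this)
  · exfalso
    rcases h1 with ⟨h1, -⟩ | ⟨rfl, h1⟩
    · exact h1 hpd
    · rw [h1, hn] at hd
      have : 2 ≤ (n : ℕ) := by
        by_contra hc
        have : (n : ℕ) = 1 := by have := n.pos; omega
        rw [this] at hn; exact h3 hn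
      have := (pow_dvd_pow 3 this).trans hd
      norm_num at this
  · have hle : H' ≤ MulAut.conj c • H12.subPGL E := by
      rcases h1 with h1 | h1
      · exact h1.le
      · rw [h1]
        refine Subgroup.pointwise_smul_le_pointwise_smul_iff.2 ?_
        rintro _ ⟨g, rfl⟩; exact ⟨_, rfl⟩
    have key : ∀ t : k, (2 + algebraMap k K t * α) ^ 2 ∈ E := by
      intro t
      have := trace_inv (g := SpecialLinearGroup.toGL (up 1 * lo (algebraMap k K t * α)))
        (hle ⟨_, H.mul_mem (by simpa using hx 1) (hy t), rfl⟩)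
      convert this using 1
      simp [Matrix.trace_fin_two, lo_val, up_val, Matrix.SpecialLinearGroup.coe_mul, Matrix.mul_apply,
        Fin.sum_univ_two, Matrix.det_fin_two]
      ring
    have key2 : ∀ t : k, algebraMap k K t * α ∈ E := by
      intro t
      have := E.div_mem (E.sub_mem (key t) (key (-t))) (show (8 : K) ∈ E from ofNat_mem E 8)
      convert this using 1
      have : (8 : K) ≠ 0 := by rw [show (8 : K) = 2 ^ 3 by norm_num]; exact pow_ne_zero _ h2K
      simp only [map_neg]; field_simp; ring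
    have aE : α ∈ E := by simpa using key2 1
    have hE : E = ⊤ := by
      rw [eq_top_iff]
      intro u _
      have hu : u ∈ Algebra.adjoin k {α} := htop ▸ Algebra.mem_top
      induction hu using Algebra.adjoin_induction with
      | mem x hx => rw [hx]; exact aE
      | algebraMap r => have := E.div_mem (key2 r) aE; rwa [mul_div_cancel_right₀ _ hα0] at this
      | add x y _ _ hx hy => exact E.add_mem (hx trivial) (hy trivial)
      | mul x y _ _ hx hy => exact E.mul_mem (hx trivial) (hy trivial)
    subst hE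
    have hall : ∀ g : SL(2, K), π g ∈ H' := by
      intro g
      have hge : MulAut.conj c • H12.subPSL ⊤ ≤ H' := by
        rcases h1 with h1 | h1
        · rw [h1]
          refine Subgroup.pointwise_smul_le_pointwise_smul_iff.2 ?_
          rintro _ ⟨g, rfl⟩; exact ⟨_, rfl⟩
        · exact h1.ge
      apply hge
      obtain ⟨c, rfl⟩ := ProjGenLinGroup.mk_surjective c
      rw [Subgroup.mem_smul_pointwise_iff_exists]
      let g' : SL(2, (⊤ : Subfield K)) := ⟨((c⁻¹ : GL (Fin 2) K) * (g : Matrix (Fin 2) (Fin 2) K) * c).map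
        Subfield.topEquiv.symm, by
          rw [← RingEquiv.mapMatrix_apply, ← RingEquiv.map_det, Matrix.det_units_conj', g.det_coe, map_one]⟩
      refine ⟨_, ⟨(g' : PSL(2, (⊤ : Subfield K))), rfl⟩, ?_⟩
      rw [MonoidHom.comp_apply, ProjectiveSpecialLinearGroup.toPGL_mk, ProjGenLinGroup.map_mk,
        MulAut.smul_def, MulAut.conj_apply, ← map_inv, ← map_mul, ← map_mul]
      change _ = ProjGenLinGroup.mk (SpecialLinearGroup.toGL g)
      congr 1
      ext1
      have : ((GeneralLinearGroup.map (⊤ : Subfield K).subtype (SpecialLinearGroup.toGL g') : GL (Fin 2) K) :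
          Matrix (Fin 2) (Fin 2) K) = (c⁻¹ : GL (Fin 2) K) * (g : Matrix (Fin 2) (Fin 2) K) * c := by
        ext i j; rfl
      rw [Units.val_mul, Units.val_mul, this]
      simp [Matrix.mul_assoc]
    refine eq_top_of_up (fun u => ?_) hα0 (by simpa using hy 1)
    obtain ⟨h, hh, e⟩ := hall (up (u / 2))
    have hz : h⁻¹ * up (u / 2) ∈ Subgroup.center SL(2, K) := by
      rw [← SpecialLinearGroup.toPGL_ker, MonoidHom.mem_ker, map_mul, map_inv]
      exact inv_mul_eq_one.2 e
    have hz2 : (h⁻¹ * up (u / 2)) * (h⁻¹ * up (u / 2)) = 1 := by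
      obtain ⟨r, hr, e⟩ := Matrix.SpecialLinearGroup.mem_center_iff.1 hz
      generalize h⁻¹ * up (u / 2) = w at e
      apply Subtype.ext
      change (w : Matrix (Fin 2) (Fin 2) K) * (w : Matrix (Fin 2) (Fin 2) K) = 1
      rw [← e, ← map_mul, ← pow_two]
      simp at hr; rcases hr with hr | hr <;> simp [hr]
    have e2 : up u = h * h := by
      have c1 := Subgroup.mem_center_iff.1 hz h
      rw [show u = u / 2 + u / 2 by field_simp; ring, up_add]
      calc up (u / 2) * up (u / 2) = h * (h⁻¹ * up (u / 2) * h) * (h⁻¹ * up (u / 2)) := by group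
        _ = h * h * ((h⁻¹ * up (u / 2)) * (h⁻¹ * up (u / 2))) := by rw [← c1]; group
        _ = _ := by rw [hz2, mul_one]
    exact e2 ▸ H.mul_mem hh hh

/-- Dickson's generation lemma -/
theorem gen_sl2 (h2 : (2 : k) ≠ 0) (h3 : Nat.card k ≠ 3) {α : K} (hα : IsIntegral k α) (hα0 : α ≠ 0)
    (htop : Algebra.adjoin k {α} = ⊤) (H : Subgroup SL(2, K))
    (hx : ∀ c : k, up (algebraMap k K c) ∈ H) (hy : ∀ c : k, lo (algebraMap k K c * α) ∈ H) : H = ⊤ := by
  rcases finite_or_infinite k with h | h
  · have : Module.Finite k K := by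
      have := Algebra.finite_adjoin_simple_of_isIntegral hα
      rw [htop] at this
      exact Module.Finite.equiv Subalgebra.topEquiv.toLinearEquiv
    have : Finite K := Module.finite_of_finite k
    exact gen_finite h2 h3 hα0 htop H hx hy
  · exact gen_infinite h2 hα hα0 htop H hx hy

end Cfsg.Agent.H29
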