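import Cfsg.Agent.H29.M22

/-! The common neighbourhood of two non-commuting transpositions: certified search. -/

open Cfsg Subgroup Equiv Cfsg.Agent.H17

namespace Cfsg.Agent.H29.S23
open M22

set_option maxRecDepth 100000
set_option Elab.async false
noncomputable def V : List (List ℕ) := [[nat_lit 2, nat_lit 3, nat_lit 1, nat_lit 2, nat_lit 0, nat_lit 1],
  unp 8 8 (nat_lit 0x100020103020403),
  unp 8 10 (nat_lit 0x1000201030204030504),
  unp 8 12 (nat_lit 0x10002010302040305040605),
  unp 8 8 (nat_lit 0x100020103020703),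
  unp 8 10 (nat_lit 0x1000201030207030807),
  unp 8 12 (nat_lit 0x10002010302040305040905)]
theorem src : srcB B u2 V 3 7 126 7 20 22 = true := by decide +kernel
noncomputable def Y0 : List (List ℕ) := [[nat_lit 2, nat_lit 3, nat_lit 1, nat_lit 2, nat_lit 0, nat_lit 1],
  unp 8 8 (nat_lit 0x100020103020403),
  unp 8 10 (nat_lit 0x1000201030204030504),
  unp 8 12 (nat_lit 0x10002010302040305040605),
  unp 8 8 (nat_lit 0x100020103020703),
  unp 8 10 (nat_lit 0x1000201030207030807),
  unp 8 12 (nat_lit 0x10002010302040305040905)]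
noncomputable def C0 : ℕ := nat_lit 0x800000000000000000000000000000000010000000000000000000000000000000000000000000000000000000000000000000000000000000000000000000000003000000000000000000001c0004000000000000000000000000000000000f8000000000000000000000000000000000033f00000000000000000000000078000000000000000000000000000001e01e000001c01e0003c000000000000000000000000000000000fc0000000000000000000000000000000000000000000000000000000000000000000000000000000000003ffc0001e000000fc00000000000000000000000000000000000007f800000000100000000180000000000000000007ffffe00000000000000000000000000000800000000000000000018000000000000000031f00002381d001c0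
theorem q0 : qB B C0 Y0 3 7 126 = true := by decide +kernel
noncomputable def J0 : List (List ℕ × List ℕ × ℕ) := [([nat_lit 2, nat_lit 1], [nat_lit 0, nat_lit 2, nat_lit 6, nat_lit 3, nat_lit 2, nat_lit 1], 0),
  (unp 8 10 (nat_lit 0x1020307080905040302), [nat_lit 0, nat_lit 6, nat_lit 5, nat_lit 1], 0)]
theorem rj0 : rjB B C0 Y0 J0 = true := by decide +kernel
theorem in0 : subB (ones B.T.n) (Nat.lor (Nat.lor B.N0 (B.fl Y0 5 (fsts J0))) (Nat.lor (bit 1) (bit 2))) = true := by
  decide +kernel
noncomputable def Y1 : List (List ℕ) := [[nat_lit 2, nat_lit 3, nat_lit 1, nat_lit 2, nat_lit 0, nat_lit 1],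
  unp 8 8 (nat_lit 0x100020103020403),
  unp 8 10 (nat_lit 0x1000201030204030504),
  unp 8 12 (nat_lit 0x10002010302040305040605),
  unp 8 8 (nat_lit 0x100020103020703),
  unp 8 10 (nat_lit 0x1000201030207030807),
  unp 8 8 (nat_lit 0x102030407030201)]
noncomputable def C1 : ℕ := nat_lit 0x3860000000000000000000000000000000000000007c01ff0000000000000000000000000000000000000000000000000000000000000000000000000000c0fc000000000000000000000fc0003807f80000000f8000000078000000000000000000000000018003c7f8000000e05e00000000fffffffe0000000000018000000000000000031f00002381d001c0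
theorem q1 : qB B C1 Y1 3 7 126 = true := by decide +kernel
noncomputable def J1 : List (List ℕ × List ℕ × ℕ) := [([nat_lit 1], [nat_lit 0, nat_lit 8, nat_lit 7, nat_lit 4, nat_lit 8, nat_lit 1], 0)]
theorem rj1 : rjB B C1 Y1 J1 = true := by decide +kernel
noncomputable def S1a : ℕ := nat_lit 0x3ff000ffc00000000000000000000000000000000000000000000000000000000000000000000000000000000000000000000001f8f860000000000000000001fe00f007f800000000007c01ff000000600000007fe000387fff0000000000000001fffffc00000c0000000000000000000f00c0fc0ff000000000007fc0000fc0003807f80007c00f8000000078601607f8007f800618000000018003c7f8000000e05e00048000fffffffe000001dce07180000001ffe07e3e7f1fff0fe3f9d7fdc9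
noncomputable def S1b : ℕ := S1a
theorem acc1 : accB B C1 Y1 J1 7 4 4 ([nat_lit 2, nat_lit 1]) ([nat_lit 2, nat_lit 1]) ([]) 0 S1a S1b = true := by decide +kernel
noncomputable def Y2 : List (List ℕ) := [[nat_lit 2, nat_lit 3, nat_lit 1, nat_lit 2, nat_lit 0, nat_lit 1],
  unp 8 8 (nat_lit 0x100020103020403),
  unp 8 10 (nat_lit 0x1000201030204030504),
  unp 8 12 (nat_lit 0x10002010302040305040605),
  unp 8 12 (nat_lit 0x10002010304050609050403),
  unp 8 10 (nat_lit 0x1000201030207030807),
  unp 8 12 (nat_lit 0x10002010304050607030405)]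
noncomputable def C2 : ℕ := nat_lit 0x600000000618600000000000000000000000000000000000000000000000000000000000000000000000000000000000000000000000000000000000000000000000000000030000000000000000008000000000000000000000000000000006cc00000000000000000000000000000000000000000000000000000000000000007200001e000000000000000000000000000000021c0003c00000000000000000001fffe0000000003000800000000000000000000000c200000000000000000000000000000000000000000000000000000000c00c0021c0000000000000c000000000000000000000000000000004c80000024000000000020008000000000000000c66733200020000000000e00000100007800000000000000000078000000000078001836700f02c06300240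
theorem q2 : qB B C2 Y2 3 7 126 = true := by decide +kernel
noncomputable def J2 : List (List ℕ × List ℕ × ℕ) := [([nat_lit 1], [nat_lit 0, nat_lit 6, nat_lit 7, nat_lit 2, nat_lit 6, nat_lit 1], 0)]
theorem rj2 : rjB B C2 Y2 J2 = true := by decide +kernel
noncomputable def S2a : ℕ := nat_lit 0xc30c030c3000000006000000006186000000000000000000000000000000000000000000000000000000000000000000000000000000000000000000000000000000000000000000000084060030300000000000000000080000000000000000000000000cccc0006cc000000000000000000000000000000000000000000000000000000000000780072001ffe000000000000000000000000000000021fc003c2667ffd9998cf8007c01fffefcc7e00003002ac0000000000060db007c200c2000000006f999ff0001ff80000000000000000000000000000000000c00c0021c0000000000000c000000000000000000000000000000004c80000024004e09002021009980000000000000c6673320c321800000000e0001e137fff8000000007ff80001987e79e79e600078021876700f86c06367249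
noncomputable def S2b : ℕ := S2a
theorem acc2 : accB B C2 Y2 J2 6 4 4 ([nat_lit 2, nat_lit 1]) ([nat_lit 2, nat_lit 1]) ([]) 0 S2a S2b = true := by decide +kernel

universe u
variable {K : Type u} [Group K] [Finite K] {E : Set K} {d c s : K} {e : ℕ → K}

/-- the possible shapes -/
def Goal (E : Set K) (d c s : K) : Prop := Half B E d c s C0 ∨ Half B E d c s C1 ∨ Half B E d c s C2

section
variable (hE : Tr3 E) (hS : Src B E d c s V 126 e)
include hE hS
theorem n0 (h : Fit B (Nb E d) s e [[nat_lit 2, nat_lit 3, nat_lit 1, nat_lit 2, nat_lit 0, nat_lit 1], unp 8 8 (nat_lit 0x100020103020403), unp 8 10 (nat_lit 0x1000201030204030504), unp 8 12 (nat_lit 0x10002010302040305040605), [nat_lit 1, nat_lit 2, nat_lit 0, nat_lit 1]]) : Goal E d c s := by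
  obtain ⟨u, hu, h⟩ := Fit.step hE hS.fit h (W := []) (r := 0) (R := []) (by decide +kernel)
  exact absurd hu List.not_mem_nil
theorem n1 (h : Fit B (Nb E d) s e [[nat_lit 2, nat_lit 3, nat_lit 1, nat_lit 2, nat_lit 0, nat_lit 1], unp 8 8 (nat_lit 0x100020103020403), unp 8 10 (nat_lit 0x1000201030204030504), unp 8 12 (nat_lit 0x10002010302040305040605), unp 8 8 (nat_lit 0x100020103020703), unp 8 10 (nat_lit 0x1000201030207030807), unp 8 12 (nat_lit 0x10002010304050607030405)]) : Goal E d c s :=
  (Fit.rej h hS.fit (w := unp 8 9 (nat_lit 0x10204050605040201)) (a := 0) (b := 0) (by decide +kernel)).elim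
theorem n2 (h : Fit B (Nb E d) s e [[nat_lit 2, nat_lit 3, nat_lit 1, nat_lit 2, nat_lit 0, nat_lit 1], unp 8 8 (nat_lit 0x100020103020403), unp 8 10 (nat_lit 0x1000201030204030504), unp 8 12 (nat_lit 0x10002010302040305040605), unp 8 8 (nat_lit 0x100020103020703), unp 8 10 (nat_lit 0x1000201030207030807), unp 8 8 (nat_lit 0x102030407030201)]) : Goal E d c s :=
  .inr (.inl (h.leaf hS q1 (w := []) (by decide +kernel)))
theorem n3 (h : Fit B (Nb E d) s e [[nat_lit 2, nat_lit 3, nat_lit 1, nat_lit 2, nat_lit 0, nat_lit 1], unp 8 8 (nat_lit 0x100020103020403), unp 8 10 (nat_lit 0x1000201030204030504), unp 8 12 (nat_lit 0x10002010302040305040605), unp 8 8 (nat_lit 0x100020103020703), unp 8 10 (nat_lit 0x1000201030207030807), unp 8 12 (nat_lit 0x10002010302040305040905)]) : Goal E d c s :=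
  .inl (h.leaf hS q0 (w := []) (by decide +kernel))
theorem n4 (h : Fit B (Nb E d) s e [[nat_lit 2, nat_lit 3, nat_lit 1, nat_lit 2, nat_lit 0, nat_lit 1], unp 8 8 (nat_lit 0x100020103020403), unp 8 10 (nat_lit 0x1000201030204030504), unp 8 12 (nat_lit 0x10002010302040305040605), unp 8 8 (nat_lit 0x100020103020703), unp 8 10 (nat_lit 0x1000201030207030807)]) : Goal E d c s := by
  obtain ⟨u, hu, h⟩ := Fit.step hE hS.fit h (W := []) (r := 0) (R := [unp 8 12 (nat_lit 0x10002010304050607030405), unp 8 8 (nat_lit 0x102030407030201), unp 8 12 (nat_lit 0x10002010302040305040905)]) (by decide +kernel)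
  simp only [List.mem_cons, List.not_mem_nil, or_false] at hu
  rcases hu with rfl | rfl | rfl
  exacts [n1 hE hS h, n2 hE hS h, n3 hE hS h]
theorem n5 (h : Fit B (Nb E d) s e [[nat_lit 2, nat_lit 3, nat_lit 1, nat_lit 2, nat_lit 0, nat_lit 1], unp 8 8 (nat_lit 0x100020103020403), unp 8 10 (nat_lit 0x1000201030204030504), unp 8 12 (nat_lit 0x10002010302040305040605), unp 8 8 (nat_lit 0x100020103020703)]) : Goal E d c s := by
  obtain ⟨u, hu, h⟩ := Fit.step hE hS.fit h (W := [unp 8 25 (nat_lit 0x1020304050906050403020100010203040506090504030201)]) (r := 1) (R := [unp 8 10 (nat_lit 0x1000201030207030807)]) (by decide +kernel)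
  simp only [List.mem_cons, List.not_mem_nil, or_false] at hu
  rcases hu with rfl
  exacts [n4 hE hS h]
theorem n6 (h : Fit B (Nb E d) s e [[nat_lit 2, nat_lit 3, nat_lit 1, nat_lit 2, nat_lit 0, nat_lit 1], unp 8 8 (nat_lit 0x100020103020403), unp 8 10 (nat_lit 0x1000201030204030504), unp 8 12 (nat_lit 0x10002010302040305040605), unp 8 12 (nat_lit 0x10002010304050609050403), unp 8 10 (nat_lit 0x1000201030207030807), unp 8 12 (nat_lit 0x10002010304050607030405)]) : Goal E d c s :=
  .inr (.inr (h.leaf hS q2 (w := []) (by decide +kernel)))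
theorem n7 (h : Fit B (Nb E d) s e [[nat_lit 2, nat_lit 3, nat_lit 1, nat_lit 2, nat_lit 0, nat_lit 1], unp 8 8 (nat_lit 0x100020103020403), unp 8 10 (nat_lit 0x1000201030204030504), unp 8 12 (nat_lit 0x10002010302040305040605), unp 8 12 (nat_lit 0x10002010304050609050403), unp 8 10 (nat_lit 0x1000201030207030807), unp 8 8 (nat_lit 0x102030407030201)]) : Goal E d c s :=
  .inr (.inl (h.leaf hS q1 (w := []) (by decide +kernel)))
theorem n8 (h : Fit B (Nb E d) s e [[nat_lit 2, nat_lit 3, nat_lit 1, nat_lit 2, nat_lit 0, nat_lit 1], unp 8 8 (nat_lit 0x100020103020403), unp 8 10 (nat_lit 0x1000201030204030504), unp 8 12 (nat_lit 0x10002010302040305040605), unp 8 12 (nat_lit 0x10002010304050609050403), unp 8 10 (nat_lit 0x1000201030207030807), unp 8 12 (nat_lit 0x10002010302040305040905)]) : Goal E d c s :=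
  (Fit.rej h hS.fit (w := unp 8 9 (nat_lit 0x10204050605040201)) (a := 0) (b := 0) (by decide +kernel)).elim
theorem n9 (h : Fit B (Nb E d) s e [[nat_lit 2, nat_lit 3, nat_lit 1, nat_lit 2, nat_lit 0, nat_lit 1], unp 8 8 (nat_lit 0x100020103020403), unp 8 10 (nat_lit 0x1000201030204030504), unp 8 12 (nat_lit 0x10002010302040305040605), unp 8 12 (nat_lit 0x10002010304050609050403), unp 8 10 (nat_lit 0x1000201030207030807)]) : Goal E d c s := by
  obtain ⟨u, hu, h⟩ := Fit.step hE hS.fit h (W := []) (r := 0) (R := [unp 8 12 (nat_lit 0x10002010304050607030405), unp 8 8 (nat_lit 0x102030407030201), unp 8 12 (nat_lit 0x10002010302040305040905)]) (by decide +kernel)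
  simp only [List.mem_cons, List.not_mem_nil, or_false] at hu
  rcases hu with rfl | rfl | rfl
  exacts [n6 hE hS h, n7 hE hS h, n8 hE hS h]
theorem n10 (h : Fit B (Nb E d) s e [[nat_lit 2, nat_lit 3, nat_lit 1, nat_lit 2, nat_lit 0, nat_lit 1], unp 8 8 (nat_lit 0x100020103020403), unp 8 10 (nat_lit 0x1000201030204030504), unp 8 12 (nat_lit 0x10002010302040305040605), unp 8 12 (nat_lit 0x10002010304050609050403)]) : Goal E d c s := by
  obtain ⟨u, hu, h⟩ := Fit.step hE hS.fit h (W := [unp 8 25 (nat_lit 0x1020304050906050403020100010203040506090504030201)]) (r := 1) (R := [unp 8 10 (nat_lit 0x1000201030207030807)]) (by decide +kernel)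
  simp only [List.mem_cons, List.not_mem_nil, or_false] at hu
  rcases hu with rfl
  exacts [n9 hE hS h]
theorem n11 (h : Fit B (Nb E d) s e [[nat_lit 2, nat_lit 3, nat_lit 1, nat_lit 2, nat_lit 0, nat_lit 1], unp 8 8 (nat_lit 0x100020103020403), unp 8 10 (nat_lit 0x1000201030204030504), unp 8 12 (nat_lit 0x10002010302040305040605), unp 8 14 (nat_lit 0x100020103040506090504030807), unp 8 12 (nat_lit 0x10203040506090504030201), unp 8 10 (nat_lit 0x1000201030407030807)]) : Goal E d c s :=
  .inr (.inr (h.leaf hS q2 (w := [nat_lit 8, nat_lit 7, nat_lit 2]) (by decide +kernel)))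
theorem n12 (h : Fit B (Nb E d) s e [[nat_lit 2, nat_lit 3, nat_lit 1, nat_lit 2, nat_lit 0, nat_lit 1], unp 8 8 (nat_lit 0x100020103020403), unp 8 10 (nat_lit 0x1000201030204030504), unp 8 12 (nat_lit 0x10002010302040305040605), unp 8 14 (nat_lit 0x100020103040506090504030807), unp 8 12 (nat_lit 0x10203040506090504030201), unp 8 14 (nat_lit 0x100020103040506070304050809)]) : Goal E d c s :=
  (Fit.rej h hS.fit (w := unp 8 9 (nat_lit 0x10204050605040201)) (a := 0) (b := 0) (by decide +kernel)).elim
theorem n13 (h : Fit B (Nb E d) s e [[nat_lit 2, nat_lit 3, nat_lit 1, nat_lit 2, nat_lit 0, nat_lit 1], unp 8 8 (nat_lit 0x100020103020403), unp 8 10 (nat_lit 0x1000201030204030504), unp 8 12 (nat_lit 0x10002010302040305040605), unp 8 14 (nat_lit 0x100020103040506090504030807), unp 8 12 (nat_lit 0x10203040506090504030201), unp 8 14 (nat_lit 0x102030405060905040302010809)]) : Goal E d c s :=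
  .inl (h.leaf hS q0 (w := unp 8 11 (nat_lit 0x203040506090504030208)) (by decide +kernel))
theorem n14 (h : Fit B (Nb E d) s e [[nat_lit 2, nat_lit 3, nat_lit 1, nat_lit 2, nat_lit 0, nat_lit 1], unp 8 8 (nat_lit 0x100020103020403), unp 8 10 (nat_lit 0x1000201030204030504), unp 8 12 (nat_lit 0x10002010302040305040605), unp 8 14 (nat_lit 0x100020103040506090504030807), unp 8 12 (nat_lit 0x10203040506090504030201)]) : Goal E d c s := by
  obtain ⟨u, hu, h⟩ := Fit.step hE hS.fit h (W := []) (r := 0) (R := [unp 8 10 (nat_lit 0x1000201030407030807), unp 8 14 (nat_lit 0x100020103040506070304050809), unp 8 14 (nat_lit 0x102030405060905040302010809)]) (by decide +kernel)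
  simp only [List.mem_cons, List.not_mem_nil, or_false] at hu
  rcases hu with rfl | rfl | rfl
  exacts [n11 hE hS h, n12 hE hS h, n13 hE hS h]
theorem n15 (h : Fit B (Nb E d) s e [[nat_lit 2, nat_lit 3, nat_lit 1, nat_lit 2, nat_lit 0, nat_lit 1], unp 8 8 (nat_lit 0x100020103020403), unp 8 10 (nat_lit 0x1000201030204030504), unp 8 12 (nat_lit 0x10002010302040305040605), unp 8 14 (nat_lit 0x100020103040506090504030807)]) : Goal E d c s := by
  obtain ⟨u, hu, h⟩ := Fit.step hE hS.fit h (W := [[nat_lit 8]]) (r := 1) (R := [unp 8 12 (nat_lit 0x10203040506090504030201)]) (by decide +kernel)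
  simp only [List.mem_cons, List.not_mem_nil, or_false] at hu
  rcases hu with rfl
  exacts [n14 hE hS h]
theorem n16 (h : Fit B (Nb E d) s e [[nat_lit 2, nat_lit 3, nat_lit 1, nat_lit 2, nat_lit 0, nat_lit 1], unp 8 8 (nat_lit 0x100020103020403), unp 8 10 (nat_lit 0x1000201030204030504), unp 8 12 (nat_lit 0x10002010302040305040605)]) : Goal E d c s := by
  obtain ⟨u, hu, h⟩ := Fit.step hE hS.fit h (W := [[nat_lit 8], unp 8 25 (nat_lit 0x1020304050906050403020100010203040506090504030201)]) (r := 2) (R := [[nat_lit 1, nat_lit 2, nat_lit 0, nat_lit 1], unp 8 8 (nat_lit 0x100020103020703), unp 8 12 (nat_lit 0x10002010304050609050403), unp 8 14 (nat_lit 0x100020103040506090504030807)]) (by decide +kernel)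
  simp only [List.mem_cons, List.not_mem_nil, or_false] at hu
  rcases hu with rfl | rfl | rfl | rfl
  exacts [n0 hE hS h, n5 hE hS h, n10 hE hS h, n15 hE hS h]
theorem n17 (h : Fit B (Nb E d) s e [[nat_lit 2, nat_lit 3, nat_lit 1, nat_lit 2, nat_lit 0, nat_lit 1], unp 8 8 (nat_lit 0x100020103020403), unp 8 10 (nat_lit 0x1000201030204030504)]) : Goal E d c s := by
  obtain ⟨u, hu, h⟩ := Fit.step hE hS.fit h (W := [[nat_lit 8], unp 8 17 (nat_lit 0x905040301020001000100020103040509), unp 8 17 (nat_lit 0x605040301020001000100020103040506), unp 8 21 (nat_lit 0x90705040203010200010001000201030204050709), unp 8 21 (nat_lit 0x70605040203010200010001000201030204050607)]) (r := 2) (R := [unp 8 12 (nat_lit 0x10002010302040305040605)]) (by decide +kernel)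
  simp only [List.mem_cons, List.not_mem_nil, or_false] at hu
  rcases hu with rfl
  exacts [n16 hE hS h]
theorem n18 (h : Fit B (Nb E d) s e [[nat_lit 2, nat_lit 3, nat_lit 1, nat_lit 2, nat_lit 0, nat_lit 1], unp 8 8 (nat_lit 0x100020103020403)]) : Goal E d c s := by
  obtain ⟨u, hu, h⟩ := Fit.step hE hS.fit h (W := [[nat_lit 6], [nat_lit 8], [nat_lit 9], unp 8 15 (nat_lit 0x50403010200010001000201030405), unp 8 17 (nat_lit 0x102030704030201000102030407030201)]) (r := 5) (R := [unp 8 10 (nat_lit 0x1000201030204030504)]) (by decide +kernel)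
  simp only [List.mem_cons, List.not_mem_nil, or_false] at hu
  rcases hu with rfl
  exacts [n17 hE hS h]
theorem n19 (h : Fit B (Nb E d) s e [[nat_lit 2, nat_lit 3, nat_lit 1, nat_lit 2, nat_lit 0, nat_lit 1]]) : Goal E d c s := by
  obtain ⟨u, hu, h⟩ := Fit.step hE hS.fit h (W := [[nat_lit 3], [nat_lit 5], [nat_lit 6], [nat_lit 8], [nat_lit 9], unp 8 13 (nat_lit 0x4030102000100010002010304), unp 8 13 (nat_lit 0x7030102000100010002010307), unp 8 17 (nat_lit 0x704020301020001000100020103020407)]) (r := 4) (R := [unp 8 8 (nat_lit 0x100020103020403)]) (by decide +kernel)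
  simp only [List.mem_cons, List.not_mem_nil, or_false] at hu
  rcases hu with rfl
  exacts [n18 hE hS h]
theorem n20 (h : Fit B (Nb E d) s e []) : Goal E d c s := by
  obtain ⟨u, hu, h⟩ := Fit.step hE hS.fit h (W := [[nat_lit 2], [nat_lit 3], [nat_lit 4], [nat_lit 5], [nat_lit 6], [nat_lit 7], [nat_lit 8], [nat_lit 9]]) (r := 4) (R := [[nat_lit 2, nat_lit 3, nat_lit 1, nat_lit 2, nat_lit 0, nat_lit 1]]) (by decide +kernel)
  simp only [List.mem_cons, List.not_mem_nil, or_false] at hu
  rcases hu with rfl
  exacts [n19 hE hS h]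
end

theorem conf {k : ℕ} (hE : Tr3 E) (hL : Loc B E) (hR : B.Rank3 u1 u2 k) (hd : d ∈ E) (hc : c ∈ E) (hdc : ¬ Commute d c)
    (hs : s ∈ Nb E d) (hsc : Commute c s) : Conf B E d c S1a ∨ Conf B E d c S2a := by
  obtain ⟨e, hS⟩ := exists_src hE hL hR hd hc hdc hs hsc src
  have h3 := three hE hL hR hd hc hdc hs hsc src
  rcases n20 hE hS (Fit.start hL hR hd hs e) with h | h | h
  · exact (h.inner hsc q0 rj0 in0 h3).elim
  · exact (h.outer hsc q1 rj1 acc1 h3).elim (fun h => .inl (h)) fun h => .inl (h)
  · exact (h.outer hsc q2 rj2 acc2 h3).elim (fun h => .inr (h)) fun h => .inr (h)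

end Cfsg.Agent.H29.S23
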