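import Cfsg.Agent.H29.QC

/-! Certified closure arguments for small configurations of 3-transpositions. -/

set_option autoImplicit false
set_option maxRecDepth 100000
set_option linter.unusedSimpArgs false
open Cfsg Subgroup

namespace Cfsg.Agent.H29.QC

variable {G : Type*} [Group G] {D : Set G}

noncomputable def ag_c : C :=
 .st (.sf 0) <| .st (.sf 1) <| .st (.sf 3) <| .st (.ns 3) <| .st (.ns 5) <| .st (.ns 7) <| .st (.iv 10) <| .st (.iv 12) <| .st (.iv 14) <| .st (.br 11 15) <| .st (.iv 17) <| .st (.br 14 18) <| .st (.iv 20) <| .st (.iv 22) <| .st (.br 10 18) <| .st (.br 10 20) <| .st (.d1 8 22 23 20) <| .st (.iv 7) <| .st (.nt 14 8 23) <| .st (.nt 22 9 11) <| .st (.d1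 10 26 17 11) <| .st (.iv 9) <| .st (.d1 10 29 19 11) <| .st (.iv 8) <| .st (.nt 20 9 23) <| .st (.d1 10 29 22 18) <| .st (.iv 10) <| .st (.nt 22 11 26) <| .st (.nt 22 12 13) <| .st (.d2 35 14 13 38) <| .st (.d1 14 35 28 22) <| .st (.d1 15 35 37 38) <| .st (.iv 15) <| .st (.d1 15 39 24 30) <| .st (.ns 15) <| .st (.ns 15) <| .st (.d1 14 43 25 33) <| .st (.d2 14 20 16 45) <| .st (.d2 46 5 4 15) <| .st (.d2 47 15 23 46) <| .st (.d1 16 44 33 37) <| .st (.ns 16) <| .st (.nt 44 16 50) <| .st (.nt 46 17 52) <| .st (.d2 51 29 17 52) <| .st (.d2 54 21 18 51) <| .st (.d1 19 51 38 44) <| .st (.d1 20 51 54 53) <| .st (.ns 20) <| .st (.ns 20) <| .st (.d1 29 20 35 34) <| .st (.d1 33 35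 21 36) <| .st (.d2 22 57 34 40) <| .st (.d2 41 45 43 23) <| .st (.d2 24 58 45 62) <| .st (.d2 63 48 61 25) <| .st (.nt 50 25 44) <| .st (.d1 26 64 63 61) <| .st (.d1 37 26 32 66) <| .st (.d1 41 67 27 33) <| .st (.d1 26 30 44 45) <| .st (.d1 27 29 69 35) <| .st (.nt 27 35 32) <| .st (.br 27 33) <| .st (.br 45 26) <| .st (.d1 53 27 44 48) <| .st (.d1 44 28 49 45) <| .st (.d1 74 46 29 50) <| .st (.d2 72 58 73 30) <| .st (.d1 31 37 78 56) <| .st (.d1 31 38 57 79) <| .st (.d1 32 41 31 44) <| .st (.d1 77 80 31 81) <| .st (.br 30 33) <| .st (.d1 57 44 29 50) <| .st (.br 31 29) <| .st (.d2 31 29 54 66) <| .st (.d1 30 84 81 83) <| .st (.d1 31 87 37 86) <| .st (.d1 42 31 88 53) <|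 .st (.d1 58 89 32 54) <| .st (.br 31 90) <| .st (.d1 29 90 68 34) <| .st (.d1 29 91 35 69) <| .st (.d1 26 39 54 60) <| .st (.br 22 32) <| .gl 0 [] [70, 59, 71, 40, 46, 62, 41, 56, 91, 78, 76, 33, 18, 17, 32, 68, 39, 55, 74, 34, 9, 4, 64, 21, 90, 92, 93, 31, 30, 79, 75, 77, 10, 0, 25, 7, 11, 35, 14, 5, 12, 20, 3, 13, 1, 19, 26, 2, 45, 94, 95, 60, 72, 73, 38, 54, 27, 15, 49, 63, 16, 24, 8, 28, 22, 52, 48, 65, 6, 47, 53, 69, 87, 37, 86, 42, 43, 44, 29, 50]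
theorem ag_k : (([.nc 0 3, .nc 0 1, .nc 3 1, .nc 3 2, .cj 3 0 6, .cj 1 0 2, .cj 3 1 8, .cj 3 2 7, .cj 6 1 5, .cj 6 2 4] : List F).all (·.bd 9) && chk 9 [[.cj 0 1 2, .cj 0 2 1, .cj 0 3 6, .cj 0 4 8, .cj 0 5 7, .cj 0 6 3, .cj 0 7 5, .cj 0 8 4, .cj 1 0 2, .cj 1 2 0, .cj 1 3 8, .cj 1 4 7, .cj 1 5 6, .cj 1 6 5, .cj 1 7 4, .cj 1 8 3, .cj 2 0 1, .cj 2 1 0, .cj 2 3 7, .cj 2 4 6, .cj 2 5 8, .cj 2 6 4, .cj 2 7 3, .cj 2 8 5, .cj 3 0 6, .cj 3 1 8, .cj 3 2 7, .cj 3 4 5, .cj 3 5 4, .cj 3 6 0, .cj 3 7 2, .cj 3 8 1, .cj 4 0 8, .cj 4 1 7, .cj 4 2 6, .cj 4 3 5, .cj 4 5 3, .cj 4 6 2, .cj 4 7 1, .cj 4 8 0, .cj 5 0 7, .cj 5 1 6, .cj 5 2 8, .cj 5 3 4, .cj 5 4 3, .cj 5 6 1, .cj 5 7 0, .cj 5 8 2,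 .cj 6 0 3, .cj 6 1 5, .cj 6 2 4, .cj 6 3 0, .cj 6 4 2, .cj 6 5 1, .cj 6 7 8, .cj 6 8 7, .cj 7 0 5, .cj 7 1 4, .cj 7 2 3, .cj 7 3 2, .cj 7 4 1, .cj 7 5 0, .cj 7 6 8, .cj 7 8 6, .cj 8 0 4, .cj 8 1 3, .cj 8 2 5, .cj 8 3 1, .cj 8 4 0, .cj 8 5 2, .cj 8 6 7, .cj 8 7 6, .nc 0 1, .nc 0 2, .nc 0 3, .nc 0 4, .nc 0 5, .nc 0 6, .nc 0 7, .nc 0 8]] ag_c 9 [.nc 0 3, .nc 0 1, .nc 3 1, .nc 3 2, .cj 3 0 6, .cj 1 0 2, .cj 3 1 8, .cj 3 2 7, .cj 6 1 5, .cj 6 2 4]) = true := by decide +kernel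
theorem ag (hD : Tr3 D) {p00 p01 p02 p10 p11 p12 p20 p21 p22 : G} (hp00 : p00 ∈ D) (hp01 : p01 ∈ D) (hp02 : p02 ∈ D) (hp10 : p10 ∈ D) (hp11 : p11 ∈ D) (hp12 : p12 ∈ D) (hp20 : p20 ∈ D) (hp21 : p21 ∈ D) (hp22 : p22 ∈ D)
    (i0 : ¬ Commute p00 p10) (i1 : ¬ Commute p00 p01) (i2 : ¬ Commute p10 p01) (i3 : ¬ Commute p10 p02) (i4 : p10 * p00 * p10⁻¹ = p20) (i5 : p01 * p00 * p01⁻¹ = p02) (i6 : p10 * p01 * p10⁻¹ = p22) (i7 : p10 * p02 * p10⁻¹ = p21) (i8 : p20 * p01 * p20⁻¹ = p12) (i9 : p20 * p02 * p20⁻¹ = p11) :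
    (p00 * p01 * p00⁻¹ = p02 ∧ p00 * p02 * p00⁻¹ = p01 ∧ p00 * p10 * p00⁻¹ = p20 ∧ p00 * p11 * p00⁻¹ = p22 ∧ p00 * p12 * p00⁻¹ = p21 ∧ p00 * p20 * p00⁻¹ = p10 ∧ p00 * p21 * p00⁻¹ = p12 ∧ p00 * p22 * p00⁻¹ = p11 ∧ p01 * p00 * p01⁻¹ = p02 ∧ p01 * p02 * p01⁻¹ = p00 ∧ p01 * p10 * p01⁻¹ = p22 ∧ p01 * p11 * p01⁻¹ = p21 ∧ p01 * p12 * p01⁻¹ = p20 ∧ p01 * p20 * p01⁻¹ = p12 ∧ p01 * p21 * p01⁻¹ = p11 ∧ p01 * p22 * p01⁻¹ = p10 ∧ p02 * p00 * p02⁻¹ = p01 ∧ p02 * p01 * p02⁻¹ = p00 ∧ p02 * p10 * p02⁻¹ = p21 ∧ p02 * p11 * p02⁻¹ = p20 ∧ p02 * p12 * p02⁻¹ = p22 ∧ p02 * p20 * p02⁻¹ = p11 ∧ p02 * p21 * p02⁻¹ = p10 ∧ p02 * p22 * p02⁻¹ = p12 ∧ p10 * p00 * p10⁻¹ = p20 ∧ p10 * p01 * p10⁻¹ = p22 ∧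 p10 * p02 * p10⁻¹ = p21 ∧ p10 * p11 * p10⁻¹ = p12 ∧ p10 * p12 * p10⁻¹ = p11 ∧ p10 * p20 * p10⁻¹ = p00 ∧ p10 * p21 * p10⁻¹ = p02 ∧ p10 * p22 * p10⁻¹ = p01 ∧ p11 * p00 * p11⁻¹ = p22 ∧ p11 * p01 * p11⁻¹ = p21 ∧ p11 * p02 * p11⁻¹ = p20 ∧ p11 * p10 * p11⁻¹ = p12 ∧ p11 * p12 * p11⁻¹ = p10 ∧ p11 * p20 * p11⁻¹ = p02 ∧ p11 * p21 * p11⁻¹ = p01 ∧ p11 * p22 * p11⁻¹ = p00 ∧ p12 * p00 * p12⁻¹ = p21 ∧ p12 * p01 * p12⁻¹ = p20 ∧ p12 * p02 * p12⁻¹ = p22 ∧ p12 * p10 * p12⁻¹ = p11 ∧ p12 * p11 * p12⁻¹ = p10 ∧ p12 * p20 * p12⁻¹ = p01 ∧ p12 * p21 * p12⁻¹ = p00 ∧ p12 * p22 * p12⁻¹ = p02 ∧ p20 * p00 * p20⁻¹ = p10 ∧ p20 * p01 * p20⁻¹ = p12 ∧ p20 * p02 * p20⁻¹ = p11 ∧ p20 * p10 * p20⁻¹ = p00 ∧ p20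 * p11 * p20⁻¹ = p02 ∧ p20 * p12 * p20⁻¹ = p01 ∧ p20 * p21 * p20⁻¹ = p22 ∧ p20 * p22 * p20⁻¹ = p21 ∧ p21 * p00 * p21⁻¹ = p12 ∧ p21 * p01 * p21⁻¹ = p11 ∧ p21 * p02 * p21⁻¹ = p10 ∧ p21 * p10 * p21⁻¹ = p02 ∧ p21 * p11 * p21⁻¹ = p01 ∧ p21 * p12 * p21⁻¹ = p00 ∧ p21 * p20 * p21⁻¹ = p22 ∧ p21 * p22 * p21⁻¹ = p20 ∧ p22 * p00 * p22⁻¹ = p11 ∧ p22 * p01 * p22⁻¹ = p10 ∧ p22 * p02 * p22⁻¹ = p12 ∧ p22 * p10 * p22⁻¹ = p01 ∧ p22 * p11 * p22⁻¹ = p00 ∧ p22 * p12 * p22⁻¹ = p02 ∧ p22 * p20 * p22⁻¹ = p21 ∧ p22 * p21 * p22⁻¹ = p20 ∧ ¬ Commute p00 p01 ∧ ¬ Commute p00 p02 ∧ ¬ Commute p00 p10 ∧ ¬ Commute p00 p11 ∧ ¬ Commute p00 p12 ∧ ¬ Commute p00 p20 ∧ ¬ Commute p00 p21 ∧ ¬ Commute p00 p22) := by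
  obtain ⟨g, hg, q, h0, hq, hf⟩ := run hD [p01, p02, p10, p11, p12, p20, p21, p22] p00 (by simp [*]) ag_k (by
    simp only [List.forall_mem_cons]
    exact ⟨i0, i1, i2, i3, i4, i5, i6, i7, i8, i9, by simp⟩)
  have e0 : q 0 = p00 := h0 0 (by simp)
  have e1 : q 1 = p01 := h0 1 (by simp)
  have e2 : q 2 = p02 := h0 2 (by simp)
  have e3 : q 3 = p10 := h0 3 (by simp)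
  have e4 : q 4 = p11 := h0 4 (by simp)
  have e5 : q 5 = p12 := h0 5 (by simp)
  have e6 : q 6 = p20 := h0 6 (by simp)
  have e7 : q 7 = p21 := h0 7 (by simp)
  have e8 : q 8 = p22 := h0 8 (by simp)
  simp only [List.mem_cons, List.not_mem_nil, or_false] at hg
  rcases hg with rfl
  · simp only [List.forall_mem_cons, F.Holds, e0, e1, e2, e3, e4, e5, e6, e7, e8] at hf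
    exact (⟨hf.1, hf.2.1, hf.2.2.1, hf.2.2.2.1, hf.2.2.2.2.1, hf.2.2.2.2.2.1, hf.2.2.2.2.2.2.1, hf.2.2.2.2.2.2.2.1, hf.2.2.2.2.2.2.2.2.1, hf.2.2.2.2.2.2.2.2.2.1, hf.2.2.2.2.2.2.2.2.2.2.1, hf.2.2.2.2.2.2.2.2.2.2.2.1, hf.2.2.2.2.2.2.2.2.2.2.2.2.1, hf.2.2.2.2.2.2.2.2.2.2.2.2.2.1, hf.2.2.2.2.2.2.2.2.2.2.2.2.2.2.1, hf.2.2.2.2.2.2.2.2.2.2.2.2.2.2.2.1, hf.2.2.2.2.2.2.2.2.2.2.2.2.2.2.2.2.1, hf.2.2.2.2.2.2.2.2.2.2.2.2.2.2.2.2.2.1, hf.2.2.2.2.2.2.2.2.2.2.2.2.2.2.2.2.2.2.1, hf.2.2.2.2.2.2.2.2.2.2.2.2.2.2.2.2.2.2.2.1, hf.2.2.2.2.2.2.2.2.2.2.2.2.2.2.2.2.2.2.2.2.1, hf.2.2.2.2.2.2.2.2.2.2.2.2.2.2.2.2.2.2.2.2.2.1, hf.2.2.2.2.2.2.2.2.2.2.2.2.2.2.2.2.2.2.2.2.2.2.1, hf.2.2.2.2.2.2.2.2.2.2.2.2.2.2.2.2.2.2.2.2.2.2.2.1,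 hf.2.2.2.2.2.2.2.2.2.2.2.2.2.2.2.2.2.2.2.2.2.2.2.2.1, hf.2.2.2.2.2.2.2.2.2.2.2.2.2.2.2.2.2.2.2.2.2.2.2.2.2.1, hf.2.2.2.2.2.2.2.2.2.2.2.2.2.2.2.2.2.2.2.2.2.2.2.2.2.2.1, hf.2.2.2.2.2.2.2.2.2.2.2.2.2.2.2.2.2.2.2.2.2.2.2.2.2.2.2.1, hf.2.2.2.2.2.2.2.2.2.2.2.2.2.2.2.2.2.2.2.2.2.2.2.2.2.2.2.2.1, hf.2.2.2.2.2.2.2.2.2.2.2.2.2.2.2.2.2.2.2.2.2.2.2.2.2.2.2.2.2.1, hf.2.2.2.2.2.2.2.2.2.2.2.2.2.2.2.2.2.2.2.2.2.2.2.2.2.2.2.2.2.2.1, hf.2.2.2.2.2.2.2.2.2.2.2.2.2.2.2.2.2.2.2.2.2.2.2.2.2.2.2.2.2.2.2.1, hf.2.2.2.2.2.2.2.2.2.2.2.2.2.2.2.2.2.2.2.2.2.2.2.2.2.2.2.2.2.2.2.2.1, hf.2.2.2.2.2.2.2.2.2.2.2.2.2.2.2.2.2.2.2.2.2.2.2.2.2.2.2.2.2.2.2.2.2.1, hf.2.2.2.2.2.2.2.2.2.2.2.2.2.2.2.2.2.2.2.2.2.2.2.2.2.2.2.2.2.2.2.2.2.2.1,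 hf.2.2.2.2.2.2.2.2.2.2.2.2.2.2.2.2.2.2.2.2.2.2.2.2.2.2.2.2.2.2.2.2.2.2.2.1, hf.2.2.2.2.2.2.2.2.2.2.2.2.2.2.2.2.2.2.2.2.2.2.2.2.2.2.2.2.2.2.2.2.2.2.2.2.1, hf.2.2.2.2.2.2.2.2.2.2.2.2.2.2.2.2.2.2.2.2.2.2.2.2.2.2.2.2.2.2.2.2.2.2.2.2.2.1, hf.2.2.2.2.2.2.2.2.2.2.2.2.2.2.2.2.2.2.2.2.2.2.2.2.2.2.2.2.2.2.2.2.2.2.2.2.2.2.1, hf.2.2.2.2.2.2.2.2.2.2.2.2.2.2.2.2.2.2.2.2.2.2.2.2.2.2.2.2.2.2.2.2.2.2.2.2.2.2.2.1, hf.2.2.2.2.2.2.2.2.2.2.2.2.2.2.2.2.2.2.2.2.2.2.2.2.2.2.2.2.2.2.2.2.2.2.2.2.2.2.2.2.1, hf.2.2.2.2.2.2.2.2.2.2.2.2.2.2.2.2.2.2.2.2.2.2.2.2.2.2.2.2.2.2.2.2.2.2.2.2.2.2.2.2.2.1, hf.2.2.2.2.2.2.2.2.2.2.2.2.2.2.2.2.2.2.2.2.2.2.2.2.2.2.2.2.2.2.2.2.2.2.2.2.2.2.2.2.2.2.1, hf.2.2.2.2.2.2.2.2.2.2.2.2.2.2.2.2.2.2.2.2.2.2.2.2.2.2.2.2.2.2.2.2.2.2.2.2.2.2.2.2.2.2.2.1,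 hf.2.2.2.2.2.2.2.2.2.2.2.2.2.2.2.2.2.2.2.2.2.2.2.2.2.2.2.2.2.2.2.2.2.2.2.2.2.2.2.2.2.2.2.2.1, hf.2.2.2.2.2.2.2.2.2.2.2.2.2.2.2.2.2.2.2.2.2.2.2.2.2.2.2.2.2.2.2.2.2.2.2.2.2.2.2.2.2.2.2.2.2.1, hf.2.2.2.2.2.2.2.2.2.2.2.2.2.2.2.2.2.2.2.2.2.2.2.2.2.2.2.2.2.2.2.2.2.2.2.2.2.2.2.2.2.2.2.2.2.2.1, hf.2.2.2.2.2.2.2.2.2.2.2.2.2.2.2.2.2.2.2.2.2.2.2.2.2.2.2.2.2.2.2.2.2.2.2.2.2.2.2.2.2.2.2.2.2.2.2.1, hf.2.2.2.2.2.2.2.2.2.2.2.2.2.2.2.2.2.2.2.2.2.2.2.2.2.2.2.2.2.2.2.2.2.2.2.2.2.2.2.2.2.2.2.2.2.2.2.2.1, hf.2.2.2.2.2.2.2.2.2.2.2.2.2.2.2.2.2.2.2.2.2.2.2.2.2.2.2.2.2.2.2.2.2.2.2.2.2.2.2.2.2.2.2.2.2.2.2.2.2.1, hf.2.2.2.2.2.2.2.2.2.2.2.2.2.2.2.2.2.2.2.2.2.2.2.2.2.2.2.2.2.2.2.2.2.2.2.2.2.2.2.2.2.2.2.2.2.2.2.2.2.2.1,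 hf.2.2.2.2.2.2.2.2.2.2.2.2.2.2.2.2.2.2.2.2.2.2.2.2.2.2.2.2.2.2.2.2.2.2.2.2.2.2.2.2.2.2.2.2.2.2.2.2.2.2.2.1, hf.2.2.2.2.2.2.2.2.2.2.2.2.2.2.2.2.2.2.2.2.2.2.2.2.2.2.2.2.2.2.2.2.2.2.2.2.2.2.2.2.2.2.2.2.2.2.2.2.2.2.2.2.1, hf.2.2.2.2.2.2.2.2.2.2.2.2.2.2.2.2.2.2.2.2.2.2.2.2.2.2.2.2.2.2.2.2.2.2.2.2.2.2.2.2.2.2.2.2.2.2.2.2.2.2.2.2.2.1, hf.2.2.2.2.2.2.2.2.2.2.2.2.2.2.2.2.2.2.2.2.2.2.2.2.2.2.2.2.2.2.2.2.2.2.2.2.2.2.2.2.2.2.2.2.2.2.2.2.2.2.2.2.2.2.1, hf.2.2.2.2.2.2.2.2.2.2.2.2.2.2.2.2.2.2.2.2.2.2.2.2.2.2.2.2.2.2.2.2.2.2.2.2.2.2.2.2.2.2.2.2.2.2.2.2.2.2.2.2.2.2.2.1, hf.2.2.2.2.2.2.2.2.2.2.2.2.2.2.2.2.2.2.2.2.2.2.2.2.2.2.2.2.2.2.2.2.2.2.2.2.2.2.2.2.2.2.2.2.2.2.2.2.2.2.2.2.2.2.2.2.1, hf.2.2.2.2.2.2.2.2.2.2.2.2.2.2.2.2.2.2.2.2.2.2.2.2.2.2.2.2.2.2.2.2.2.2.2.2.2.2.2.2.2.2.2.2.2.2.2.2.2.2.2.2.2.2.2.2.2.1,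 hf.2.2.2.2.2.2.2.2.2.2.2.2.2.2.2.2.2.2.2.2.2.2.2.2.2.2.2.2.2.2.2.2.2.2.2.2.2.2.2.2.2.2.2.2.2.2.2.2.2.2.2.2.2.2.2.2.2.2.1, hf.2.2.2.2.2.2.2.2.2.2.2.2.2.2.2.2.2.2.2.2.2.2.2.2.2.2.2.2.2.2.2.2.2.2.2.2.2.2.2.2.2.2.2.2.2.2.2.2.2.2.2.2.2.2.2.2.2.2.2.1, hf.2.2.2.2.2.2.2.2.2.2.2.2.2.2.2.2.2.2.2.2.2.2.2.2.2.2.2.2.2.2.2.2.2.2.2.2.2.2.2.2.2.2.2.2.2.2.2.2.2.2.2.2.2.2.2.2.2.2.2.2.1, hf.2.2.2.2.2.2.2.2.2.2.2.2.2.2.2.2.2.2.2.2.2.2.2.2.2.2.2.2.2.2.2.2.2.2.2.2.2.2.2.2.2.2.2.2.2.2.2.2.2.2.2.2.2.2.2.2.2.2.2.2.2.1, hf.2.2.2.2.2.2.2.2.2.2.2.2.2.2.2.2.2.2.2.2.2.2.2.2.2.2.2.2.2.2.2.2.2.2.2.2.2.2.2.2.2.2.2.2.2.2.2.2.2.2.2.2.2.2.2.2.2.2.2.2.2.2.1, hf.2.2.2.2.2.2.2.2.2.2.2.2.2.2.2.2.2.2.2.2.2.2.2.2.2.2.2.2.2.2.2.2.2.2.2.2.2.2.2.2.2.2.2.2.2.2.2.2.2.2.2.2.2.2.2.2.2.2.2.2.2.2.2.1,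 hf.2.2.2.2.2.2.2.2.2.2.2.2.2.2.2.2.2.2.2.2.2.2.2.2.2.2.2.2.2.2.2.2.2.2.2.2.2.2.2.2.2.2.2.2.2.2.2.2.2.2.2.2.2.2.2.2.2.2.2.2.2.2.2.2.1, hf.2.2.2.2.2.2.2.2.2.2.2.2.2.2.2.2.2.2.2.2.2.2.2.2.2.2.2.2.2.2.2.2.2.2.2.2.2.2.2.2.2.2.2.2.2.2.2.2.2.2.2.2.2.2.2.2.2.2.2.2.2.2.2.2.2.1, hf.2.2.2.2.2.2.2.2.2.2.2.2.2.2.2.2.2.2.2.2.2.2.2.2.2.2.2.2.2.2.2.2.2.2.2.2.2.2.2.2.2.2.2.2.2.2.2.2.2.2.2.2.2.2.2.2.2.2.2.2.2.2.2.2.2.2.1, hf.2.2.2.2.2.2.2.2.2.2.2.2.2.2.2.2.2.2.2.2.2.2.2.2.2.2.2.2.2.2.2.2.2.2.2.2.2.2.2.2.2.2.2.2.2.2.2.2.2.2.2.2.2.2.2.2.2.2.2.2.2.2.2.2.2.2.2.1, hf.2.2.2.2.2.2.2.2.2.2.2.2.2.2.2.2.2.2.2.2.2.2.2.2.2.2.2.2.2.2.2.2.2.2.2.2.2.2.2.2.2.2.2.2.2.2.2.2.2.2.2.2.2.2.2.2.2.2.2.2.2.2.2.2.2.2.2.2.1,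 hf.2.2.2.2.2.2.2.2.2.2.2.2.2.2.2.2.2.2.2.2.2.2.2.2.2.2.2.2.2.2.2.2.2.2.2.2.2.2.2.2.2.2.2.2.2.2.2.2.2.2.2.2.2.2.2.2.2.2.2.2.2.2.2.2.2.2.2.2.2.1, hf.2.2.2.2.2.2.2.2.2.2.2.2.2.2.2.2.2.2.2.2.2.2.2.2.2.2.2.2.2.2.2.2.2.2.2.2.2.2.2.2.2.2.2.2.2.2.2.2.2.2.2.2.2.2.2.2.2.2.2.2.2.2.2.2.2.2.2.2.2.2.1, hf.2.2.2.2.2.2.2.2.2.2.2.2.2.2.2.2.2.2.2.2.2.2.2.2.2.2.2.2.2.2.2.2.2.2.2.2.2.2.2.2.2.2.2.2.2.2.2.2.2.2.2.2.2.2.2.2.2.2.2.2.2.2.2.2.2.2.2.2.2.2.2.1, hf.2.2.2.2.2.2.2.2.2.2.2.2.2.2.2.2.2.2.2.2.2.2.2.2.2.2.2.2.2.2.2.2.2.2.2.2.2.2.2.2.2.2.2.2.2.2.2.2.2.2.2.2.2.2.2.2.2.2.2.2.2.2.2.2.2.2.2.2.2.2.2.2.1, hf.2.2.2.2.2.2.2.2.2.2.2.2.2.2.2.2.2.2.2.2.2.2.2.2.2.2.2.2.2.2.2.2.2.2.2.2.2.2.2.2.2.2.2.2.2.2.2.2.2.2.2.2.2.2.2.2.2.2.2.2.2.2.2.2.2.2.2.2.2.2.2.2.2.1,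 hf.2.2.2.2.2.2.2.2.2.2.2.2.2.2.2.2.2.2.2.2.2.2.2.2.2.2.2.2.2.2.2.2.2.2.2.2.2.2.2.2.2.2.2.2.2.2.2.2.2.2.2.2.2.2.2.2.2.2.2.2.2.2.2.2.2.2.2.2.2.2.2.2.2.2.1, hf.2.2.2.2.2.2.2.2.2.2.2.2.2.2.2.2.2.2.2.2.2.2.2.2.2.2.2.2.2.2.2.2.2.2.2.2.2.2.2.2.2.2.2.2.2.2.2.2.2.2.2.2.2.2.2.2.2.2.2.2.2.2.2.2.2.2.2.2.2.2.2.2.2.2.2.1, hf.2.2.2.2.2.2.2.2.2.2.2.2.2.2.2.2.2.2.2.2.2.2.2.2.2.2.2.2.2.2.2.2.2.2.2.2.2.2.2.2.2.2.2.2.2.2.2.2.2.2.2.2.2.2.2.2.2.2.2.2.2.2.2.2.2.2.2.2.2.2.2.2.2.2.2.2.1, hf.2.2.2.2.2.2.2.2.2.2.2.2.2.2.2.2.2.2.2.2.2.2.2.2.2.2.2.2.2.2.2.2.2.2.2.2.2.2.2.2.2.2.2.2.2.2.2.2.2.2.2.2.2.2.2.2.2.2.2.2.2.2.2.2.2.2.2.2.2.2.2.2.2.2.2.2.2.1, hf.2.2.2.2.2.2.2.2.2.2.2.2.2.2.2.2.2.2.2.2.2.2.2.2.2.2.2.2.2.2.2.2.2.2.2.2.2.2.2.2.2.2.2.2.2.2.2.2.2.2.2.2.2.2.2.2.2.2.2.2.2.2.2.2.2.2.2.2.2.2.2.2.2.2.2.2.2.2.1,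 hf.2.2.2.2.2.2.2.2.2.2.2.2.2.2.2.2.2.2.2.2.2.2.2.2.2.2.2.2.2.2.2.2.2.2.2.2.2.2.2.2.2.2.2.2.2.2.2.2.2.2.2.2.2.2.2.2.2.2.2.2.2.2.2.2.2.2.2.2.2.2.2.2.2.2.2.2.2.2.2.1⟩)

end Cfsg.Agent.H29.QC
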