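import Cfsg.Agent.H29.Fi13
import Cfsg.Agent.H10.Comp

/-! Normalisers of charted sets; passing to a subgroup of index two. -/

set_option autoImplicit false
open Cfsg Subgroup Equiv Cfsg.Agent.H17
open scoped commutatorElement

namespace Cfsg.Agent.H29

universe u
variable {G : Type u} [Group G] {E S T : Set G} {B : TB} {β γ : ℕ → G} {u1 u2 : List ℕ} {k : ℕ}
variable {M : Type} [Group M] {X : Set M} {t g : ℕ → M}

theorem mem_or_mul {A : Set G} {N : Subgroup G} {d : G} (hd : d * d = 1) (hc : ∀ n ∈ N, d * n * d ∈ N)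
    (hA : ∀ a ∈ A, a ∈ N ∨ a * d ∈ N) {v : G} (hv : v ∈ closure A) : v ∈ N ∨ v * d ∈ N := by
  have dd : ∀ x, x * d * d = x := fun x => by rw [mul_assoc, hd, mul_one]
  induction hv using closure_induction with
  | mem a ha => exact hA a ha
  | one => exact .inl (one_mem _)
  | mul a b _ _ h1 h2 =>
    rcases h1 with h1 | h1 <;> rcases h2 with h2 | h2
    · exact .inl (mul_mem h1 h2)
    · exact .inr (mul_assoc a b d ▸ mul_mem h1 h2)
    · exact .inr (by simpa only [← mul_assoc, dd] using mul_mem h1 (hc _ h2))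
    · exact .inl (by simpa only [← mul_assoc, dd] using mul_mem h1 (hc _ h2))
  | inv a _ h1 =>
    refine h1.imp inv_mem fun h => ?_
    simpa only [mul_inv_rev, inv_eq_of_mul_eq_one_right hd, ← mul_assoc, hd, one_mul] using hc _ (inv_mem h)

theorem card_inf_two [Finite G] {L H : Subgroup G} (hL : L.index = 2) {d : G} (hd : d ∈ H) (hn : d ∉ L) :
    2 * Nat.card ↥(L ⊓ H) = Nat.card H := by
  have : (L.subgroupOf H).index = 2 := index_eq_two_iff.2 ⟨⟨d, hd⟩, fun b => by
    simp only [mem_subgroupOf, coe_mul, mul_mem_iff_of_index_two hL, hn, iff_false]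
    by_cases h : (b : G) ∈ L <;> simp [h]⟩
  rw [← card_mul_index (L.subgroupOf H), this, mul_comm, ← inf_subgroupOf_right,
    Nat.card_congr (subgroupOfEquivOfLe inf_le_right).toEquiv]

theorem fstar_of_qs [Finite G] {K H : Subgroup G} (h1 : K ≤ H) (h2 : H ≤ normalizer (K : Set G)) (hq : IsQuasisimple K)
    (hc : H ⊓ centralizer (K : Set G) ≤ K) : H10.FstarOf H = K := by
  have hK : H10.CompOf K H := ⟨.of_normal h1 h2, hq⟩
  refine le_antisymm ?_ (hK.le_LayOf.trans H10.LayOf_le_FstarOf)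
  rw [H10.FstarOf_eq]
  refine sup_le (H10.LayOf_le_iff.2 fun L hL => (hL.eq_or hK).elim le_of_eq fun e => le_trans (le_inf hL.le ?_) hc)
    (le_trans (le_inf H10.FitOf_le ?_) hc) <;> rw [← commutator_eq_bot_iff_le_centralizer]
  exacts [e, (commutator_comm _ _).trans hK.commutator_FitOf]

theorem cj_mem_closure {g z : G} (h : ∀ y ∈ T, g * y * g⁻¹ ∈ T) (hz : z ∈ closure T) : g * z * g⁻¹ ∈ closure T := by
  induction hz using closure_induction with
  | mem a ha => exact subset_closure (h a ha)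
  | one => simp
  | mul a b _ _ h1 h2 => simpa [mul_assoc] using mul_mem h1 h2
  | inv a _ h1 => simpa [mul_assoc] using inv_mem h1

theorem exists_autHom {K C : Subgroup G} {Q : Type*} [Group Q] (π : K →* Q) (hs : Function.Surjective π)
    (hn : ∀ c ∈ C, ∀ z ∈ K, c * z * c⁻¹ ∈ K) (hk : ∀ c hc, ∀ z : K, π z = 1 → π ⟨_, hn c hc z z.2⟩ = 1) :
    ∃ α : C →* MulAut Q, ∀ (c : C) (z : K), α c (π z) = π ⟨_, hn c c.2 z z.2⟩ := by
  let s : C → Q → Q := fun c m => π ⟨_, hn c c.2 _ (Function.surjInv hs m).2⟩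
  have key : ∀ (c : C) (z : K), s c (π z) = π ⟨_, hn c c.2 z z.2⟩ := fun c z => by
    have := hk c c.2 (Function.surjInv hs (π z) * z⁻¹) (by simp [Function.surjInv_eq hs])
    rw [← mul_inv_eq_one, ← map_inv, ← map_mul, ← this]
    exact congrArg π (Subtype.ext (by simp [mul_assoc]))
  letI : MulDistribMulAction C Q :=
    { smul := s
      one_smul := fun m => by
        obtain ⟨z, rfl⟩ := hs m; exact (key 1 z).trans (congrArg π (Subtype.ext (by simp)))
      mul_smul := fun a b m => by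
        obtain ⟨z, rfl⟩ := hs m
        change s _ _ = s a (s b (π z))
        rw [key b, key, key]; exact congrArg π (Subtype.ext (by simp [mul_assoc]))
      smul_mul := fun a m m' => by
        obtain ⟨z, rfl⟩ := hs m; obtain ⟨z', rfl⟩ := hs m'
        change s _ _ = s _ _ * s _ _
        rw [← map_mul, key, key, key, ← map_mul]; exact congrArg π (Subtype.ext (by simp [mul_assoc]))
      smul_one := fun a => by
        change s _ _ = _
        rw [← map_one π, key]; exact congrArg π (Subtype.ext (by simp)) }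
  exact ⟨MulDistribMulAction.toMulAut C Q, key⟩

theorem Chart.mem_comm_or (h : Chart B S β γ) (hR : B.Rank3 u1 u2 k) (hs : ∀ a ∈ S, a * a = 1) {a z : G} (ha : a ∈ S)
    (hz : z ∈ closure S) : z ∈ ⁅closure S, closure S⁆ ∨ z * a ∈ ⁅closure S, closure S⁆ := by
  have le : ⁅closure S, closure S⁆ ≤ closure S := commutator_le.2 fun a ha b hb =>
    mul_mem (mul_mem (mul_mem ha hb) (inv_mem ha)) (inv_mem hb)
  refine mem_or_mul (hs a ha) (fun n hn => ?_) (fun x hx => .inr ?_) hz
  · simpa [commutatorElement_def, inv_eq_of_mul_eq_one_right (hs a ha)] using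
      mul_mem (commutator_mem_commutator (subset_closure ha) (le hn)) hn
  · obtain ⟨g, hg, rfl⟩ := h.exists_cj hR hx ha
    simpa [commutatorElement_def, inv_eq_of_mul_eq_one_right (hs x hx), mul_assoc] using
      commutator_mem_commutator (subset_closure hx) hg

/-- the normaliser of a charted set acts on the model -/
theorem Chart.autHom (hE : Tr3 E) (hT : T ⊆ E) (h : Chart B T β γ) (hM : Model B u1 u2 k X t g) {C : Subgroup G}
    (hC : ∀ c ∈ C, ∀ y ∈ T, c * y * c⁻¹ ∈ T) : ∃ (π : closure T →* M) (α : C →* MulAut M), Function.Surjective π ∧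
      π.ker = center _ ∧ (∀ c, α c = 1 ↔ ∀ y ∈ T, Commute (c : G) y) ∧
      ∀ (c : C) (z : closure T), α c (π z) = π ⟨_, cj_mem_closure (hC c c.2) z.2⟩ := by
  obtain ⟨π, p1, p2, -⟩ := h.exists_hom hM.r3 hM
  have hk : ∀ z, π z = 1 ↔ ∀ y ∈ closure T, Commute (z : G) y := fun z => by
    rw [← MonoidHom.mem_ker, p2, mem_center_iff]
    exact ⟨fun e y hy => (congrArg Subtype.val (e ⟨y, hy⟩)).symm, fun e y => Subtype.ext (e y y.2).symm⟩
  obtain ⟨α, hα⟩ := exists_autHom π p1 (C := C) (fun c hc z => cj_mem_closure (hC c hc)) fun c hc z hz =>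
    (hk _).2 fun y hy => (commute_cj_left c).2 ((hk z).1 hz _ (by simpa using cj_mem_closure (hC _ (inv_mem hc)) hy))
  refine ⟨π, α, p1, p2, fun c => ⟨fun e => h.comm_of_mod hE hT hM.r3 fun y hy w hw => ?_, fun e => ?_⟩, hα⟩
  · have := hα c ⟨y, subset_closure hy⟩
    rw [e, MulAut.one_apply, eq_comm, ← mul_inv_eq_one, ← map_inv, ← map_mul] at this
    exact (hk _).1 this w (subset_closure hw)
  · ext m
    obtain ⟨z, rfl⟩ := p1 m
    rw [hα]; exact congrArg π (Subtype.ext (commute_iff_cj.1 (comm_of_mem_closure e z.2)))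

theorem even_struct [Finite G] (hE : Tr3 E) (hT : T ⊆ E) (h : Chart B T β γ) (hM : Model B u1 u2 k X t g)
    (hs : IsSimpleGroup M) (hL : (commutator G).index = 2) (hn : ∀ a ∈ E, a ∉ commutator G) {A : Set G} {d : G}
    (hd : d ∈ A) (hdE : d ∈ E) (h1 : closure T = centralizer A) (h2 : center (closure T) = (closure A).subgroupOf _)
    (h3 : closure A ≤ closure T) {C : Subgroup G} (hC : ∀ c ∈ C, ∀ y ∈ T, c * y * c⁻¹ ∈ T) (hKC : closure T ≤ C)
    {K Z : Subgroup G} (hK : K = commutator G ⊓ closure T) (hZ : Z = commutator G ⊓ closure A) :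
    IsQuasisimple K ∧ center K = Z.subgroupOf K ∧ H10.FstarOf (commutator G ⊓ C) = K ∧
      (∃ π : K →* M, Function.Surjective π ∧ π.ker = Z.subgroupOf K) ∧
      ∃ α : ↥(commutator G ⊓ C) →* MulAut M, α.ker = Z.subgroupOf _ := by
  obtain ⟨π, α, p1, p2, a1, a2⟩ := h.autHom hE hT hM hC
  have dT := h3 (subset_closure hd)
  have cV : ∀ v ∈ closure A, ∀ y ∈ closure T, Commute v y := fun v hv y hy =>
    (congrArg Subtype.val (mem_center_iff.1 (h2.ge (show (⟨v, h3 hv⟩ : closure T) ∈ _ from hv)) ⟨y, hy⟩)).symm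
  have dc := cV d (subset_closure hd)
  have le : K ≤ closure T := hK ▸ inf_le_right
  have or : ∀ x ∈ closure T, ∃ y ∈ K, x = y ∨ x = y * d := fun x hx => by
    by_cases e : x ∈ commutator G
    · exact ⟨x, hK ▸ ⟨e, hx⟩, .inl rfl⟩
    · exact ⟨x * d, hK ▸ ⟨(mul_mem_iff_of_index_two hL).2 (iff_of_false e (hn d hdE)), mul_mem hx dT⟩,
        .inr (by rw [mul_assoc, T3sq hE.set hdE, mul_one])⟩
  have ka : ∀ c : C, α c = 1 ↔ (c : G) ∈ closure A := fun c => (a1 c).trans ⟨fun e => by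
    have e' : ∀ y ∈ closure T, Commute (c : G) y := fun y hy => comm_of_mem_closure e hy
    have m : (c : G) ∈ closure T := h1 ▸ fun v hv => (e' v (h3 (subset_closure hv))).symm.eq
    exact h2.le (show (⟨c, m⟩ : closure T) ∈ _ from mem_center_iff.2 fun y => Subtype.ext (e' y y.2).symm.eq),
    fun e y hy => cV _ e y (subset_closure hy)⟩
  have ps : Function.Surjective (π.comp (inclusion le)) := fun m => by
    obtain ⟨⟨x, hx⟩, rfl⟩ := p1 m
    obtain ⟨y, hy, rfl | rfl⟩ := or x hx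
    · exact ⟨⟨x, hy⟩, rfl⟩
    · have : π ⟨d, dT⟩ = 1 := p2.ge (mem_center_iff.2 fun y => Subtype.ext (dc y y.2).symm.eq)
      exact ⟨⟨y, hy⟩, ((map_mul π ⟨y, le hy⟩ ⟨d, dT⟩).trans (by rw [this, mul_one]; rfl)).symm⟩
  have ck : ∀ c ∈ C, (∀ y ∈ K, Commute c y) → c ∈ closure A := fun c hc e => (ka ⟨c, hc⟩).1 (by
    ext m
    obtain ⟨z, rfl⟩ := ps m
    exact (a2 _ _).trans (congrArg π (Subtype.ext (commute_iff_cj.1 (e z z.2)))))
  have c1 : center K = Z.subgroupOf K := by
    ext z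
    rw [mem_center_iff, mem_subgroupOf, hZ]
    exact ⟨fun e => ⟨(hK.le z.2).1, ck _ (hKC (le z.2)) fun y hy => (congrArg Subtype.val (e ⟨y, hy⟩)).symm⟩,
      fun e y => Subtype.ext (cV _ e.2 y (le y.2)).symm.eq⟩
  have c2 : (π.comp (inclusion le)).ker = Z.subgroupOf K := by
    ext z
    rw [MonoidHom.mem_ker, MonoidHom.comp_apply, ← MonoidHom.mem_ker, p2, h2, mem_subgroupOf, mem_subgroupOf, hZ]
    exact ⟨fun e => ⟨(hK.le z.2).1, e⟩, fun e => e.2⟩
  have q : IsQuasisimple K := by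
    refine ⟨isPerfect_iff.2 (le_antisymm (commutator_le.2 fun a ha b hb =>
      mul_mem (mul_mem (mul_mem ha hb) (inv_mem ha)) (inv_mem hb)) fun x hx => ?_),
      (quot_of_hom _ ps (c2.trans c1.symm)).some.isSimpleGroup⟩
    have m := h.mem_S h.tb.lt
    refine (commutator_le.2 fun a ha b hb => ?_ : ⁅closure T, closure T⁆ ≤ _)
      ((h.mem_comm_or hM.r3 (fun a ha => T3sq hE.set (hT ha)) m (le hx)).resolve_right fun e => hn _ (hT m) ?_)
    · obtain ⟨a', ha', e1⟩ := or a ha
      obtain ⟨b', hb', e2⟩ := or b hb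
      have : ⁅a, b⁆ = ⁅a', b'⁆ := by
        have k1 : ∀ x ∈ closure T, ∀ y ∈ closure T, ⁅x * d, y⁆ = ⁅x, y⁆ := fun x _ y hy => by
          simp only [commutatorElement_def, mul_inv_rev, mul_assoc]
          rw [← mul_assoc d, (dc y hy).eq, mul_assoc, mul_inv_cancel_left]
        have k2 : ∀ x ∈ closure T, ∀ y ∈ closure T, ⁅y, x * d⁆ = ⁅y, x⁆ := fun x hx y hy => by
          rw [← commutatorElement_inv, k1 x hx y hy, commutatorElement_inv]
        rcases e1 with rfl | rfl <;> rcases e2 with rfl | rfl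
        exacts [rfl, k2 _ (le hb') _ ha, k1 _ (le ha') _ hb, (k1 _ (le ha') _ hb).trans (k2 _ (le hb') _ (le ha'))]
      exact this ▸ commutator_mem_commutator ha' hb'
    · exact ((commutator G).mul_mem_cancel_left (hK.le hx).1).1 (commutator_mono le_top le_top e)
  refine ⟨q, c1, fstar_of_qs (hK ▸ inf_le_inf_left _ hKC) (fun c hc => mem_normalizer_fintype fun y hy => ?_) q
    fun c hc => hK ▸ ⟨hc.1.1, h3 (ck c hc.1.2 fun y hy => (hc.2 y hy).symm)⟩, ⟨_, ps, c2⟩,
    α.comp (inclusion inf_le_right), Subgroup.ext fun c => ?_⟩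
  · exact hK ▸ ⟨(commutator_normal ⊤ ⊤).conj_mem _ (hK.le hy).1 c, cj_mem_closure (hC c hc.2) (le hy)⟩
  · rw [MonoidHom.mem_ker, MonoidHom.comp_apply, ka, mem_subgroupOf, hZ]
    exact ⟨fun e => ⟨c.2.1, e⟩, fun e => e.2⟩

theorem quot_of_card {H Q : Type*} [Group H] [Group Q] [Finite H] [Finite Q] (α : H →* Q) {Z : Subgroup H} [Z.Normal]
    (hk : α.ker = Z) (hc : Nat.card Z * Nat.card Q ≤ Nat.card H) : Nonempty (H ⧸ Z ≃* Q) := by
  refine quot_of_hom α (MonoidHom.range_eq_top.1 (eq_top_of_le_card _ ?_)) hk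
  rw [← card_mul_index Z, ← hk, index_ker] at hc
  exact Nat.le_of_mul_le_mul_left hc Nat.card_pos

end Cfsg.Agent.H29
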