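import Cfsg.Agent.H29.Fi14
import Cfsg.Agent.H29.F24

/-! Involution centralisers in the commutator subgroup of a group of type M(24). -/

set_option autoImplicit false
open Cfsg Subgroup Equiv Cfsg.Agent.H17

namespace Cfsg.Agent.H29

universe u
variable {G : Type u} [Group G] {E S T : Set G} {B B1 : TB} {β γ β1 γ1 : ℕ → G} {u1 u2 : List ℕ} {k N : ℕ}
variable {M : Type} [Group M] {X : Set M} {t g : ℕ → M}

theorem Wh.centL [Finite G] (W : Wh B N E) (h : Chart B E β γ) {Y : List (List ℕ)} (hT : B.Tr Y)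
    (h1 : Chart B1 T β1 γ1) (hM : Model B1 u1 u2 k X t g) {A : Set G} (hA : {y | y ∈ B.nodes β Y} = A)
    (cm : ∀ v ∈ A, ∀ y ∈ T, Commute v y) (m : closure A ≤ closure T) {s : ℕ} (ht : s ≤ 26)
    (hn : B.T.n ≤ Nat.shiftLeft 32 s) {p c : ℕ} (c5 : B.popP s Y = p) (hp : 0 < p) (hN : N = c * Nat.card M * p)
    (hc : c ≤ Nat.card (closure A)) : closure T = centralizer A ∧ center (closure T) = (closure A).subgroupOf _ := by
  obtain ⟨π, p1, p2, -⟩ := h1.exists_hom hM.r3 hM
  have c := h.card_cent W.tr3 ht hn hT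
  rw [W.card, hN, c5, hA] at c
  exact eq_of_card' π p1 p2 ((closure_le _).2 fun y hy v hv => (cm v hv y hy).eq)
    m (fun v hv x hx => (comm_of_mem_closure (fun z hz => (comm_of_mem_closure (cm z hz) hx).symm) hv).symm)
    (Nat.eq_of_mul_eq_mul_right hp c).symm hc

theorem even_quot {L C K : Subgroup G} (hL : L.index = 2) {Q : Type*} [Group Q] (f : C →* Q)
    (hs : Function.Surjective f) (hk : f.ker = K.subgroupOf C) {d : G} (hd : d ∈ K) (hC : d ∈ C) (hn : d ∉ L) :
    ∃ f' : ↥(L ⊓ C) →* Q, Function.Surjective f' ∧ f'.ker = (L ⊓ K).subgroupOf _ := by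
  refine ⟨f.comp (inclusion inf_le_right), fun q => ?_, Subgroup.ext fun c => ?_⟩
  · obtain ⟨⟨c, hc⟩, rfl⟩ := hs q
    by_cases e : c ∈ L
    · exact ⟨⟨c, e, hc⟩, rfl⟩
    · exact ⟨⟨c * d, (mul_mem_iff_of_index_two hL).2 (iff_of_false e hn), mul_mem hc hC⟩,
        (map_mul f ⟨c, hc⟩ ⟨d, hC⟩).trans (by rw [show f ⟨d, hC⟩ = 1 from hk.ge hd, mul_one])⟩
  · rw [MonoidHom.mem_ker, MonoidHom.comp_apply, ← MonoidHom.mem_ker, hk, mem_subgroupOf, mem_subgroupOf]
    exact ⟨fun e => ⟨c.2.1, e⟩, fun e => e.2⟩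

theorem card_of_hom {H Q : Type*} [Group H] [Group Q] (π : H →* Q) (hs : Function.Surjective π) :
    Nat.card H = Nat.card π.ker * Nat.card Q := by
  rw [← card_mul_index π.ker, index_ker, MonoidHom.range_eq_top.2 hs, card_top]

theorem card_subOf {Z H : Subgroup G} (h : Z ≤ H) : Nat.card (Z.subgroupOf H) = Nat.card Z :=
  Nat.card_congr (subgroupOfEquivOfLe h).toEquiv

theorem even_part {L V : Subgroup G} {A : Set G} {d : G} (hL : L.index = 2) (hn : d ∉ L) (hd : d * d = 1)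
    (h1 : V ≤ L) (h2 : V ≤ closure A) (hc : ∀ v ∈ V, Commute d v) (hA : ∀ a ∈ A, a * d ∈ V) : L ⊓ closure A = V :=
  le_antisymm (fun v hv => (mem_or_mul hd (fun n hn => by rwa [(hc n hn).eq, mul_assoc, hd, mul_one])
    (fun a ha => .inr (hA a ha)) hv.2).resolve_right fun e => hn ((L.mul_mem_cancel_left hv.1).1 (h1 e))) (le_inf h1 h2)

theorem M24.index (W : Wh M24.B M24.ord E) : (commutator G).index = 2 ∧ ∀ a ∈ E, a ∉ commutator G := by
  obtain ⟨_, hM, -⟩ := M24.model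
  obtain ⟨e⟩ := W.equiv hM
  obtain ⟨β, γ, h⟩ := W.ch
  have i : (commutator G).index = 2 := by
    rw [← Fi24.main.1, ← index_map_equiv _ e, show (commutator G).map (e : G →* Spor.Fi24) = commutator _ by
      rw [_root_.commutator, map_commutator, map_top_of_surjective _ e.surjective]; rfl]
  refine ⟨i, fun a ha e => ?_⟩
  have : closure E ≤ commutator G := (closure_le _).2 fun y hy =>
    let ⟨c, _, e'⟩ := h.exists_cj M24.r3 ha hy; e' ▸ (commutator_normal ⊤ ⊤).conj_mem a e c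
  rw [W.top, top_le_iff] at this
  simp [this] at i

end Cfsg.Agent.H29
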