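import Cfsg.Agent.H29.Fi15

/-! Symmetries of charted sets and automorphisms of the models. -/

set_option autoImplicit false
open Cfsg Subgroup Equiv Cfsg.Agent.H17

namespace Cfsg.Agent.H29

universe u
variable {G : Type u} [Group G] {E S T : Set G} {B : TB} {β γ : ℕ → G} {u1 u2 : List ℕ} {k : ℕ} {ψ : G → G}
variable {M : Type} [Group M] {X : Set M} {t g : ℕ → M}

/-- a symmetry of `S` -/
structure Gm (S : Set G) (ψ : G → G) : Prop where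
  mem : ∀ a ∈ S, ψ a ∈ S
  inj : ∀ a ∈ S, ∀ b ∈ S, ψ a = ψ b → a = b
  surj : ∀ b ∈ S, ∃ a ∈ S, ψ a = b
  cj : ∀ a ∈ S, ∀ b ∈ S, ψ (a * b * a⁻¹) = ψ a * ψ b * (ψ a)⁻¹

/-- all symmetries of `S` are induced by `C` -/
def Ind (S : Set G) (C : Subgroup G) : Prop := ∀ ψ, Gm S ψ → ∃ c ∈ C, ∀ y ∈ S, ψ y = c * y * c⁻¹

theorem Gm.comm_iff (h : Gm S ψ) (hc : ∀ a ∈ S, ∀ b ∈ S, a * b * a⁻¹ ∈ S) {a b : G} (ha : a ∈ S) (hb : b ∈ S) :
    Commute (ψ a) (ψ b) ↔ Commute a b := by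
  rw [commute_iff_cj, commute_iff_cj, ← h.cj a ha b hb]
  exact ⟨h.inj _ (hc a ha b hb) b hb, congrArg ψ⟩

theorem Gm.conj (h : Gm S ψ) {c : G} (h1 : ∀ y ∈ S, c * y * c⁻¹ ∈ S) (h2 : ∀ y ∈ S, c⁻¹ * y * c⁻¹⁻¹ ∈ S) :
    Gm S fun y => c * ψ y * c⁻¹ :=
  ⟨fun a ha => h1 _ (h.mem a ha), fun a ha b hb e => h.inj a ha b hb (by simpa using e),
    fun b hb => let ⟨a, ha, e⟩ := h.surj _ (h2 b hb); ⟨a, ha, by simp [e, mul_assoc]⟩,
    fun a ha b hb => by rw [h.cj a ha b hb]; group⟩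

theorem Gm.nb (h : Gm S ψ) (hc : ∀ a ∈ S, ∀ b ∈ S, a * b * a⁻¹ ∈ S) {d : G} (hd : d ∈ S) (e : ψ d = d) :
    Gm (Nb S d) ψ := by
  have : ∀ a ∈ S, ψ a ∈ Nb S d ↔ a ∈ Nb S d := fun a ha => by
    rw [Nb, Set.mem_setOf_eq, Set.mem_setOf_eq, ← h.comm_iff hc hd ha, e]
    exact ⟨fun m => ⟨ha, fun e' => m.2.1 (e' ▸ e), m.2.2⟩, fun m => ⟨h.mem a ha, fun e' => m.2.1
      (h.inj a ha d hd (e'.trans e.symm)), m.2.2⟩⟩
  exact ⟨fun a ha => (this a ha.1).2 ha, fun a ha b hb => h.inj a ha.1 b hb.1,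
    fun b hb => let ⟨a, ha, e⟩ := h.surj b hb.1; ⟨a, (this a ha).1 (e ▸ hb), e⟩, fun a ha b hb => h.cj a ha.1 b hb.1⟩

theorem Gm.clos (h : Gm S ψ) (hc : ∀ a ∈ S, ∀ b ∈ S, a * b * a⁻¹ ∈ S) (hi : ∀ a ∈ S, a⁻¹ = a) (hT : T ⊆ S)
    {H : Type*} [Group H] {ι θ : H →* G} {A : Set H} (hA : ∀ a ∈ A, ι a ∈ T) (e : ∀ a ∈ A, ψ (ι a) = θ a) {z : H}
    (hz : z ∈ closure A) : ∀ y ∈ S, ι z * y * (ι z)⁻¹ ∈ S ∧ ψ (ι z * y * (ι z)⁻¹) = θ z * ψ y * (θ z)⁻¹ := by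
  have key : ∀ a ∈ A, ∀ b, (∀ y ∈ S, ι b * y * (ι b)⁻¹ ∈ S ∧ ψ (ι b * y * (ι b)⁻¹) = θ b * ψ y * (θ b)⁻¹) → ∀ y ∈ S,
      ι a * ι b * y * (ι a * ι b)⁻¹ ∈ S ∧ ψ (ι a * ι b * y * (ι a * ι b)⁻¹) = θ a * θ b * ψ y * (θ a * θ b)⁻¹ :=
    fun a ha b ih y hy => by
      rw [show ι a * ι b * y * (ι a * ι b)⁻¹ = ι a * (ι b * y * (ι b)⁻¹) * (ι a)⁻¹ by group]
      exact ⟨hc _ (hT (hA a ha)) _ (ih y hy).1, by rw [h.cj _ (hT (hA a ha)) _ (ih y hy).1, (ih y hy).2, e a ha]; group⟩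
  induction hz using closure_induction_left with
  | one => simp
  | mul_left a ha b _ ih => simpa only [map_mul] using key a ha b ih
  | inv_mul_cancel a ha b _ ih =>
    simpa only [map_mul, map_inv, hi _ (hT (hA a ha)), ← e a ha, hi _ (h.mem _ (hT (hA a ha)))] using key a ha b ih

/-- common neighbours of `d`, `y` in a suitable triangle -/
def Mu (S : Set G) (d y z : G) : Prop := ∃ z' w, (∀ x ∈ [z, z', w], x ∈ Nb S d ∧ Commute y x) ∧ z ≠ z' ∧ Commute z z' ∧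
  ¬ Commute w z ∧ ¬ Commute w z'
def Rig (S : Set G) : Prop := ∀ d ∈ S, ∀ y ∈ S, ¬ Commute d y → (∃ z, Mu S d y z) ∧
  ∀ a ∈ S, (∀ z, Mu S d y z → Commute z a) → a = d ∨ a = y ∨ a = d * y * d⁻¹
def NbT (S : Set G) : Prop := ∀ d ∈ S, ∀ y ∈ S, ∀ y' ∈ S, ¬ Commute d y → ¬ Commute d y' →
  ∃ z ∈ closure (Nb S d), z * y * z⁻¹ = y'

noncomputable def rigB (B : TB) (u2 w : List ℕ) (Q : Prs) : Bool :=
  band (subB (B.bits [w]) (B.cn' [u2, []])) <|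
  band (subB (B.bits (Q.map Prod.fst ++ Q.map Prod.snd)) (dif (B.cn' [u2, []]) (B.nb w))) <|
  band (allL Q fun q => band (tb (B.nb q.1) (B.pt q.2)) (bnot (Nat.beq (B.pt q.1) (B.pt q.2))))
    (subB (B.cn (Q.map Prod.fst)) (B.bits [[], u2, B.x0 :: u2]))

theorem Chart.rig (h : Chart B S β γ) (hR : B.Rank3 u1 u2 k) {w : List ℕ} {Q : Prs} (hQ : Q ≠ [])
    (hc : rigB B u2 w Q = true) : Rig S := fun d hd y hy c => by
  obtain ⟨β, γ, h, rfl, rfl⟩ := h.exists_at2 hR hd hy c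
  simp only [rigB, band_true] at hc
  obtain ⟨c1, c2, c3, c4⟩ := hc
  have k1 : ∀ u, (B.cn' [u2, []]).testBit (B.pt u) = true → β (B.pt u) ∈ Nb S (β B.p0) ∧
      Commute (β (B.pt u2)) (β (B.pt u)) := fun u hu => by
    have := (h.testBit_cn'.1 hu).2
    simp only [TB.nodes_cons, TB.nodes_nil, h.tb.pt_nil, List.mem_cons, List.not_mem_nil, or_false, forall_eq_or_imp,
      forall_eq, not_or] at this
    exact ⟨⟨h.pt_mem u, this.1.2, this.2.2⟩, this.2.1⟩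
  have k2 : ∀ u ∈ Q.map Prod.fst ++ Q.map Prod.snd, (B.cn' [u2, []]).testBit (B.pt u) = true ∧
      ¬ Commute (β (B.pt w)) (β (B.pt u)) := fun u hu => by
    have := sub_of_subB c2 (TB.testBit_bits.2 ⟨u, hu, rfl⟩)
    rw [testBit_dif, Bool.and_eq_true, Bool.not_eq_true'] at this
    exact ⟨this.1, by rw [h.comm_iff w (h.tb.pt_lt u), this.2]; simp⟩
  have mu : ∀ q ∈ Q, Mu S (β B.p0) (β (B.pt u2)) (β (B.pt q.1)) := fun q hq => by
    have a1 := k2 q.1 (List.mem_append_left _ (List.mem_map_of_mem hq))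
    have a2 := k2 q.2 (List.mem_append_right _ (List.mem_map_of_mem hq))
    have a3 := band_true.1 (allL_true c3 q hq)
    refine ⟨β (B.pt q.2), β (B.pt w), ?_, fun e => ?_, (h.comm_iff _ (h.tb.pt_lt _)).2 (tb_eq _ _ ▸ a3.1), a1.2, a2.2⟩
    · simp only [List.mem_cons, List.not_mem_nil, or_false, forall_eq_or_imp, forall_eq]
      exact ⟨k1 _ a1.1, k1 _ a2.1, k1 _ (sub_of_subB c1 (TB.testBit_bits.2 ⟨w, by simp, rfl⟩))⟩
    · simpa [h.inj _ _ (h.tb.pt_lt _) (h.tb.pt_lt _) e] using bnot_true.1 a3.2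
  refine ⟨let ⟨q, hq⟩ := List.exists_mem_of_ne_nil Q hQ; ⟨_, mu q hq⟩, fun a ha e => ?_⟩
  obtain ⟨i, hi, rfl⟩ := (h.img a).1 ha
  have := (h.testBit_bits' hi).1 (sub_of_subB c4 (h.testBit_cn.2 ⟨hi, fun z hz => by
    obtain ⟨u, hu, rfl⟩ := TB.mem_nodes.1 hz
    obtain ⟨q, hq, rfl⟩ := List.mem_map.1 hu
    exact e _ (mu q hq)⟩))
  rw [h.base _ (h.tb.pt_lt _)]
  simpa [h.tb.pt] using this

theorem Chart.nbT (h : Chart B S β γ) (hM : Model B u1 u2 k X t g)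
    (hc : centralizer {t B.p0} ≤ closure (Nb X (t B.p0))) : NbT S := fun d hd y hy y' hy' c c' => by
  obtain ⟨β, γ, h, rfl, rfl⟩ := h.exists_at2 hM.r3 hd hy c
  obtain ⟨i, hi, rfl⟩ := (h.img y').1 hy'
  obtain ⟨w, w1, w2⟩ := hM.r3.o2 i hi (Bool.eq_false_iff.2 fun e => c' ((h.comm0 hi).2 e))
  have a := hM.chart.acts_ev w
  have m := hc (mem_centralizer_singleton_iff.2 (mul_inv_eq_iff_eq_mul.1 ((a _ h.tb.lt).trans (by rw [w1]))))
  rw [hM.chart.Nb_eq h.tb.lt] at m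
  obtain ⟨z, hz, w', a1, a2⟩ := hM.chart.pair hM.r3 h (fun j hj => hj.1) m
  refine ⟨z, closure_mono ?_ hz, ?_⟩
  · rw [h.Nb_eq h.tb.lt]
    exact Set.image_mono fun j hj => ⟨hj.1, hj.2.1, (hM.chart.comm_transfer hM.r3 h h.tb.lt hj.1).1 hj.2.2⟩
  · rw [a2 _ (h.tb.pt_lt _), ← w2, hM.chart.inj _ _ (h.tb.good.ev_lt' _ (h.tb.pt_lt _)) (h.tb.good.ev_lt' _ (h.tb.pt_lt _))
      ((a1 _ (h.tb.pt_lt _)).symm.trans (a _ (h.tb.pt_lt _)))]

theorem Ind.step (h : Chart B S β γ) (hR : B.Rank3 u1 u2 k) (hi : ∀ a ∈ S, a⁻¹ = a) (rig : Rig S) (nt : NbT S) {d : G}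
    (hd : d ∈ S) {C C' : Subgroup G} (hI : Ind (Nb S d) C') (hp : ∀ c ∈ C', c⁻¹ * d * c = d ∨
      c⁻¹ * d * c ∈ closure (Nb S d) ∧ ∀ y ∈ S, Commute (c⁻¹ * d * c) y) (hC : ∀ c ∈ C', Commute c d → c ∈ C)
    (hn : ∀ c ∈ C, ∀ y ∈ S, c * y * c⁻¹ ∈ S) (hle : closure S ≤ C) : Ind S C := fun ψ hψ => by
  have hc : ∀ a ∈ S, ∀ b ∈ S, a * b * a⁻¹ ∈ S := fun a ha b => h.cj_mem' hR (subset_closure ha)
  obtain ⟨g, hg, e⟩ := h.exists_cj hR (hψ.mem d hd) hd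
  have h1 := hψ.conj (hn g (hle hg)) (hn _ (inv_mem (hle hg)))
  obtain ⟨c, c1, c2⟩ := hI _ (h1.nb hc hd e)
  obtain ⟨y0, hy, cy⟩ := h.exists_not_comm hR hd
  have cd : Commute c d := by
    refine (hp c c1).elim (fun e => ?_) fun e => absurd ?_ cy
    · rw [mul_assoc, inv_mul_eq_iff_eq_mul] at e; exact e.symm
    · obtain ⟨a, ha, rfl⟩ := h1.surj y0 hy
      have := (h1.clos hc hi (fun _ m => m.1) (ι := .id G) (θ := (MulAut.conj c).toMonoidHom) (fun _ m => m) c2 e.1 a ha).2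
      rw [MonoidHom.id_apply, commute_iff_cj.1 (e.2 a ha)] at this
      exact commute_iff_cj.2 (by simpa [mul_assoc] using this.symm)
  have h2 := h1.conj (hn _ (inv_mem (hC c c1 cd))) (hn _ (inv_mem (inv_mem (hC c c1 cd))))
  set χ := fun y => c⁻¹ * (g * ψ y * g⁻¹) * c⁻¹⁻¹ with hχ
  have f1 : ∀ y ∈ Nb S d, χ y = y := fun y hy => by simp only [hχ, c2 y hy]; group
  have f2 : χ d = d := by simp only [hχ, e]; exact commute_iff_cj.1 cd.inv_left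
  obtain ⟨e, e1, e2, e3, e4⟩ : ∃ e ∈ closure S, Commute e d ∧ (∀ z ∈ Nb S d, Commute e z) ∧ χ y0 = e * y0 * e⁻¹ := by
    rcases (rig d hd y0 hy cy).2 _ (h2.mem y0 hy) (fun z ⟨_, _, m, _⟩ => by
      have := m z (by simp)
      exact f1 z this.1 ▸ (h2.comm_iff hc this.1.1 hy).2 this.2.symm) with e | e | e
    · exact absurd (h2.inj _ hy _ hd (e.trans f2.symm) ▸ .refl _) cy
    · exact ⟨1, one_mem _, .one_left _, fun _ _ => .one_left _, by simp [e]⟩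
    · exact ⟨d, subset_closure hd, .refl _, fun z hz => hz.2.2, e⟩
  refine ⟨g⁻¹ * c * e, mul_mem (mul_mem (inv_mem (hle hg)) (hC c c1 cd)) (hle e1), fun y hy' => ?_⟩
  suffices χ y = e * y * e⁻¹ by
    rw [show g⁻¹ * c * e * y * (g⁻¹ * c * e)⁻¹ = g⁻¹ * c * (e * y * e⁻¹) * c⁻¹ * g by group, ← this, hχ]; group
  by_cases c3 : Commute d y
  · by_cases c4 : y = d
    · rw [c4, f2, commute_iff_cj.1 e2]
    · rw [f1 y ⟨hy', c4, c3⟩, commute_iff_cj.1 (e3 y ⟨hy', c4, c3⟩)]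
  · obtain ⟨z, hz, rfl⟩ := nt d hd y0 hy y hy' cy c3
    have := (h2.clos hc hi (fun _ m => m.1) (ι := .id G) (θ := .id G) (fun _ m => m) f1 hz y0 hy).2
    simp only [MonoidHom.id_apply] at this
    rw [this, e4, ← mul_assoc, ← mul_assoc, ← mul_assoc, ← mul_assoc, (comm_of_mem_closure e3 hz).eq, mul_assoc _ e⁻¹,
      mul_assoc _ z⁻¹, (comm_of_mem_closure e3 hz).inv_inv.eq]

theorem Gm.chart (hψ : Gm S ψ) (h : Chart B S β γ) (hR : B.Rank3 u1 u2 k) (hi : ∀ a ∈ S, a⁻¹ = a) :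
    ∃ γ', Chart B S (fun i => ψ (β i)) γ' := by
  have hc : ∀ a ∈ S, ∀ b ∈ S, a * b * a⁻¹ ∈ S := fun a ha b => h.cj_mem' hR (subset_closure ha)
  have : ∀ z ∈ closure S, ∃ z' ∈ closure S, ∀ y ∈ S, ψ (z * y * z⁻¹) = z' * ψ y * z'⁻¹ := fun z hz => by
    let A : Set (G × G) := {p | p.1 ∈ S ∧ ψ p.1 = p.2}
    obtain ⟨p, hp, rfl⟩ : z ∈ (closure A).map (.fst G G) := by
      rw [MonoidHom.map_closure]; exact Subgroup.closure_mono (by exact fun a ha => ⟨(a, ψ a), ⟨ha, rfl⟩, rfl⟩) hz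
    refine ⟨p.2, ?_, fun y hy => (hψ.clos hc hi le_rfl (ι := .fst G G) (θ := .snd G G) (fun _ m => m.1)
      (fun _ m => m.2) hp y hy).2⟩
    exact (closure_le ((closure S).comap (.snd G G))).2 (fun a (ha : a ∈ A) => (Subgroup.subset_closure (ha.2 ▸ hψ.mem _ ha.1) :
      a.2 ∈ closure S)) hp
  choose f f1 f2 using this
  exact ⟨fun x => f _ (h.mem x), h.tb, fun i j hi hj e => h.inj i j hi hj (hψ.inj _ (h.mem_S hi) _ (h.mem_S hj) e),
    fun y => ⟨fun hy => let ⟨a, ha, e⟩ := hψ.surj y hy; let ⟨i, hi, e'⟩ := (h.img a).1 ha; ⟨i, hi, e' ▸ e⟩,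
      fun ⟨i, hi, e⟩ => e ▸ hψ.mem _ (h.mem_S hi)⟩, fun x i hi => by rw [← f2 _ _ _ (h.mem_S hi), h.act x i hi],
    fun i hi => by rw [← hψ.cj _ (h.mem_S h.tb.lt) _ (h.mem_S hi), h.base i hi], fun x => f1 _ _⟩

theorem Chart.card_aut [Finite G] (hE : Tr3 E) (hT : T ⊆ E) (h : Chart B T β γ) (hM : Model B u1 u2 k X t g)
    {A : Set G} (h1 : closure T = centralizer A) (h2 : center (closure T) = (closure A).subgroupOf _)
    (h3 : closure A ≤ closure T) {C : Subgroup G} (hC : ∀ c ∈ C, ∀ y ∈ T, c * y * c⁻¹ ∈ T) (hKC : closure T ≤ C)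
    {r : ℕ} (hr : Nat.card C = r * Nat.card (closure T)) :
    (Ind T C → (∀ φ : MulAut M, ∀ x ∈ X, φ x ∈ X) → Nat.card (MulAut M) = r * Nat.card M) ∧
      (Nat.card (MulAut M) ≤ r * Nat.card M → Ind T C) := by
  obtain ⟨π, p1, p2, -, p4⟩ := h.exists_hom hM.r3 hM
  have hk : ∀ z, π z = 1 ↔ ∀ y ∈ closure T, Commute (z : G) y := fun z => by
    rw [← MonoidHom.mem_ker, p2, mem_center_iff]
    exact ⟨fun e y hy => (congrArg Subtype.val (e ⟨y, hy⟩)).symm, fun e y => Subtype.ext (e y y.2).symm⟩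
  obtain ⟨α, hα⟩ := exists_autHom π p1 (C := C) (fun c hc z => cj_mem_closure (hC c hc)) fun c hc z hz =>
    (hk _).2 fun y hy => (commute_cj_left c).2 ((hk z).1 hz _ (by simpa using cj_mem_closure (hC _ (inv_mem hc)) hy))
  have pi : ∀ a b : closure T, (a : G) ∈ T → (b : G) ∈ T → π a = π b → a = b := fun a b ha hb e => by
    obtain ⟨i, hi, e1⟩ := (h.img a).1 ha
    obtain ⟨j, hj, e2⟩ := (h.img b).1 hb
    rw [p4 a i hi e1, p4 b j hj e2] at e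
    exact Subtype.ext (by rw [← e1, ← e2, hM.chart.inj i j hi hj e])
  have px : ∀ x, x ∈ X ↔ ∃ a : closure T, (a : G) ∈ T ∧ π a = x := fun x => ⟨fun hx => by
    obtain ⟨i, hi, rfl⟩ := (hM.chart.img x).1 hx
    exact ⟨⟨_, subset_closure (h.mem_S hi)⟩, h.mem_S hi, p4 _ i hi rfl⟩, fun ⟨a, ha, e⟩ => by
    obtain ⟨i, hi, e1⟩ := (h.img a).1 ha
    exact e ▸ p4 a i hi e1 ▸ hM.chart.mem_S hi⟩
  have ka : α.ker = (closure A).subgroupOf C := Subgroup.ext fun c => ⟨fun e => by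
    have e' : ∀ y ∈ closure T, Commute (c : G) y := fun y => comm_of_mem_closure
      (h.comm_of_mod hE hT hM.r3 fun y hy w hw => by
        have := hα c ⟨y, subset_closure hy⟩
        rw [show α c = 1 from e, MulAut.one_apply, eq_comm, ← mul_inv_eq_one, ← map_inv, ← map_mul] at this
        exact (hk _).1 this w (subset_closure hw))
    have m : (c : G) ∈ closure T := h1 ▸ fun v hv => (e' v (h3 (subset_closure hv))).symm.eq
    exact h2.le (show (⟨c, m⟩ : closure T) ∈ _ from mem_center_iff.2 fun y => Subtype.ext (e' y y.2).symm.eq), fun e => by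
    ext m
    obtain ⟨z, rfl⟩ := p1 m
    rw [hα]
    exact congrArg π (Subtype.ext (commute_iff_cj.1 ((hk ⟨c, h3 e⟩).1 (p2.ge (h2.ge e)) z z.2)))⟩
  have : Finite M := .of_surjective π p1
  have : Finite (MulAut M) := .of_injective _ MulEquiv.toEquiv_injective
  have cr : Nat.card α.range = r * Nat.card M := by
    have c1 := card_of_hom π p1
    have c2 := card_of_hom _ α.rangeRestrict_surjective
    rw [MonoidHom.ker_rangeRestrict, ka, card_subOf (h3.trans hKC), hr, c1, p2, h2, card_subOf h3, mul_left_comm] at c2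
    exact (Nat.eq_of_mul_eq_mul_left Nat.card_pos c2).symm
  refine ⟨fun hI hX => ?_, fun hc ψ hψ => ?_⟩
  · rw [← cr, MonoidHom.range_eq_top.2 fun φ => ?_, card_top]
    have : ∀ y, ∃ y' : closure T, ∀ hy : y ∈ T, (y' : G) ∈ T ∧ π y' = φ (π ⟨y, subset_closure hy⟩) := fun y => by
      by_cases hy : y ∈ T
      · obtain ⟨a, ha⟩ := (px _).1 (hX φ _ ((px _).2 ⟨⟨y, subset_closure hy⟩, hy, rfl⟩)); exact ⟨a, fun _ => ha⟩
      · exact ⟨1, fun e => absurd e hy⟩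
    choose f hf using this
    obtain ⟨c, hc, e⟩ := hI (fun y => f y) ⟨fun a ha => (hf a ha).1, fun a ha b hb e => congrArg Subtype.val
      (pi ⟨a, subset_closure ha⟩ ⟨b, subset_closure hb⟩ ha hb (φ.injective (by rw [← (hf a ha).2, ← (hf b hb).2,
        Subtype.ext e]))), fun b hb => by
        obtain ⟨a, ha, e⟩ := (px _).1 (hX φ⁻¹ _ ((px _).2 ⟨⟨b, subset_closure hb⟩, hb, rfl⟩))
        exact ⟨a, ha, congrArg Subtype.val (pi _ ⟨b, subset_closure hb⟩ (hf _ ha).1 hb (by simp [(hf _ ha).2, e]))⟩,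
      fun a ha b hb => by
        have m := hC a (hKC (subset_closure ha)) b hb
        refine congrArg Subtype.val (pi _ (f a * f b * (f a)⁻¹) (hf _ m).1 (hC _ (hKC (f a).2) _ (hf b hb).1) ?_)
        simp only [map_mul, map_inv, (hf a ha).2, (hf b hb).2, (hf _ m).2]
        rw [← map_inv, ← map_mul, ← map_mul, ← map_inv, ← map_mul, ← map_mul]; rfl⟩
    refine ⟨⟨c, hc⟩, MulEquiv.toMonoidHom_injective (MonoidHom.eq_of_eqOn_dense hM.top fun x hx => ?_)⟩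
    obtain ⟨a, ha, rfl⟩ := (px x).1 hx
    exact (hα _ a).trans ((congrArg π (Subtype.ext (e a ha).symm)).trans (hf a ha).2)
  · obtain ⟨γ', h'⟩ := hψ.chart h hM.r3 fun a ha => T3inv hE.set (hT ha)
    obtain ⟨π', q1, q2, -, q4⟩ := h'.exists_hom hM.r3 hM
    obtain ⟨c, e⟩ := MonoidHom.range_eq_top.1 (eq_top_of_le_card _ (cr ▸ hc))
      ((QuotientGroup.quotientKerEquivOfSurjective π' q1).symm.trans ((QuotientGroup.quotientMulEquivOfEq
        (q2.trans p2.symm)).trans (QuotientGroup.quotientKerEquivOfSurjective π p1)))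
    refine ⟨c, c.2, fun y hy => ?_⟩
    obtain ⟨i, hi, rfl⟩ := (h.img y).1 hy
    have m := hψ.mem _ hy
    refine congrArg Subtype.val (pi ⟨_, subset_closure m⟩ ⟨_, subset_closure (hC c c.2 _ hy)⟩ m (hC c c.2 _ hy) ?_)
    rw [← hα c ⟨_, subset_closure hy⟩, e, p4 ⟨_, subset_closure hy⟩ i hi rfl, ← q4 ⟨_, subset_closure m⟩ i hi rfl]
    rw [MulEquiv.trans_apply, show (QuotientGroup.quotientKerEquivOfSurjective π' q1).symm (π' ⟨_, subset_closure m⟩) =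
      QuotientGroup.mk ⟨_, subset_closure m⟩ from (MulEquiv.symm_apply_eq _).2 rfl]
    rfl

end Cfsg.Agent.H29
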