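import Cfsg.Agent.H29.Fi16
import Cfsg.Agent.S0815

/-! Automorphisms of the Fischer groups. -/

set_option autoImplicit false
open Cfsg Subgroup Equiv Cfsg.Agent.H17

namespace Cfsg.Agent.H29

universe u
variable {G : Type u} [Group G] {E S : Set G} {β γ : ℕ → G}

theorem M22.rig (h : Chart M22.B S β γ) : Rig S :=
  h.rig M22.r3 (w := [2, 3, 1, 2, 0, 1]) (Q := [([7, 2, 3, 1, 2, 0, 1], [4, 2, 3, 1, 2, 0, 1]),
    ([4, 2, 3, 1, 2, 0, 1], [7, 2, 3, 1, 2, 0, 1]),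
    ([3, 7, 2, 3, 1, 2, 0, 1], [8, 7, 2, 3, 1, 2, 0, 1]),
    ([8, 7, 2, 3, 1, 2, 0, 1], [4, 2, 3, 1, 2, 0, 1]),
    ([5, 4, 2, 3, 1, 2, 0, 1], [7, 2, 3, 1, 2, 0, 1]),
    ([6, 5, 4, 2, 3, 1, 2, 0, 1], [7, 2, 3, 1, 2, 0, 1])]) (by simp) (by decide +kernel)
theorem M22.nbT (h : Chart M22.B S β γ) : NbT S :=
  let ⟨_, hM, _⟩ := M22.model
  have := Fi22.faith.fin
  h.nbT hM (M22.cent M22.wh0 _ (hM.chart.mem_S h.tb.lt)).1.ge

theorem M23.rig (h : Chart M23.B S β γ) : Rig S :=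
  h.rig M23.r3 (w := [14, 13, 15, 7]) (Q := [([15, 8, 12, 7], [15, 2, 12, 7]),
    ([15, 2, 12, 7], [15, 8, 12, 7]),
    ([15, 11, 6, 15], [15, 2, 12, 7]),
    ([14, 0, 15, 7], [15, 8, 12, 7]),
    ([15, 11, 10, 15], [15, 11, 6, 15]),
    ([15, 6, 2, 15], [15, 2, 12, 7])]) (by simp) (by decide +kernel)
theorem M23.nbT (h : Chart M23.B S β γ) : NbT S :=
  let ⟨_, hM, _⟩ := M23.model
  have := Fi23.faith.fin
  h.nbT hM (M23.cent M23.wh0 _ (hM.chart.mem_S h.tb.lt)).1.ge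

theorem M24.rig (h : Chart M24.B S β γ) : Rig S :=
  h.rig M24.r3 (w := [2, 3, 1, 2, 0, 1]) (Q := [([4, 2, 3, 1, 2, 0, 1], [5, 3, 4, 2, 3, 1, 2, 0, 1]),
    ([5, 4, 2, 3, 1, 2, 0, 1], [3, 4, 2, 3, 1, 2, 0, 1]),
    ([3, 4, 2, 3, 1, 2, 0, 1], [5, 4, 2, 3, 1, 2, 0, 1]),
    ([6, 5, 4, 2, 3, 1, 2, 0, 1], [3, 4, 2, 3, 1, 2, 0, 1]),
    ([10, 5, 4, 2, 3, 1, 2, 0, 1], [3, 4, 2, 3, 1, 2, 0, 1]),
    ([7, 6, 5, 4, 2, 3, 1, 2, 0, 1], [3, 4, 2, 3, 1, 2, 0, 1]),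
    ([8, 7, 6, 5, 4, 2, 3, 1, 2, 0, 1], [3, 4, 2, 3, 1, 2, 0, 1]),
    ([9, 8, 7, 6, 5, 4, 2, 3, 1, 2, 0, 1], [3, 4, 2, 3, 1, 2, 0, 1])]) (by simp) (by decide +kernel)
theorem M24.nbT (h : Chart M24.B S β γ) : NbT S :=
  let ⟨_, hM, _⟩ := M24.model
  have := Fi24.faith.fin
  h.nbT hM (M24.cent M24.wh0 _ (hM.chart.mem_S h.tb.lt)).1.ge

theorem nb_cj {A : Set G} {c y : G} (hA : ∀ v ∈ A, c⁻¹ * v * c⁻¹⁻¹ ∈ A) (hy : ∀ v ∈ A, y ≠ v ∧ Commute v y) :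
    ∀ v ∈ A, c * y * c⁻¹ ≠ v ∧ Commute v (c * y * c⁻¹) := fun v hv =>
  ⟨fun e => (hy _ (hA v hv)).1 (by simp [← e, mul_assoc]),
    ((commute_cj_left c).2 (by simpa using (hy _ (hA v hv)).2.symm)).symm⟩

/-- the centraliser of the product of a clique `A` with common neighbourhood `T` -/
structure CD (T A : Set G) (x : G) (m : ℕ) : Prop where
  cl : closure T = centralizer A
  cen : center (closure T) = (closure A).subgroupOf _
  le : closure A ≤ closure T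
  pm : ∀ c ∈ centralizer {x}, ∀ v ∈ A, c * v * c⁻¹ ∈ A
  nm : ∀ c ∈ centralizer {x}, ∀ y ∈ T, c * y * c⁻¹ ∈ T
  le' : closure T ≤ centralizer {x}
  ex : ∃ f : centralizer {x} →* Perm (Fin m), Function.Surjective f ∧ f.ker = (closure T).subgroupOf _

theorem CD.card {T A : Set G} {x : G} {m : ℕ} (h : CD T A x m) :
    Nat.card (centralizer {x}) = m.factorial * Nat.card (closure T) := by
  obtain ⟨f, f1, f2⟩ := h.ex
  rw [card_of_hom f f1, f2, card_subOf h.le', mul_comm]; simp [Fintype.card_perm]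

namespace M24
variable [Finite G] (W : Wh B ord E) {d₁ d₂ d₃ : G} (h₁ : d₁ ∈ E) (m2 : d₂ ∈ Nb E d₁)
include W h₁ m2

theorem cd2 : CD (Nb (Nb E d₁) d₂) {d₁, d₂} (d₁ * d₂) 2 := by
  obtain ⟨β, γ, c⟩ := W.ch
  obtain ⟨_, hM, -⟩ := M22.model
  obtain ⟨h₂, hne, hc⟩ := id m2
  obtain ⟨a1, a2, a3⟩ := W.cent2 r3 (loc2 W) hM base R1s R1r R2s R2r (s := 14) (by decide)
    (by decide) pp2 (by norm_num) (by rw [Fi22.faith.card]) h₁ m2
  obtain ⟨f, f1, f2, f3⟩ := perm_struct W.tr3 (v := ![d₁, d₂]) (x := d₁ * d₂)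
    (fun i j => by fin_cases i <;> fin_cases j <;> simp [*, Ne.symm])
    (fun i => by fin_cases i <;> simp [*]) (fun i j => by fin_cases i <;> fin_cases j <;> simp [*, Commute.symm])
    (by simp) (fac2 W.tr3.set c _) fun l l' h h' => let ⟨g, _, e⟩ := c.cj_lists r3 r3.tr2 h h'; ⟨g, e⟩
  have rg : Set.range ![d₁, d₂] = {d₁, d₂} := by ext; simp [or_comm]
  have pm : ∀ c ∈ centralizer {d₁ * d₂}, ∀ v ∈ ({d₁, d₂} : Set G), c * v * c⁻¹ ∈ ({d₁, d₂} : Set G) := fun g hg v hv => by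
    obtain ⟨i, rfl⟩ := rg.ge hv
    exact rg.le ⟨_, (f3 ⟨g, hg⟩ i).symm⟩
  refine ⟨a1, a2, a3, pm, fun g hg y hy => ?_, a1 ▸ fun g hg => mem_centralizer_singleton_iff.2
    ((show Commute d₁ g from hg _ (by simp)).mul_left (hg _ (by simp))).symm.eq, f, f1, by rw [f2, rg, a1]⟩
  have := nb_cj (pm _ (inv_mem hg)) (y := y) (by rintro _ (rfl | rfl); exacts [hy.1.2, hy.2])
  exact ⟨⟨W.tr3.conj _ _ hy.1.1, this _ (by simp)⟩, this _ (by simp)⟩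

variable (m3 : d₃ ∈ Nb (Nb E d₁) d₂)
include m3

theorem cd3 : CD (Nb (Nb (Nb E d₁) d₂) d₃) {d₁, d₂, d₃} (d₁ * d₂ * d₃) 3 := by
  obtain ⟨β, γ, c⟩ := W.ch
  obtain ⟨h₂, h12, c12⟩ := id m2
  obtain ⟨⟨h₃, h13, c13⟩, h23, c23⟩ := id m3
  obtain ⟨β2, γ2, c2⟩ := loc2 W _ h₁ _ m2
  obtain ⟨β3, γ3, c3⟩ := M22.loc c2 _ m3
  have cm : ∀ v ∈ ({d₁, d₂, d₃} : Set G), ∀ y ∈ Nb (Nb (Nb E d₁) d₂) d₃, y ≠ v ∧ Commute v y := by
    rintro _ (rfl | rfl | rfl) y hy; exacts [hy.1.1.2, hy.1.2, hy.2]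
  have cA : ∀ v ∈ ({d₁, d₂, d₃} : Set G), ∀ y ∈ ({d₁, d₂, d₃} : Set G), Commute v y := by
    rintro _ (rfl | rfl | rfl) _ (rfl | rfl | rfl) <;> first | rfl | assumption | (symm; assumption)
  obtain ⟨β, γ, c, e⟩ := c.at_of_tr r3 tr3 (x := d₃ * (d₂ * d₁)) (l := [d₃, d₂, d₁])
    ⟨by simp [*], rfl, by simp [*], fun a ha b hb => cA a (by simpa [or_comm, or_left_comm] using ha) b
      (by simpa [or_comm, or_left_comm] using hb), by simp⟩
  have sub : ∀ {Z}, subB (B.bits Z) (B.cn' Y3) = true → ∀ y ∈ B.nodes β Z,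
      y ∈ Nb (Nb (Nb E d₁) d₂) d₃ := fun hc y hy => by
    have := c.sub_cn' hc hy
    simp only [e, List.mem_cons, List.not_mem_nil, or_false, forall_eq_or_imp, forall_eq, not_or] at this
    exact ⟨⟨⟨this.1, this.2.1.2.2, this.2.2.2.2⟩, this.2.1.2.1, this.2.2.2.1⟩, this.2.1.1, this.2.2.1⟩
  have a3 : closure {d₁, d₂, d₃} ≤ closure (Nb (Nb (Nb E d₁) d₂) d₃) := by
    have e' := e
    simp only [Y3, TB.nodes_cons, TB.nodes_nil, List.cons.injEq, and_true] at e'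
    rw [closure_le]; rintro _ (rfl | rfl | rfl)
    · exact mem_closure_of_prod (e'.2.2 ▸ W.rel base c T1r) (sub T1s)
    · exact mem_closure_of_prod (e'.2.1 ▸ W.rel base c T2r) (sub T2s)
    · exact mem_closure_of_prod (e'.1 ▸ W.rel base c T3r) (sub T3s)
  obtain ⟨a1, a2⟩ := W.centL c tr3 c3 MU6.model (A := {d₁, d₂, d₃}) (c := 8) (s := 14)
    (by ext; simp [e, or_comm, or_left_comm]) (fun v hv y hy => (cm v hv y hy).2) a3 (by decide) (by decide) pp3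
    (by norm_num) (by rw [MU6.card_M6]) (by
      obtain ⟨w, hw, cw⟩ := c2.exists_not_comm M22.r3 m3
      refine le_trans ?_ (two_mul_card_le (V := closure {d₁, d₂}) (a := d₃) (Subgroup.closure_mono (by grind))
        (subset_closure (by simp)) fun h => cw (comm_of_mem_closure (fun v hv => ?_) h).symm)
      · have := four_le W.tr3.set h₁ h₂ h12; omega
      · rcases hv with rfl | rfl; exacts [hw.1.2.2.symm, hw.2.2.symm])
  obtain ⟨f, f1, f2, f3⟩ := perm_struct W.tr3 (v := ![d₁, d₂, d₃]) (x := d₁ * d₂ * d₃)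
    (fun i j => by fin_cases i <;> fin_cases j <;> simp [*, Ne.symm])
    (fun i => by fin_cases i <;> simp [*]) (fun i j => by fin_cases i <;> fin_cases j <;> simp [*, Commute.symm])
    (by simp [mul_assoc]) (fac3 W _) fun l l' h h' => let ⟨g, _, e⟩ := c.cj_lists r3 tr3 h h'; ⟨g, e⟩
  have rg : Set.range ![d₁, d₂, d₃] = {d₁, d₂, d₃} := by ext; simp [or_comm, or_left_comm]
  have pm : ∀ c ∈ centralizer {d₁ * d₂ * d₃}, ∀ v ∈ ({d₁, d₂, d₃} : Set G), c * v * c⁻¹ ∈ ({d₁, d₂, d₃} : Set G) :=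
    fun g hg v hv => by
      obtain ⟨i, rfl⟩ := rg.ge hv
      exact rg.le ⟨_, (f3 ⟨g, hg⟩ i).symm⟩
  refine ⟨a1, a2, a3, pm, fun g hg y hy => ?_, a1 ▸ fun g hg => mem_centralizer_singleton_iff.2 (((show Commute d₁ g from
    hg _ (by simp)).mul_left (hg _ (by simp))).mul_left (hg _ (by simp))).symm.eq, f, f1, by rw [f2, rg, a1]⟩
  have := nb_cj (pm _ (inv_mem hg)) fun v hv => cm v hv y hy
  exact ⟨⟨⟨W.tr3.conj _ _ hy.1.1.1, this _ (by simp)⟩, this _ (by simp)⟩, this _ (by simp)⟩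

theorem ind3 : Ind (Nb (Nb (Nb E d₁) d₂) d₃) (centralizer {d₁ * d₂ * d₃}) := by
  obtain ⟨β2, γ2, c2⟩ := loc2 W _ h₁ _ m2
  obtain ⟨β3, γ3, c3⟩ := M22.loc c2 _ m3
  have D := cd3 W h₁ m2 m3
  refine (c3.card_aut W.tr3 (fun y hy => hy.1.1.1) MU6.model D.cl D.cen D.le D.nm D.le' D.card).2 ?_
  obtain ⟨ε⟩ := MU6.psu_equiv card_F4
  rw [← Nat.card_congr (MulAut.congr ε).toEquiv, Cfsg.Agent.S0815.result 2 1 le_rfl (by norm_num)
    (by rw [card_F4]; norm_num) 6 (by norm_num) (by simp), Nat.card_congr ε.toEquiv]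
  rfl

omit m3 in
theorem ind2 : Ind (Nb (Nb E d₁) d₂) (centralizer {d₁ * d₂}) := by
  obtain ⟨β2, γ2, c2⟩ := loc2 W _ h₁ _ m2
  have m3 := c2.mem_S c2.tb.lt
  have D := cd3 W h₁ m2 m3
  have D2 := cd2 W h₁ m2
  refine Ind.step c2 M22.r3 (fun a ha => T3inv W.tr3.set ha.1.1) (M22.rig c2) (M22.nbT c2) m3 (ind3 W h₁ m2 m3)
    (fun c hc => ?_) (fun c hc e => ?_) D2.nm D2.le'
  · have := D.pm _ (inv_mem hc) (β2 M22.B.p0) (by simp)
    rw [inv_inv] at this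
    rcases this with e | e | e
    exacts [.inr (by rw [e]; exact ⟨D.le (subset_closure (by simp)), fun y hy => hy.1.2.2⟩),
      .inr (by rw [e]; exact ⟨D.le (subset_closure (by simp)), fun y hy => hy.2.2⟩), .inl e]
  · simpa using mem_centralizer_singleton_iff.2 (Commute.mul_right (mem_centralizer_singleton_iff.1 hc) e.inv_right)

omit m2 m3 in
theorem ind1 : Ind (Nb E d₁) (centralizer {d₁}) := by
  obtain ⟨β, γ, c1⟩ := locW W _ h₁
  have m2 := c1.mem_S c1.tb.lt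
  have D := cd2 W h₁ m2
  refine Ind.step c1 M23.r3 (fun a ha => T3inv W.tr3.set ha.1) (M23.rig c1) (M23.nbT c1) m2 (ind2 W h₁ m2)
    (fun c hc => ?_) (fun c hc e => ?_) (fun c hc y hy => ?_) (cent W _ h₁).1.le
  · have := D.pm _ (inv_mem hc) (β M23.B.p0) (by simp)
    rw [inv_inv] at this
    rcases this with e | e
    exacts [.inr (by rw [e]; exact ⟨D.le (subset_closure (by simp)), fun y hy => hy.2.2⟩), .inl e]
  · simpa using mem_centralizer_singleton_iff.2 (Commute.mul_right (mem_centralizer_singleton_iff.1 hc) e.inv_right)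
  · exact ⟨W.tr3.conj _ _ hy.1, nb_cj (A := {d₁}) (by simp [mem_centralizer_singleton_iff.1 (inv_mem hc)])
      (by simpa using hy.2) _ rfl⟩

end M24

theorem card_out {H : Type*} [Group H] [Finite H] (hZ : center H = ⊥) {r : ℕ}
    (h : Nat.card (MulAut H) = r * Nat.card H) : Nat.card (Out H) = r := by
  have h3 := (Inn H).card_mul_index
  rw [← Nat.card_congr (MonoidHom.ofInjective (f := (MulAut.conj : H →* MulAut H)) ((injective_iff_map_eq_one _).2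
    fun g e => hZ.le (mem_center_iff.2 fun a => (mul_inv_eq_iff_eq_mul.1 (DFunLike.congr_fun e a)).symm))).toEquiv,
    h, mul_comm] at h3
  exact Nat.eq_of_mul_eq_mul_right Nat.card_pos h3

theorem card_aut22 : Nat.card (MulAut Spor.Fi22) = 2 * Nat.card Spor.Fi22 := by
  have := Fi24.faith.fin
  have := Fi22.faith.fin
  have W := M24.wh0
  obtain ⟨β, γ, c1⟩ := M24.locW W _ mem_conjugatesOf_self
  have m2 := c1.mem_S c1.tb.lt
  obtain ⟨β2, γ2, c2⟩ := M23.loc c1 _ m2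
  obtain ⟨_, hM, -⟩ := M22.model
  have D := M24.cd2 W mem_conjugatesOf_self m2
  exact (c2.card_aut W.tr3 (fun y hy => hy.1.1) hM D.cl D.cen D.le D.nm D.le' D.card).1
    (M24.ind2 W mem_conjugatesOf_self m2) fun φ _ => M22.aut_mem M22.wh0 φ

theorem Wh.aut_mem {B : TB} {u1 u2 : List ℕ} {k N : ℕ} (W : Wh B N E) (hR : B.Rank3 u1 u2 k)
    (hc : ∀ D : Set G, IsThreeTranspositionClass D → D = E) (φ : MulAut G) {a : G} (ha : a ∈ E) : φ a ∈ E := by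
  obtain ⟨β, γ, h⟩ := W.ch
  refine hc (φ '' E) (class_of_conj ⟨⟨?_, ?_⟩, ?_, ?_⟩ ⟨_, a, ha, rfl⟩ ?_) ▸ ⟨a, ha, rfl⟩
  · rintro _ ⟨d, hd, rfl⟩; rw [MulEquiv.orderOf_eq, W.tr3.set.1 d hd]
  · rintro _ ⟨d, hd, rfl⟩ _ ⟨e, he, rfl⟩
    exact (W.tr3.set.2 d hd e he).imp (fun e => by rw [← map_mul, ← map_pow, e, map_one])
      fun e => by rw [← map_mul, ← map_pow, e, map_one]
  · rintro g _ ⟨d, hd, rfl⟩; exact ⟨_, W.tr3.conj (φ.symm g) d hd, by simp⟩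
  · rw [← MonoidHom.coe_coe, ← MonoidHom.map_closure, W.top, map_top_of_surjective _ φ.surjective]
  · rintro _ ⟨d, hd, rfl⟩ _ ⟨e, he, rfl⟩
    obtain ⟨g, -, rfl⟩ := h.exists_cj hR hd he
    exact ⟨φ g, by simp⟩

theorem card_aut23 : Nat.card (MulAut Spor.Fi23) = 1 * Nat.card Spor.Fi23 := by
  have := Fi24.faith.fin
  have := Fi23.faith.fin
  have W := M24.wh0
  have h₁ : Fi24.g 0 ∈ conjugatesOf (Fi24.g 0) := mem_conjugatesOf_self
  obtain ⟨β, γ, c1⟩ := M24.locW W _ h₁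
  obtain ⟨_, hM, -⟩ := M23.model
  obtain ⟨a1, a2, a3⟩ := M24.cent W _ h₁
  exact (c1.card_aut W.tr3 (fun y hy => hy.1) hM a1 (by rw [a2, zpowers_eq_closure]) ((closure_le _).2 (by simpa using a3))
    (fun c hc y => c1.cj_mem' M23.r3 (a1.ge hc)) a1.le (by rw [a1, one_mul])).1 (M24.ind1 W h₁)
    fun φ _ => M23.wh0.aut_mem M23.r3 (fun _ => M23.class_eq M23.wh0) φ

end Cfsg.Agent.H29
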