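import Cfsg.Agent.H29.Fi17
import Cfsg.Agent.H16.OutEng

/-! Automorphisms of the commutator subgroup of a group of type M(24). -/

set_option autoImplicit false
open Cfsg Subgroup Equiv Cfsg.Agent.H17 Cfsg.Agent.H16
open scoped commutatorElement

namespace Cfsg.Agent.H29

universe u
variable {G : Type u} [Group G] {E S T : Set G} {β γ : ℕ → G} {f : G → G} {L : Subgroup G}

theorem Chart.aut_ind [Finite G] {B : TB} {u1 u2 : List ℕ} {k : ℕ} {M : Type} [Group M] {X : Set M} {t g : ℕ → M}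
    (hE : Tr3 E) (hT : T ⊆ E) (h : Chart B T β γ) (hM : Model B u1 u2 k X t g)
    {A : Set G} {x : G} {m : ℕ} (D : CD T A x m) (hc : Nat.card (MulAut M) ≤ m.factorial * Nat.card M) :
    ∃ π : closure T →* M, Function.Surjective π ∧ π.ker = center _ ∧ ∀ φ : MulAut M, ∃ c, ∃ hc : c ∈ centralizer {x},
      ∀ z, φ (π z) = π ⟨_, cj_mem_closure (D.nm c hc) z.2⟩ := by
  obtain ⟨π, α, p1, p2, a1, a2⟩ := h.autHom hE hT hM D.nm
  have ka : α.ker = (closure A).subgroupOf _ := Subgroup.ext fun c => (a1 c).trans ⟨fun e => by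
    have e' : ∀ y ∈ closure T, Commute (c : G) y := fun y hy => comm_of_mem_closure e hy
    have m : (c : G) ∈ closure T := D.cl ▸ fun v hv => (e' v (D.le (subset_closure hv))).symm.eq
    exact D.cen.le (show (⟨c, m⟩ : closure T) ∈ _ from mem_center_iff.2 fun y => Subtype.ext (e' y y.2).symm.eq),
    fun e y hy => (congrArg Subtype.val (mem_center_iff.1 (D.cen.ge (show (⟨c, D.le e⟩ : closure T) ∈ _ from e))
      ⟨y, subset_closure hy⟩)).symm⟩
  have : Finite M := .of_surjective π p1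
  have : Finite (MulAut M) := .of_injective _ MulEquiv.toEquiv_injective
  have c2 := card_of_hom _ α.rangeRestrict_surjective
  rw [MonoidHom.ker_rangeRestrict, ka, card_subOf (D.le.trans D.le'), D.card, card_of_hom π p1, p2, D.cen,
    card_subOf D.le, mul_left_comm] at c2
  refine ⟨π, p1, p2, fun φ => ?_⟩
  obtain ⟨c, rfl⟩ := MonoidHom.range_eq_top.1 (eq_top_of_le_card _ (Nat.eq_of_mul_eq_mul_left Nat.card_pos c2 ▸ hc)) φ
  exact ⟨c, c.2, a2 c⟩

def autEq (h : IsAut L f) (θ : G →* G) : Subgroup G where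
  carrier := {x | x ∈ L ∧ f x = θ x}
  one_mem' := ⟨one_mem _, by rw [h.one, map_one]⟩
  mul_mem' := fun ha hb => ⟨mul_mem ha.1 hb.1, by rw [h.mul _ ha.1 _ hb.1, ha.2, hb.2, map_mul]⟩
  inv_mem' := fun ha => ⟨inv_mem ha.1, by rw [h.inv ha.1, ha.2, map_inv]⟩

def autHom (h : IsAut L f) {K : Subgroup G} (hK : K ≤ L) : K →* G :=
  .mk' (fun x => f x) fun a b => h.mul _ (hK a.2) _ (hK b.2)

theorem aut_inj (h : IsAut L f) {a b : G} (ha : a ∈ L) (hb : b ∈ L) (e : f a = f b) : a = b :=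
  congrArg Subtype.val ((injective_iff_map_eq_one (autHom h le_rfl)).2 (fun x e => Subtype.ext (h.inj _ x.2 e))
    (a₁ := ⟨a, ha⟩) (a₂ := ⟨b, hb⟩) e)

theorem aut_comm (h : IsAut L f) {a b : G} (ha : a ∈ L) (hb : b ∈ L) (e : Commute a b) : Commute (f a) (f b) := by
  rw [Commute, SemiconjBy, ← h.mul _ ha _ hb, ← h.mul _ hb _ ha, e.eq]

namespace M24
variable [Finite G] (W : Wh B ord E)
include W

theorem cj2 {a b g : G} (h : Fa E 2 (a * b) [a, b]) (c : Commute g (a * b)) :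
    (g * a * g⁻¹ = a ∨ g * a * g⁻¹ = b) ∧ (g * b * g⁻¹ = a ∨ g * b * g⁻¹ = b) := by
  obtain ⟨β, γ, ch⟩ := W.ch
  have := h.cj W.tr3 g
  rw [commute_iff_cj.1 c] at this
  simpa using And.intro ((fac2 W.tr3.set ch _ _ _ this h (g * a * g⁻¹)).1 (by simp))
    ((fac2 W.tr3.set ch _ _ _ this h (g * b * g⁻¹)).1 (by simp))

omit [Finite G] W in
theorem fa2 {a b : G} (ha : a ∈ E) (hb : b ∈ Nb E a) : Fa E 2 (a * b) [a, b] :=
  ⟨by simp [hb.2.1.symm], rfl, by simp [ha, hb.1], by simp [hb.2.2, hb.2.2.symm], by simp⟩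

theorem mul_mem_L {a b : G} (ha : a ∈ E) (hb : b ∈ E) : a * b ∈ commutator G :=
  (mul_mem_iff_of_index_two (index W).1).2 (iff_of_false ((index W).2 a ha) ((index W).2 b hb))

theorem cent_lt {x a b : G} (hx : Pr E 4 x) (ha : a ∈ E) (hb : b ∈ Nb E a) :
    Nat.card (centralizer {x}) < Nat.card ↥(commutator G ⊓ centralizer {a * b}) := by
  obtain ⟨β, γ, c⟩ := W.ch
  obtain ⟨l, hl⟩ := hx
  have k4 := (c.at_of_tr r3 tr4 hl).fc (t := 14) (by decide) (by decide)
  rw [hl.2.2.2.2, show B.pw Y4 = B.pw (Y4.drop 0) from rfl, f4] at k4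
  obtain ⟨d, d₁, d₂, d₃, rfl⟩ : ∃ d d₁ d₂ d₃, l = [d, d₁, d₂, d₃] := by
    obtain ⟨-, h, -⟩ := hl
    match l, h with | [a, b, c, d], _ => exact ⟨a, b, c, d, rfl⟩
  obtain ⟨β3, γ3, c3, e3⟩ := c.at_of_tr r3 tr3 hl.tail
  obtain ⟨β2, γ2, c2, e2⟩ := c.at_of_tr r3 r3.tr2 (fa2 ha hb)
  have k3 := c3.card_cent W.tr3 (t := 14) (by decide) (by decide) tr3
  have k2 := c2.card_cent W.tr3 (t := 14) (by decide) (by decide) r3.tr2
  obtain ⟨n, -, m, cm, p⟩ := id hl
  simp only [List.nodup_cons, List.mem_cons, List.not_mem_nil, or_false, not_or, forall_eq_or_imp, forall_eq] at n m cm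
  have D3 := cd3 W m.2.1 ⟨m.2.2.1, Ne.symm n.2.1.1, cm.2.1.2.2.1⟩
    ⟨⟨m.2.2.2, Ne.symm n.2.1.2, cm.2.1.2.2.2⟩, Ne.symm n.2.2.1, cm.2.2.1.2.2.2⟩
  have D2 := cd2 W ha hb
  rw [W.card, pp3, e3, show {y | y ∈ [d₁, d₂, d₃]} = {d₁, d₂, d₃} by ext; simp, ← D3.cl] at k3
  rw [W.card, pp2, e2, show {y | y ∈ [a, b]} = {a, b} by ext; simp, ← D2.cl] at k2
  have j1 := card_inf_two (index W).1 (D2.le' (D2.le (subset_closure (show a ∈ _ by simp)))) ((index W).2 a ha)
  have j2 : Nat.card ↥(centralizer {x} ⊓ centralizer {d}) ≤ Nat.card (centralizer {d₁ * d₂ * d₃}) :=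
    card_le_of_le fun g hg => mem_centralizer_singleton_iff.2 (by
      have := (Commute.mul_right (Commute.inv_right (mem_centralizer_singleton_iff.1 hg.2 : Commute g d))
        (mem_centralizer_singleton_iff.1 hg.1 : Commute g x)).eq
      simpa [← p, mul_assoc] using this)
  have j3 : {y | ∃ a ∈ centralizer {x}, a * d * a⁻¹ = y}.ncard ≤ 504 := k4 ▸ Set.ncard_le_ncard (by
    rintro _ ⟨g, hg, rfl⟩
    refine ⟨W.tr3.conj _ _ m.1, ?_⟩
    simpa [mem_centralizer_singleton_iff.1 hg] using (commute_cj g).2 (hl.comm (a := d) (by simp)))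
  rw [D2.card] at j1; rw [D3.card] at j2
  have := Nat.mul_le_mul j2 j3
  rw [← card_eq_orbit] at this
  simp only [Nat.factorial, ord] at *
  omega

theorem aut_pr2 (h : IsAut (commutator G) f) {a b : G} (ha : a ∈ E) (hb : b ∈ Nb E a) : Pr E 2 (f (a * b)) := by
  have m := mul_mem_L W ha hb.1
  have s : a * b * (a * b) = 1 := by
    simpa using clique_sq (l := [a, b]) (fun x hx => T3sq W.tr3.set ((fa2 ha hb).2.2.1 x hx)) (fa2 ha hb).2.2.2.1
  have : Fact (Nat.Prime 2) := ⟨Nat.prime_two⟩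
  obtain ⟨n, h1, h2, l, hl⟩ := (classes W).1 (f (a * b)) (orderOf_eq_prime (by rw [pow_two, ← h.mul _ m _ m, s, h.one])
    fun e => hb.2.1 ((T3mul_eq_one W.tr3.set ha).1 (h.inj _ m e)).symm)
  have m' := hl.2.2.2.2 ▸ h.mem _ m
  interval_cases n
  · obtain ⟨x, rfl⟩ := List.length_eq_one_iff.1 hl.2.1
    exact absurd (by simpa using m') ((index W).2 x (hl.2.2.1 x (by simp)))
  · exact ⟨l, hl⟩
  · obtain ⟨x, y, z, rfl⟩ := List.length_eq_three.1 hl.2.1
    rw [List.prod_cons, List.prod_cons, List.prod_singleton, mul_mem_cancel_right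
      (mul_mem_L W (hl.2.2.1 y (by simp)) (hl.2.2.1 z (by simp)))] at m'
    exact absurd m' ((index W).2 x (hl.2.2.1 x (by simp)))
  · refine absurd (Nat.card_le_card_of_injective (fun z : ↥(commutator G ⊓ centralizer {a * b}) =>
      (⟨f z, mem_centralizer_singleton_iff.2 (aut_comm h z.2.1 m (mem_centralizer_singleton_iff.1 z.2.2))⟩ :
        centralizer {f (a * b)})) fun x y e => Subtype.ext (aut_inj h x.2.1 y.2.1 (congrArg Subtype.val e)))
      (cent_lt W ⟨l, hl⟩ ha hb).not_ge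

theorem aut_fix (h : IsAut (commutator G) f) {a b : G} (ha : a ∈ E) (hb : b ∈ Nb E a) :
    ∃ g, ∀ z ∈ commutator G ⊓ centralizer {a, b}, g * f z * g⁻¹ = z := by
  have nb : NormBy ⊤ (commutator G) := fun g _ x hx => (commutator_normal ⊤ ⊤).conj_mem x hx g
  obtain ⟨g, hg⟩ := isConj_iff.1 (((classes W).2.1 2 (by norm_num) (by norm_num)).2 _ _ (aut_pr2 W h ha hb) ⟨_, fa2 ha hb⟩)
  replace h := h.conj nb (mem_top g)
  suffices ∃ c, ∀ z ∈ commutator G ⊓ centralizer {a, b}, c * (g * f z * g⁻¹) * c⁻¹ = z from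
    let ⟨c, hc⟩ := this; ⟨c * g, fun z hz => by simpa only [mul_inv_rev, mul_assoc] using hc z hz⟩
  set F := fun x => g * f x * g⁻¹
  change F (a * b) = a * b at hg
  obtain ⟨iL, nL⟩ := index W
  obtain ⟨β2, γ2, c2⟩ := loc2 W _ ha _ hb
  obtain ⟨_, hM, -⟩ := M22.model
  have D := cd2 W ha hb
  have j := mul_mem_L W ha hb.1
  obtain ⟨q, -⟩ := even_struct W.tr3 (fun y hy => hy.1.1) c2 hM Fi22.simple iL nL (d := a) (by simp) ha D.cl D.cen D.le
    D.nm D.le' rfl rfl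
  obtain ⟨π, p1, p2, p3⟩ := c2.aut_ind W.tr3 (fun y hy => hy.1.1) hM D card_aut22.le
  obtain ⟨s, s1, s2⟩ := D.ex
  rw [← D.cl]
  set K := commutator G ⊓ closure (Nb (Nb E a) b)
  have pf := isPerfect_iff.1 q.1
  have fK : ∀ z ∈ K, F z ∈ K := fun z hz => by
    have : ⁅(⊤ : Subgroup K), ⊤⁆ ≤ K.comap (autHom h inf_le_left) := commutator_le.2 fun x _ y _ => by
      have m : ∀ x : K, F x ∈ centralizer {a * b} := fun x => mem_centralizer_singleton_iff.2
        (hg ▸ aut_comm h x.2.1 j (mem_centralizer_singleton_iff.1 (D.le' x.2.2)))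
      refine ⟨h.mem _ ⁅x, y⁆.2.1, ?_⟩
      have : ⁅(⟨_, m x⟩ : centralizer {a * b}), ⟨_, m y⟩⁆ ∈ s.ker := by
        rw [MonoidHom.mem_ker, map_commutatorElement]; revert x y; intro x _ y _
        exact (by decide : ∀ a b : Perm (Fin 2), ⁅a, b⁆ = 1) _ _
      rw [map_commutatorElement]; exact s2.le this
    exact this (q.1.1.ge (mem_top (⟨z, hz⟩ : K)))
  let π1 := π.comp (inclusion (inf_le_right : K ≤ _))
  let F1 : K →* K := (autHom h inf_le_left).codRestrict K fun z => fK z z.2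
  have da := D.le (subset_closure (show a ∈ _ by simp))
  have cen : ∀ v : closure (Nb (Nb E a) b), π v = 1 ↔ (v : G) ∈ closure {a, b} := fun v => by
    rw [← MonoidHom.mem_ker, p2, D.cen, mem_subgroupOf]
  have s1 : Function.Surjective π1 := fun m => by
    obtain ⟨⟨x, hx⟩, rfl⟩ := p1 m
    by_cases e : x ∈ commutator G
    · exact ⟨⟨x, e, hx⟩, rfl⟩
    · exact ⟨⟨x * a, (mul_mem_iff_of_index_two iL).2 (iff_of_false e (nL a ha)), mul_mem hx da⟩,
        (map_mul π ⟨x, hx⟩ ⟨a, da⟩).trans (by rw [(cen ⟨a, da⟩).2 (subset_closure (by simp)), mul_one])⟩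
  have hZ : commutator G ⊓ closure {a, b} = zpowers (a * b) := by
    refine even_part iL (nL _ ha) (T3sq W.tr3.set ha) (zpowers_le.2 j) (zpowers_le.2 ?_) ?_ ?_
    · exact mul_mem (subset_closure (by simp)) (subset_closure (by simp))
    · rintro _ ⟨n, rfl⟩; exact ((Commute.refl _).mul_right hb.2.2).zpow_right n
    · rintro _ (rfl | rfl)
      exacts [(T3sq W.tr3.set ha).symm ▸ one_mem _, hb.2.2.eq ▸ mem_zpowers _]
  have fz : ∀ n : ℤ, F ((a * b) ^ n) = (a * b) ^ n := fun n =>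
    (zpow_mem (show a * b ∈ autEq h (.id G) from ⟨j, hg⟩) n).2
  have k1 : ∀ z : K, π1 (F1 z) = 1 ↔ π1 z = 1 := fun z => by
    refine (cen _).trans (Iff.trans ⟨fun e => ?_, fun e => ?_⟩ (cen _).symm)
    · obtain ⟨n, e⟩ := hZ.le ⟨(F1 z).2.1, e⟩
      exact aut_inj h (zpow_mem j n) z.2.1 ((fz n).trans e) ▸ (hZ.ge ⟨n, rfl⟩).2
    · obtain ⟨n, e⟩ := hZ.le ⟨z.2.1, e⟩
      exact (hZ.ge ⟨n, (fz n).symm.trans (congrArg F e)⟩).2
  let φ := π1.liftOfSurjective s1 ⟨π1.comp F1, fun z hz => (k1 z).2 hz⟩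
  have hφ : ∀ z, φ (π1 z) = π1 (F1 z) := π1.liftOfRightInverse_comp_apply _ _ _
  have i : Function.Injective φ := (injective_iff_map_eq_one φ).2 fun m e => by
    obtain ⟨z, rfl⟩ := s1 m; exact (k1 z).1 (hφ z ▸ e)
  have := Fi22.faith.fin
  obtain ⟨c, hc, e⟩ := p3 (MulEquiv.ofBijective φ i.bijective_of_finite)
  have h' := h.conj nb (mem_top c⁻¹)
  refine ⟨c⁻¹, fun z hz => (commutator_le.2 (fun x hx y hy => ?_ : ∀ x ∈ K, ∀ y ∈ K, _ ∈ autEq h' (.id G))
    (pf.ge hz)).2⟩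
  have r : ∀ x (hx : x ∈ K), ∃ v, (∀ y ∈ closure (Nb (Nb E a) b), Commute v y) ∧ c⁻¹ * F x * c⁻¹⁻¹ = x * v := fun x hx => by
    have m := cj_mem_closure (D.nm _ (inv_mem hc)) (fK x hx).2
    have e1 : π ⟨_, m⟩ = π ⟨x, hx.2⟩ := i ((e _).trans ((congrArg π (Subtype.ext (by simp [mul_assoc]; rfl))).trans
      (hφ ⟨x, hx⟩).symm))
    rw [eq_comm, ← inv_mul_eq_one, ← map_inv, ← map_mul, ← MonoidHom.mem_ker, p2, mem_center_iff] at e1
    exact ⟨_, fun y hy => (congrArg Subtype.val (e1 ⟨y, hy⟩)).symm, by simp⟩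
  obtain ⟨v, v1, v2⟩ := r x hx
  obtain ⟨w, w1, w2⟩ := r y hy
  refine ⟨(pf.le (commutator_mem_commutator hx hy)).1, ?_⟩
  refine (map_commutatorElement (autHom h' (inf_le_left : K ≤ _)) ⟨x, hx⟩ ⟨y, hy⟩).trans ?_
  change ⁅c⁻¹ * F x * c⁻¹⁻¹, c⁻¹ * F y * c⁻¹⁻¹⁆ = ⁅x, y⁆
  have := v1 _ (cj_mem_closure (D.nm _ (inv_mem hc)) (fK y hy).2)
  rw [w2] at this
  rw [v2, w2, commutatorElement_def, mul_assoc x, this.eq, mul_inv_rev x, ← mul_assoc, ← mul_assoc, mul_inv_cancel_right,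
    ← mul_assoc, mul_assoc _ w, (w1 _ (inv_mem hx.2)).eq, mul_inv_rev, ← mul_assoc, ← mul_assoc, mul_inv_cancel_right,
    commutatorElement_def]

theorem aut_half (h : IsAut (commutator G) f) {a b : G} (ha : a ∈ E) (hb : b ∈ Nb E a)
    (hf : ∀ z ∈ commutator G ⊓ centralizer {a, b}, f z = z) :
    ∃ e, (e = 1 ∨ e = b) ∧ ∀ w ∈ Nb E a, f (a * w) = e * (a * w) * e⁻¹ := by
  have T := W.tr3.set
  obtain ⟨β, γ, c⟩ := locW W _ ha
  obtain ⟨y, hy, cy⟩ := c.exists_not_comm M23.r3 hb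
  have D := cd2 W ha hb
  have x := mul_mem_L W ha hy.1
  have da := D.cl.le (D.le (subset_closure (show a ∈ _ by simp)))
  have t2 : ∀ z ∈ Nb (Nb E a) b, z ∈ centralizer {a, b} := fun z hz => D.cl.le (subset_closure hz)
  have key : ∀ p q, Fa E 2 (p * q) [p, q] → p * q = f (a * y) → p = a ∨ p = b ∨ p = y ∨ p = b * y * b⁻¹ := by
    intro p q hl e
    have pq : p ≠ q := by simpa using hl.1
    have hp := hl.2.2.1 p (by simp)
    have pm := fun s (hs : s ∈ commutator G ⊓ centralizer {a, b}) (cs : Commute s (a * y)) =>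
      cj2 W hl (g := s) (by simpa [e, hf s hs] using aut_comm h hs.1 x cs)
    have o3 : ∀ z w, (z ∈ Nb (Nb E a) b ∧ Commute y z) → (w ∈ Nb (Nb E a) b ∧ Commute y w) → ¬ Commute z w →
        Commute (z * w) p := fun z w hz hw n => by
      obtain ⟨e1 | e1, e2⟩ := pm (z * w) ⟨mul_mem_L W hz.1.1.1 hw.1.1.1, mul_mem (t2 z hz.1) (t2 w hw.1)⟩
        ((hz.1.1.2.2.mul_right hw.1.1.2.2).mul_left (hz.2.mul_right hw.2)).symm
      · exact commute_iff_cj.2 e1
      have e3 := e2.resolve_right fun e' => pq (by simpa using e1.trans e'.symm)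
      have := T3cube T hz.1.1.1 hw.1.1.1 n
      refine absurd ?_ pq
      generalize z * w = s at *
      rw [← e1]; conv_rhs => rw [← e3, ← e1]
      rw [show s * (s * (s * p * s⁻¹) * s⁻¹) * s⁻¹ = s ^ 3 * p * (s ^ 3)⁻¹ by
        simp [pow_succ, mul_assoc], this]; simp
    have mu : ∀ z, Mu (Nb E a) b y z → Commute z p := fun z ⟨z', w, m, n, c1, c2, c3⟩ => by
      simp only [List.mem_cons, List.not_mem_nil, or_false, forall_eq_or_imp, forall_eq] at m
      have := (o3 z w m.1 m.2.2 fun e => c2 e.symm).mul_left (o3 w z' m.2.2 m.2.1 c3)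
      rw [mul_assoc, T3sq' T m.2.2.1.1.1] at this
      exact T3odd T m.1.1.1.1 m.2.1.1.1.1 hp n c1 this
    obtain ⟨⟨z, hz⟩, rig⟩ := M23.rig c b hb y hy cy
    have cz := mu z hz
    obtain ⟨_, _, m, -⟩ := hz
    have m := m z (by simp)
    have ca : Commute a p := by
      by_contra n
      have := (pm (a * z) ⟨mul_mem_L W ha m.1.1.1, mul_mem da (t2 z m.1)⟩
        (((Commute.refl a).mul_right hy.2.2).mul_left (m.1.1.2.2.symm.mul_right m.2.symm))).1
      rw [mul_inv_rev, show a * z * p * (z⁻¹ * a⁻¹) = a * (z * p * z⁻¹) * a⁻¹ by group, commute_iff_cj.1 cz] at this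
      rcases this with e | e
      · exact n (commute_iff_cj.2 e)
      · have := hl.2.2.2.1 q (by simp) p (by simp)
        rw [← e, T3braid' T ha hp n, commute_cj_left] at this
        exact n (by simpa using this)
    by_cases e : p = a
    exacts [.inl e, .inr (rig p ⟨hp, e, ca⟩ mu)]
  obtain ⟨l, hl⟩ := aut_pr2 W h ha hy
  obtain ⟨p, q, rfl⟩ := List.length_eq_two.1 hl.2.1
  have e0 : p * q = f (a * y) := by simpa using hl.2.2.2.2
  have cpq := hl.2.2.2.1 p (by simp) q (by simp)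
  have pq : p ≠ q := by simpa using hl.1
  have k1 := key p q (e0 ▸ hl) e0
  have k2 := key q p ((cpq.symm.eq.trans e0).symm ▸ hl.perm (.swap _ _ _)) (cpq.symm.eq.trans e0)
  have n1 : ¬ Commute b (b * y * b⁻¹) := fun e => cy ((commute_cj b).1 (by simpa using e))
  have n2 : ¬ Commute y (b * y * b⁻¹) := fun e => cy ((commute_cj y).1 (by
    rw [T3braid' T hb.1 hy.1 cy] at e; simpa using e.symm))
  have jK : a * b ∈ commutator G ⊓ centralizer {a, b} :=
    ⟨mul_mem_L W ha hb.1, mul_mem da (D.cl.le (D.le (subset_closure (by simp))))⟩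
  obtain ⟨u, hu, e1⟩ : ∃ u, (u = b ∨ u = y ∨ u = b * y * b⁻¹) ∧ f (a * y) = a * u := by
    rcases k1 with rfl | k1
    · exact ⟨q, k2.resolve_left pq.symm, e0.symm⟩
    rcases k2 with rfl | k2
    · exact ⟨p, k1, e0.symm.trans cpq.eq⟩
    rcases k1 with rfl | rfl | rfl <;> rcases k2 with rfl | rfl | rfl <;>
      first | exact absurd rfl pq | exact absurd cpq (by assumption) | exact absurd cpq.symm (by assumption)
  obtain ⟨e, he, e2⟩ : ∃ e, (e = 1 ∨ e = b) ∧ f (a * y) = e * (a * y) * e⁻¹ := by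
    rcases hu with rfl | rfl | rfl
    · exact absurd (mul_left_cancel (aut_inj h x jK.1 (e1.trans (hf _ jK).symm)) ▸ .refl _) cy
    · exact ⟨1, .inl rfl, by simp [e1]⟩
    · exact ⟨b, .inr rfl, by rw [e1, ← mul_assoc, ← mul_assoc, ← mul_assoc, hb.2.2.eq]⟩
  have kF : commutator G ⊓ centralizer {a, b} ≤ autEq h (MulAut.conj e).toMonoidHom := fun z hz =>
    ⟨hz.1, (hf z hz).trans (commute_iff_cj.1 (by
      rcases he with rfl | rfl
      exacts [.one_left _, hz.2 _ (by simp)])).symm⟩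
  refine ⟨e, he, fun w hw => (?_ : a * w ∈ autEq h (MulAut.conj e).toMonoidHom).2⟩
  by_cases cw : Commute b w
  · by_cases e : w = b
    exacts [e ▸ kF jK, kF ⟨mul_mem_L W ha hw.1, mul_mem da (t2 w ⟨hw, e, cw⟩)⟩]
  obtain ⟨z, hz, rfl⟩ := M23.nbT c b hb y hy w hw cy cw
  have cz : Commute a z := D.cl.le hz a (by simp)
  by_cases e : z ∈ commutator G
  · have := kF ⟨e, D.cl.le hz⟩
    simpa only [← mul_assoc, cz.eq] using mul_mem (mul_mem this ⟨x, e2⟩) (inv_mem this)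
  · have := kF ⟨(mul_mem_iff_of_index_two (index W).1).2 (iff_of_false e ((index W).2 a ha)), mul_mem (D.cl.le hz) da⟩
    have := mul_mem (mul_mem this ⟨x, e2⟩) (inv_mem this)
    rwa [show z * a * (a * y) * (z * a)⁻¹ = z * (a * (a * y) * a⁻¹) * z⁻¹ by group,
      commute_iff_cj.1 ((Commute.refl a).mul_right hy.2.2), ← mul_assoc, ← cz.eq, mul_assoc a, mul_assoc a] at this

theorem autBy : AutBy ⊤ (commutator G) := fun f h => by
  have T := W.tr3.set
  obtain ⟨β, γ, c⟩ := W.ch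
  have ha := c.mem_S c.tb.lt
  generalize β B.p0 = a at ha
  obtain ⟨b, hb⟩ : ∃ b, b ∈ Nb E a := c.exists_comm r3 ha
  have hb' : a ∈ Nb E b := ⟨ha, hb.2.1.symm, hb.2.2.symm⟩
  obtain ⟨g, hg⟩ := aut_fix W h ha hb
  replace h := h.conj (fun g _ x hx => (commutator_normal ⊤ ⊤).conj_mem x hx g) (mem_top g)
  obtain ⟨e, he, e1⟩ := aut_half W h ha hb hg
  obtain ⟨e', he', e2⟩ := aut_half W h hb.1 hb' (Set.pair_comm a b ▸ hg)
  let F := autEq h (MulAut.conj (e * e')).toMonoidHom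
  suffices commutator G ≤ F from ⟨g⁻¹ * (e * e'), trivial, fun x hx => by
    have : g * f x * g⁻¹ = e * e' * x * (e * e')⁻¹ := (this hx).2
    rw [show g⁻¹ * (e * e') * x * (g⁻¹ * (e * e'))⁻¹ = g⁻¹ * (e * e' * x * (e * e')⁻¹) * g by group, ← this]; group⟩
  have f1 : ∀ w ∈ Nb E a, a * w ∈ F := fun w hw => ⟨mul_mem_L W ha hw.1, (e1 w hw).trans (by
    have : Commute e' (a * w) := by
      rcases he' with rfl | rfl
      exacts [.one_left _, (Commute.refl _).mul_right hw.2.2]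
    change _ = e * e' * (a * w) * (e * e')⁻¹
    rw [mul_assoc e e', this.eq]; group)⟩
  have f2 : ∀ w ∈ Nb E b, b * w ∈ F := fun w hw => ⟨mul_mem_L W hb.1 hw.1, (e2 w hw).trans (by
    have : Commute e (b * w) ∧ Commute e e' := by
      rcases he with rfl | rfl
      · exact ⟨.one_left _, .one_left _⟩
      · exact ⟨(Commute.refl _).mul_right hw.2.2, by rcases he' with rfl | rfl; exacts [.one_right _, hb.2.2.symm]⟩
    change _ = e * e' * (b * w) * (e * e')⁻¹
    rw [this.2.eq, mul_assoc e' e, this.1.eq]; group)⟩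
  obtain ⟨β2, γ2, c2⟩ := locW W _ hb.1
  obtain ⟨y, hy, cy⟩ := c2.exists_not_comm M23.r3 hb'
  have f3 : a * y ∈ F := by simpa [mul_assoc, T3sq' T hb.1] using mul_mem (f1 b hb) (f2 y hy)
  have s := T3sq T ha
  have f4 : ∀ w ∈ E, a * w ∈ F := fun w hw => by
    by_cases cw : Commute a w
    · by_cases e : w = a
      exacts [by rw [e, s]; exact one_mem F, f1 w ⟨hw, e, cw⟩]
    obtain ⟨z, hz, rfl⟩ := nbT c a ha y hy.1 w hw cy cw
    have cz := comm_of_mem_closure (fun y hy => hy.2.2) hz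
    rcases mem_or_mul (N := F ⊓ centralizer {a}) s (fun n hn => by
      rwa [← mem_centralizer_singleton_iff.1 hn.2, mul_assoc, s, mul_one]) (fun v (hv : v ∈ Nb E a) => .inr ⟨hv.2.2.eq ▸ f1 v hv,
        mem_centralizer_singleton_iff.2 (hv.2.2.symm.mul_left (.refl a)).eq⟩) hz with m | m
    · simpa only [← mul_assoc, cz.eq] using F.mul_mem (F.mul_mem m.1 f3) (F.inv_mem m.1)
    · have := F.mul_mem (F.mul_mem m.1 (inv_mem f3)) (F.inv_mem m.1)
      rwa [show z * a * (a * y)⁻¹ * (z * a)⁻¹ = z * a * y⁻¹ * (a * a)⁻¹ * z⁻¹ by group, s, T3inv T hy.1, inv_one, mul_one,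
        ← cz.eq, mul_assoc a, mul_assoc a] at this
  intro v hv
  have le : closure {x | ∃ w ∈ E, a * w = x} ≤ F := (closure_le _).2 fun _ ⟨w, hw, e⟩ => e ▸ f4 w hw
  refine le ((mem_or_mul s (fun n hn => ?_) (fun w hw => .inr ?_) (W.top.ge (mem_top v))).resolve_right fun m =>
    (index W).2 a ha (((commutator G).mul_mem_cancel_left hv).1 (le m).1))
  · have := cj_mem_closure (g := a) (by rintro _ ⟨w, hw, rfl⟩; exact ⟨_, W.tr3.conj a w hw, by group⟩) hn
    rwa [T3inv T ha] at this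
  · simpa [T3inv T ha, T3inv T hw] using inv_mem (subset_closure (k := {x | ∃ w ∈ E, a * w = x}) ⟨w, hw, rfl⟩)

theorem card_out' : Nat.card (Out (commutator G)) = 2 := by
  refine card_out_of_autBy (K := commutator G) le_top (fun g _ x hx => (commutator_normal ⊤ ⊤).conj_mem x hx g) (autBy W)
    (fun g _ hg => eq_one_of_comm W.top W.cen fun a ha => ?_) (by
      rw [card_top, ← card_mul_index (commutator G), (index W).1, mul_comm])
  obtain ⟨β, γ, c⟩ := locW W _ ha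
  have m := c.mem_S c.tb.lt
  obtain ⟨w, hw, n, -⟩ := c.exists_comm M23.r3 m
  have k := fun b (hb : b ∈ Nb E a) => (cj2 W (fa2 ha hb) (g := g) (hg _ (mul_mem_L W ha hb.1))).1
  exact commute_iff_cj.2 ((k _ m).elim id fun e => (k _ hw).elim id fun e' => absurd (e'.symm.trans e) n)

end M24
end Cfsg.Agent.H29
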