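import Cfsg.Agent.H29.S22
import Cfsg.Agent.H29.Hu1

/-! The common neighbourhood of two non-commuting members, without a global hypothesis. -/

open Cfsg Subgroup Equiv Cfsg.Agent.H17

namespace Cfsg.Agent.H29.N22
open MU6 S22

set_option maxRecDepth 100000
set_option Elab.async false

universe u
variable {K : Type u} [Group K] [Finite K] {E : Set K} {d c s : K} {e : ℕ → K}

section
variable (hS : Src B E d c s V 45 e)
include hS
theorem n0 (h : Fit B (Nb E d) s e [unp 8 8 (nat_lit 0x100020103020403), [nat_lit 2, nat_lit 3, nat_lit 1, nat_lit 2, nat_lit 0, nat_lit 1], [nat_lit 1, nat_lit 2, nat_lit 0, nat_lit 1]]) : Goal E d c s := by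
  obtain ⟨u, hu, h⟩ := Fit.step' hS.fit h (W := []) (r := 0) (R := []) (by decide +kernel)
  exact absurd hu List.not_mem_nil
theorem n1 (h : Fit B (Nb E d) s e [unp 8 8 (nat_lit 0x100020103020403), [nat_lit 2, nat_lit 3, nat_lit 1, nat_lit 2, nat_lit 0, nat_lit 1], [nat_lit 1, nat_lit 5, nat_lit 2, nat_lit 1], [nat_lit 5, nat_lit 6, nat_lit 1, nat_lit 5, nat_lit 0, nat_lit 1], [nat_lit 7, nat_lit 3, nat_lit 1, nat_lit 2, nat_lit 0, nat_lit 1]]) : Goal E d c s :=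
  .inr (.inl (h.leaf hS q1 (w := []) (by decide +kernel)))
theorem n2 (h : Fit B (Nb E d) s e [unp 8 8 (nat_lit 0x100020103020403), [nat_lit 2, nat_lit 3, nat_lit 1, nat_lit 2, nat_lit 0, nat_lit 1], [nat_lit 1, nat_lit 5, nat_lit 2, nat_lit 1], [nat_lit 5, nat_lit 6, nat_lit 1, nat_lit 5, nat_lit 0, nat_lit 1], [nat_lit 1, nat_lit 5, nat_lit 4, nat_lit 3, nat_lit 2, nat_lit 1]]) : Goal E d c s :=
  (Fit.rej h hS.fit (w := [nat_lit 4, nat_lit 2]) (a := 1) (b := 0) (by decide +kernel)).elim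
theorem n3 (h : Fit B (Nb E d) s e [unp 8 8 (nat_lit 0x100020103020403), [nat_lit 2, nat_lit 3, nat_lit 1, nat_lit 2, nat_lit 0, nat_lit 1], [nat_lit 1, nat_lit 5, nat_lit 2, nat_lit 1], [nat_lit 5, nat_lit 6, nat_lit 1, nat_lit 5, nat_lit 0, nat_lit 1], [nat_lit 2, nat_lit 1, nat_lit 5, nat_lit 3, nat_lit 2, nat_lit 1]]) : Goal E d c s :=
  (Fit.rej h hS.fit (w := [nat_lit 3, nat_lit 4, nat_lit 3]) (a := 2) (b := 2) (by decide +kernel)).elim
theorem n4 (h : Fit B (Nb E d) s e [unp 8 8 (nat_lit 0x100020103020403), [nat_lit 2, nat_lit 3, nat_lit 1, nat_lit 2, nat_lit 0, nat_lit 1], [nat_lit 1, nat_lit 5, nat_lit 2, nat_lit 1], [nat_lit 5, nat_lit 6, nat_lit 1, nat_lit 5, nat_lit 0, nat_lit 1], [nat_lit 7, nat_lit 1, nat_lit 5, nat_lit 3, nat_lit 2, nat_lit 1]]) : Goal E d c s :=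
  .inr (.inr (.inl (h.leaf hS q2 (w := []) (by decide +kernel))))
theorem n5 (h : Fit B (Nb E d) s e [unp 8 8 (nat_lit 0x100020103020403), [nat_lit 2, nat_lit 3, nat_lit 1, nat_lit 2, nat_lit 0, nat_lit 1], [nat_lit 1, nat_lit 5, nat_lit 2, nat_lit 1], [nat_lit 5, nat_lit 6, nat_lit 1, nat_lit 5, nat_lit 0, nat_lit 1], unp 8 7 (nat_lit 0x1000201030706)]) : Goal E d c s :=
  (Fit.rej hS.fit h (w := [nat_lit 1, nat_lit 2, nat_lit 4, nat_lit 2, nat_lit 1]) (a := 0) (b := 0) (by decide +kernel)).elim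
theorem n6 (h : Fit B (Nb E d) s e [unp 8 8 (nat_lit 0x100020103020403), [nat_lit 2, nat_lit 3, nat_lit 1, nat_lit 2, nat_lit 0, nat_lit 1], [nat_lit 1, nat_lit 5, nat_lit 2, nat_lit 1], [nat_lit 5, nat_lit 6, nat_lit 1, nat_lit 5, nat_lit 0, nat_lit 1], unp 8 7 (nat_lit 0x1020305010706)]) : Goal E d c s :=
  (Fit.rej hS.fit h (w := [nat_lit 1, nat_lit 2, nat_lit 4, nat_lit 2, nat_lit 1]) (a := 0) (b := 0) (by decide +kernel)).elim
theorem n7 (h : Fit B (Nb E d) s e [unp 8 8 (nat_lit 0x100020103020403), [nat_lit 2, nat_lit 3, nat_lit 1, nat_lit 2, nat_lit 0, nat_lit 1], [nat_lit 1, nat_lit 5, nat_lit 2, nat_lit 1], [nat_lit 5, nat_lit 6, nat_lit 1, nat_lit 5, nat_lit 0, nat_lit 1], unp 8 8 (nat_lit 0x100020103020407)]) : Goal E d c s :=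
  .inr (.inr (.inl (h.leaf hS q2 (w := []) (by decide +kernel))))
theorem n8 (h : Fit B (Nb E d) s e [unp 8 8 (nat_lit 0x100020103020403), [nat_lit 2, nat_lit 3, nat_lit 1, nat_lit 2, nat_lit 0, nat_lit 1], [nat_lit 1, nat_lit 5, nat_lit 2, nat_lit 1], [nat_lit 5, nat_lit 6, nat_lit 1, nat_lit 5, nat_lit 0, nat_lit 1], unp 8 8 (nat_lit 0x102030405010207)]) : Goal E d c s :=
  .inr (.inl (h.leaf hS q1 (w := []) (by decide +kernel)))
theorem n9 (h : Fit B (Nb E d) s e [unp 8 8 (nat_lit 0x100020103020403), [nat_lit 2, nat_lit 3, nat_lit 1, nat_lit 2, nat_lit 0, nat_lit 1], [nat_lit 1, nat_lit 5, nat_lit 2, nat_lit 1], [nat_lit 5, nat_lit 6, nat_lit 1, nat_lit 5, nat_lit 0, nat_lit 1], unp 8 9 (nat_lit 0x10002010302040706)]) : Goal E d c s :=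
  (Fit.rej hS.fit h (w := [nat_lit 1, nat_lit 2, nat_lit 4, nat_lit 2, nat_lit 1]) (a := 0) (b := 0) (by decide +kernel)).elim
theorem n10 (h : Fit B (Nb E d) s e [unp 8 8 (nat_lit 0x100020103020403), [nat_lit 2, nat_lit 3, nat_lit 1, nat_lit 2, nat_lit 0, nat_lit 1], [nat_lit 1, nat_lit 5, nat_lit 2, nat_lit 1], [nat_lit 5, nat_lit 6, nat_lit 1, nat_lit 5, nat_lit 0, nat_lit 1], unp 8 9 (nat_lit 0x10203040501020706)]) : Goal E d c s :=
  (Fit.rej hS.fit h (w := [nat_lit 1, nat_lit 2, nat_lit 4, nat_lit 2, nat_lit 1]) (a := 0) (b := 0) (by decide +kernel)).elim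
theorem n11 (h : Fit B (Nb E d) s e [unp 8 8 (nat_lit 0x100020103020403), [nat_lit 2, nat_lit 3, nat_lit 1, nat_lit 2, nat_lit 0, nat_lit 1], [nat_lit 1, nat_lit 5, nat_lit 2, nat_lit 1], [nat_lit 5, nat_lit 6, nat_lit 1, nat_lit 5, nat_lit 0, nat_lit 1], unp 8 13 (nat_lit 0x1020304050102030605070302)]) : Goal E d c s :=
  (Fit.rej hS.fit h (w := [nat_lit 1, nat_lit 2, nat_lit 4, nat_lit 2, nat_lit 1]) (a := 0) (b := 0) (by decide +kernel)).elim
theorem n12 (h : Fit B (Nb E d) s e [unp 8 8 (nat_lit 0x100020103020403), [nat_lit 2, nat_lit 3, nat_lit 1, nat_lit 2, nat_lit 0, nat_lit 1], [nat_lit 1, nat_lit 5, nat_lit 2, nat_lit 1], [nat_lit 5, nat_lit 6, nat_lit 1, nat_lit 5, nat_lit 0, nat_lit 1], unp 8 13 (nat_lit 0x1020304050102030605070304)]) : Goal E d c s :=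
  (Fit.rej hS.fit h (w := [nat_lit 1, nat_lit 2, nat_lit 4, nat_lit 2, nat_lit 1]) (a := 0) (b := 0) (by decide +kernel)).elim
theorem n13 (h : Fit B (Nb E d) s e [unp 8 8 (nat_lit 0x100020103020403), [nat_lit 2, nat_lit 3, nat_lit 1, nat_lit 2, nat_lit 0, nat_lit 1], [nat_lit 1, nat_lit 5, nat_lit 2, nat_lit 1], [nat_lit 5, nat_lit 6, nat_lit 1, nat_lit 5, nat_lit 0, nat_lit 1], unp 8 13 (nat_lit 0x1020304050607030201000501)]) : Goal E d c s :=
  (Fit.rej hS.fit h (w := [nat_lit 1, nat_lit 2, nat_lit 4, nat_lit 2, nat_lit 1]) (a := 0) (b := 0) (by decide +kernel)).elim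
theorem n14 (h : Fit B (Nb E d) s e [unp 8 8 (nat_lit 0x100020103020403), [nat_lit 2, nat_lit 3, nat_lit 1, nat_lit 2, nat_lit 0, nat_lit 1], [nat_lit 1, nat_lit 5, nat_lit 2, nat_lit 1], [nat_lit 5, nat_lit 6, nat_lit 1, nat_lit 5, nat_lit 0, nat_lit 1], unp 8 13 (nat_lit 0x1020304070302010605070302)]) : Goal E d c s :=
  (Fit.rej hS.fit h (w := [nat_lit 1, nat_lit 2, nat_lit 4, nat_lit 2, nat_lit 1]) (a := 0) (b := 0) (by decide +kernel)).elim
theorem n15 (h : Fit B (Nb E d) s e [unp 8 8 (nat_lit 0x100020103020403), [nat_lit 2, nat_lit 3, nat_lit 1, nat_lit 2, nat_lit 0, nat_lit 1], [nat_lit 1, nat_lit 5, nat_lit 2, nat_lit 1], [nat_lit 5, nat_lit 6, nat_lit 1, nat_lit 5, nat_lit 0, nat_lit 1], unp 8 14 (nat_lit 0x102030405010203060507030206)]) : Goal E d c s :=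
  .inr (.inr (.inr (h.leaf hS q3 (w := []) (by decide +kernel))))
theorem n16 (h : Fit B (Nb E d) s e [unp 8 8 (nat_lit 0x100020103020403), [nat_lit 2, nat_lit 3, nat_lit 1, nat_lit 2, nat_lit 0, nat_lit 1], [nat_lit 1, nat_lit 5, nat_lit 2, nat_lit 1], [nat_lit 5, nat_lit 6, nat_lit 1, nat_lit 5, nat_lit 0, nat_lit 1], unp 8 14 (nat_lit 0x102030405010203060507030406)]) : Goal E d c s :=
  .inl (h.leaf hS q0 (w := unp 8 23 (nat_lit 0x105020100010205010304060105020100010205010302)) (by decide +kernel))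
theorem n17 (h : Fit B (Nb E d) s e [unp 8 8 (nat_lit 0x100020103020403), [nat_lit 2, nat_lit 3, nat_lit 1, nat_lit 2, nat_lit 0, nat_lit 1], [nat_lit 1, nat_lit 5, nat_lit 2, nat_lit 1], [nat_lit 5, nat_lit 6, nat_lit 1, nat_lit 5, nat_lit 0, nat_lit 1], unp 8 14 (nat_lit 0x102030405010203060507030607)]) : Goal E d c s :=
  (Fit.rej h hS.fit (w := [nat_lit 3, nat_lit 4, nat_lit 3]) (a := 2) (b := 2) (by decide +kernel)).elim
theorem n18 (h : Fit B (Nb E d) s e [unp 8 8 (nat_lit 0x100020103020403), [nat_lit 2, nat_lit 3, nat_lit 1, nat_lit 2, nat_lit 0, nat_lit 1], [nat_lit 1, nat_lit 5, nat_lit 2, nat_lit 1], [nat_lit 5, nat_lit 6, nat_lit 1, nat_lit 5, nat_lit 0, nat_lit 1], unp 8 14 (nat_lit 0x102030405010607030204030706)]) : Goal E d c s :=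
  (Fit.rej h hS.fit (w := [nat_lit 3, nat_lit 4, nat_lit 3]) (a := 2) (b := 2) (by decide +kernel)).elim
theorem n19 (h : Fit B (Nb E d) s e [unp 8 8 (nat_lit 0x100020103020403), [nat_lit 2, nat_lit 3, nat_lit 1, nat_lit 2, nat_lit 0, nat_lit 1], [nat_lit 1, nat_lit 5, nat_lit 2, nat_lit 1], [nat_lit 5, nat_lit 6, nat_lit 1, nat_lit 5, nat_lit 0, nat_lit 1], unp 8 14 (nat_lit 0x102030405060703020100050106)]) : Goal E d c s :=
  .inr (.inr (.inr (h.leaf hS q3 (w := []) (by decide +kernel))))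
theorem n20 (h : Fit B (Nb E d) s e [unp 8 8 (nat_lit 0x100020103020403), [nat_lit 2, nat_lit 3, nat_lit 1, nat_lit 2, nat_lit 0, nat_lit 1], [nat_lit 1, nat_lit 5, nat_lit 2, nat_lit 1], [nat_lit 5, nat_lit 6, nat_lit 1, nat_lit 5, nat_lit 0, nat_lit 1], unp 8 14 (nat_lit 0x102030407030201060507030206)]) : Goal E d c s :=
  .inl (h.leaf hS q0 (w := unp 8 23 (nat_lit 0x105020100010205010304060105020100010205010302)) (by decide +kernel))
theorem n21 (h : Fit B (Nb E d) s e [unp 8 8 (nat_lit 0x100020103020403), [nat_lit 2, nat_lit 3, nat_lit 1, nat_lit 2, nat_lit 0, nat_lit 1], [nat_lit 1, nat_lit 5, nat_lit 2, nat_lit 1], [nat_lit 5, nat_lit 6, nat_lit 1, nat_lit 5, nat_lit 0, nat_lit 1]]) : Goal E d c s := by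
  obtain ⟨u, hu, h⟩ := Fit.step' hS.fit h (W := []) (r := 0) (R := [[nat_lit 7, nat_lit 3, nat_lit 1, nat_lit 2, nat_lit 0, nat_lit 1], [nat_lit 1, nat_lit 5, nat_lit 4, nat_lit 3, nat_lit 2, nat_lit 1], [nat_lit 2, nat_lit 1, nat_lit 5, nat_lit 3, nat_lit 2, nat_lit 1], [nat_lit 7, nat_lit 1, nat_lit 5, nat_lit 3, nat_lit 2, nat_lit 1], unp 8 7 (nat_lit 0x1000201030706), unp 8 7 (nat_lit 0x1020305010706), unp 8 8 (nat_lit 0x100020103020407), unp 8 8 (nat_lit 0x102030405010207), unp 8 9 (nat_lit 0x10002010302040706), unp 8 9 (nat_lit 0x10203040501020706), unp 8 13 (nat_lit 0x1020304050102030605070302), unp 8 13 (nat_lit 0x1020304050102030605070304), unp 8 13 (nat_lit 0x1020304050607030201000501), unp 8 13 (nat_lit 0x1020304070302010605070302), unp 8 14 (nat_lit 0x102030405010203060507030206), unp 8 14 (nat_lit 0x102030405010203060507030406), unp 8 14 (nat_lit 0x102030405010203060507030607), unp 8 14 (nat_lit 0x102030405010607030204030706),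 unp 8 14 (nat_lit 0x102030405060703020100050106), unp 8 14 (nat_lit 0x102030407030201060507030206)]) (by decide +kernel)
  simp only [List.mem_cons, List.not_mem_nil, or_false] at hu
  rcases hu with rfl | rfl | rfl | rfl | rfl | rfl | rfl | rfl | rfl | rfl | rfl | rfl | rfl | rfl | rfl | rfl | rfl | rfl | rfl | rfl
  exacts [n1 hS h, n2 hS h, n3 hS h, n4 hS h, n5 hS h, n6 hS h, n7 hS h, n8 hS h, n9 hS h, n10 hS h, n11 hS h, n12 hS h, n13 hS h, n14 hS h, n15 hS h, n16 hS h, n17 hS h, n18 hS h, n19 hS h, n20 hS h]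
theorem n22 (h : Fit B (Nb E d) s e [unp 8 8 (nat_lit 0x100020103020403), [nat_lit 2, nat_lit 3, nat_lit 1, nat_lit 2, nat_lit 0, nat_lit 1], [nat_lit 1, nat_lit 5, nat_lit 2, nat_lit 1]]) : Goal E d c s := by
  obtain ⟨u, hu, h⟩ := Fit.step' hS.fit h (W := [[nat_lit 5], unp 8 17 (nat_lit 0x102030704030201000102030407030201), unp 8 21 (nat_lit 0x10203070504030200010001000203040507030201)]) (r := 1) (R := [[nat_lit 5, nat_lit 6, nat_lit 1, nat_lit 5, nat_lit 0, nat_lit 1]]) (by decide +kernel)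
  simp only [List.mem_cons, List.not_mem_nil, or_false] at hu
  rcases hu with rfl
  exacts [n21 hS h]
theorem n23 (h : Fit B (Nb E d) s e [unp 8 8 (nat_lit 0x100020103020403), [nat_lit 2, nat_lit 3, nat_lit 1, nat_lit 2, nat_lit 0, nat_lit 1], unp 8 8 (nat_lit 0x100020103020703), [nat_lit 5, nat_lit 6, nat_lit 1, nat_lit 5, nat_lit 0, nat_lit 1], [nat_lit 7, nat_lit 3, nat_lit 1, nat_lit 2, nat_lit 0, nat_lit 1]]) : Goal E d c s :=
  (Fit.rej h hS.fit (w := [nat_lit 3, nat_lit 4, nat_lit 3]) (a := 2) (b := 2) (by decide +kernel)).elim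
theorem n24 (h : Fit B (Nb E d) s e [unp 8 8 (nat_lit 0x100020103020403), [nat_lit 2, nat_lit 3, nat_lit 1, nat_lit 2, nat_lit 0, nat_lit 1], unp 8 8 (nat_lit 0x100020103020703), [nat_lit 5, nat_lit 6, nat_lit 1, nat_lit 5, nat_lit 0, nat_lit 1], [nat_lit 1, nat_lit 5, nat_lit 4, nat_lit 3, nat_lit 2, nat_lit 1]]) : Goal E d c s :=
  .inr (.inr (.inl (h.leaf hS q2 (w := []) (by decide +kernel))))
theorem n25 (h : Fit B (Nb E d) s e [unp 8 8 (nat_lit 0x100020103020403), [nat_lit 2, nat_lit 3, nat_lit 1, nat_lit 2, nat_lit 0, nat_lit 1], unp 8 8 (nat_lit 0x100020103020703), [nat_lit 5, nat_lit 6, nat_lit 1, nat_lit 5, nat_lit 0, nat_lit 1], [nat_lit 2, nat_lit 1, nat_lit 5, nat_lit 3, nat_lit 2, nat_lit 1]]) : Goal E d c s :=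
  .inl (h.leaf hS q0 (w := []) (by decide +kernel))
theorem n26 (h : Fit B (Nb E d) s e [unp 8 8 (nat_lit 0x100020103020403), [nat_lit 2, nat_lit 3, nat_lit 1, nat_lit 2, nat_lit 0, nat_lit 1], unp 8 8 (nat_lit 0x100020103020703), [nat_lit 5, nat_lit 6, nat_lit 1, nat_lit 5, nat_lit 0, nat_lit 1], [nat_lit 7, nat_lit 1, nat_lit 5, nat_lit 3, nat_lit 2, nat_lit 1]]) : Goal E d c s :=
  .inr (.inr (.inl (h.leaf hS q2 (w := []) (by decide +kernel))))
theorem n27 (h : Fit B (Nb E d) s e [unp 8 8 (nat_lit 0x100020103020403), [nat_lit 2, nat_lit 3, nat_lit 1, nat_lit 2, nat_lit 0, nat_lit 1], unp 8 8 (nat_lit 0x100020103020703), [nat_lit 5, nat_lit 6, nat_lit 1, nat_lit 5, nat_lit 0, nat_lit 1], unp 8 7 (nat_lit 0x1020304050106)]) : Goal E d c s :=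
  (Fit.rej hS.fit h (w := [nat_lit 1, nat_lit 2, nat_lit 4, nat_lit 2, nat_lit 1]) (a := 0) (b := 0) (by decide +kernel)).elim
theorem n28 (h : Fit B (Nb E d) s e [unp 8 8 (nat_lit 0x100020103020403), [nat_lit 2, nat_lit 3, nat_lit 1, nat_lit 2, nat_lit 0, nat_lit 1], unp 8 8 (nat_lit 0x100020103020703), [nat_lit 5, nat_lit 6, nat_lit 1, nat_lit 5, nat_lit 0, nat_lit 1], unp 8 7 (nat_lit 0x1020305010206)]) : Goal E d c s :=
  (Fit.rej hS.fit h (w := [nat_lit 1, nat_lit 2, nat_lit 4, nat_lit 2, nat_lit 1]) (a := 0) (b := 0) (by decide +kernel)).elim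
theorem n29 (h : Fit B (Nb E d) s e [unp 8 8 (nat_lit 0x100020103020403), [nat_lit 2, nat_lit 3, nat_lit 1, nat_lit 2, nat_lit 0, nat_lit 1], unp 8 8 (nat_lit 0x100020103020703), [nat_lit 5, nat_lit 6, nat_lit 1, nat_lit 5, nat_lit 0, nat_lit 1], unp 8 7 (nat_lit 0x1020305010706)]) : Goal E d c s :=
  (Fit.rej hS.fit h (w := [nat_lit 1, nat_lit 2, nat_lit 4, nat_lit 2, nat_lit 1]) (a := 0) (b := 0) (by decide +kernel)).elim
theorem n30 (h : Fit B (Nb E d) s e [unp 8 8 (nat_lit 0x100020103020403), [nat_lit 2, nat_lit 3, nat_lit 1, nat_lit 2, nat_lit 0, nat_lit 1], unp 8 8 (nat_lit 0x100020103020703), [nat_lit 5, nat_lit 6, nat_lit 1, nat_lit 5, nat_lit 0, nat_lit 1], unp 8 8 (nat_lit 0x100020103020407)]) : Goal E d c s :=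
  (Fit.rej h hS.fit (w := [nat_lit 4, nat_lit 2]) (a := 1) (b := 0) (by decide +kernel)).elim
theorem n31 (h : Fit B (Nb E d) s e [unp 8 8 (nat_lit 0x100020103020403), [nat_lit 2, nat_lit 3, nat_lit 1, nat_lit 2, nat_lit 0, nat_lit 1], unp 8 8 (nat_lit 0x100020103020703), [nat_lit 5, nat_lit 6, nat_lit 1, nat_lit 5, nat_lit 0, nat_lit 1], unp 8 8 (nat_lit 0x102030405010207)]) : Goal E d c s :=
  .inl (h.leaf hS q0 (w := []) (by decide +kernel))
theorem n32 (h : Fit B (Nb E d) s e [unp 8 8 (nat_lit 0x100020103020403), [nat_lit 2, nat_lit 3, nat_lit 1, nat_lit 2, nat_lit 0, nat_lit 1], unp 8 8 (nat_lit 0x100020103020703), [nat_lit 5, nat_lit 6, nat_lit 1, nat_lit 5, nat_lit 0, nat_lit 1], unp 8 9 (nat_lit 0x10203040501020706)]) : Goal E d c s :=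
  (Fit.rej hS.fit h (w := [nat_lit 1, nat_lit 2, nat_lit 4, nat_lit 2, nat_lit 1]) (a := 0) (b := 0) (by decide +kernel)).elim
theorem n33 (h : Fit B (Nb E d) s e [unp 8 8 (nat_lit 0x100020103020403), [nat_lit 2, nat_lit 3, nat_lit 1, nat_lit 2, nat_lit 0, nat_lit 1], unp 8 8 (nat_lit 0x100020103020703), [nat_lit 5, nat_lit 6, nat_lit 1, nat_lit 5, nat_lit 0, nat_lit 1], unp 8 13 (nat_lit 0x1020304050102030605070302)]) : Goal E d c s :=
  (Fit.rej hS.fit h (w := [nat_lit 1, nat_lit 2, nat_lit 4, nat_lit 2, nat_lit 1]) (a := 0) (b := 0) (by decide +kernel)).elim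
theorem n34 (h : Fit B (Nb E d) s e [unp 8 8 (nat_lit 0x100020103020403), [nat_lit 2, nat_lit 3, nat_lit 1, nat_lit 2, nat_lit 0, nat_lit 1], unp 8 8 (nat_lit 0x100020103020703), [nat_lit 5, nat_lit 6, nat_lit 1, nat_lit 5, nat_lit 0, nat_lit 1], unp 8 13 (nat_lit 0x1020304050102030605070304)]) : Goal E d c s :=
  (Fit.rej hS.fit h (w := [nat_lit 1, nat_lit 2, nat_lit 4, nat_lit 2, nat_lit 1]) (a := 0) (b := 0) (by decide +kernel)).elim
theorem n35 (h : Fit B (Nb E d) s e [unp 8 8 (nat_lit 0x100020103020403), [nat_lit 2, nat_lit 3, nat_lit 1, nat_lit 2, nat_lit 0, nat_lit 1], unp 8 8 (nat_lit 0x100020103020703), [nat_lit 5, nat_lit 6, nat_lit 1, nat_lit 5, nat_lit 0, nat_lit 1], unp 8 13 (nat_lit 0x1020304050102060507030607)]) : Goal E d c s :=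
  (Fit.rej hS.fit h (w := [nat_lit 1, nat_lit 2, nat_lit 4, nat_lit 2, nat_lit 1]) (a := 0) (b := 0) (by decide +kernel)).elim
theorem n36 (h : Fit B (Nb E d) s e [unp 8 8 (nat_lit 0x100020103020403), [nat_lit 2, nat_lit 3, nat_lit 1, nat_lit 2, nat_lit 0, nat_lit 1], unp 8 8 (nat_lit 0x100020103020703), [nat_lit 5, nat_lit 6, nat_lit 1, nat_lit 5, nat_lit 0, nat_lit 1], unp 8 13 (nat_lit 0x1020304050106070302040307)]) : Goal E d c s :=
  (Fit.rej hS.fit h (w := [nat_lit 1, nat_lit 2, nat_lit 4, nat_lit 2, nat_lit 1]) (a := 0) (b := 0) (by decide +kernel)).elim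
theorem n37 (h : Fit B (Nb E d) s e [unp 8 8 (nat_lit 0x100020103020403), [nat_lit 2, nat_lit 3, nat_lit 1, nat_lit 2, nat_lit 0, nat_lit 1], unp 8 8 (nat_lit 0x100020103020703), [nat_lit 5, nat_lit 6, nat_lit 1, nat_lit 5, nat_lit 0, nat_lit 1], unp 8 14 (nat_lit 0x102030405010203060507030206)]) : Goal E d c s :=
  .inr (.inl (h.leaf hS q1 (w := unp 8 7 (nat_lit 0x7030406070302)) (by decide +kernel)))
theorem n38 (h : Fit B (Nb E d) s e [unp 8 8 (nat_lit 0x100020103020403), [nat_lit 2, nat_lit 3, nat_lit 1, nat_lit 2, nat_lit 0, nat_lit 1], unp 8 8 (nat_lit 0x100020103020703), [nat_lit 5, nat_lit 6, nat_lit 1, nat_lit 5, nat_lit 0, nat_lit 1], unp 8 14 (nat_lit 0x102030405010203060507030406)]) : Goal E d c s :=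
  .inr (.inr (.inr (h.leaf hS q3 (w := unp 8 12 (nat_lit 0x20706010502010001020501)) (by decide +kernel))))
theorem n39 (h : Fit B (Nb E d) s e [unp 8 8 (nat_lit 0x100020103020403), [nat_lit 2, nat_lit 3, nat_lit 1, nat_lit 2, nat_lit 0, nat_lit 1], unp 8 8 (nat_lit 0x100020103020703), [nat_lit 5, nat_lit 6, nat_lit 1, nat_lit 5, nat_lit 0, nat_lit 1], unp 8 14 (nat_lit 0x102030405010203060507030607)]) : Goal E d c s :=
  .inr (.inr (.inr (h.leaf hS q3 (w := unp 8 12 (nat_lit 0x20706010502010001020501)) (by decide +kernel))))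
theorem n40 (h : Fit B (Nb E d) s e [unp 8 8 (nat_lit 0x100020103020403), [nat_lit 2, nat_lit 3, nat_lit 1, nat_lit 2, nat_lit 0, nat_lit 1], unp 8 8 (nat_lit 0x100020103020703), [nat_lit 5, nat_lit 6, nat_lit 1, nat_lit 5, nat_lit 0, nat_lit 1], unp 8 14 (nat_lit 0x102030405010607030204030706)]) : Goal E d c s :=
  .inr (.inl (h.leaf hS q1 (w := unp 8 7 (nat_lit 0x7030406070302)) (by decide +kernel)))
theorem n41 (h : Fit B (Nb E d) s e [unp 8 8 (nat_lit 0x100020103020403), [nat_lit 2, nat_lit 3, nat_lit 1, nat_lit 2, nat_lit 0, nat_lit 1], unp 8 8 (nat_lit 0x100020103020703), [nat_lit 5, nat_lit 6, nat_lit 1, nat_lit 5, nat_lit 0, nat_lit 1], unp 8 14 (nat_lit 0x102030405060703020100050106)]) : Goal E d c s :=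
  (Fit.rej h hS.fit (w := [nat_lit 3, nat_lit 4, nat_lit 3]) (a := 2) (b := 2) (by decide +kernel)).elim
theorem n42 (h : Fit B (Nb E d) s e [unp 8 8 (nat_lit 0x100020103020403), [nat_lit 2, nat_lit 3, nat_lit 1, nat_lit 2, nat_lit 0, nat_lit 1], unp 8 8 (nat_lit 0x100020103020703), [nat_lit 5, nat_lit 6, nat_lit 1, nat_lit 5, nat_lit 0, nat_lit 1], unp 8 14 (nat_lit 0x102030407030201060507030206)]) : Goal E d c s :=
  (Fit.rej h hS.fit (w := [nat_lit 3, nat_lit 4, nat_lit 3]) (a := 2) (b := 2) (by decide +kernel)).elim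
theorem n43 (h : Fit B (Nb E d) s e [unp 8 8 (nat_lit 0x100020103020403), [nat_lit 2, nat_lit 3, nat_lit 1, nat_lit 2, nat_lit 0, nat_lit 1], unp 8 8 (nat_lit 0x100020103020703), [nat_lit 5, nat_lit 6, nat_lit 1, nat_lit 5, nat_lit 0, nat_lit 1]]) : Goal E d c s := by
  obtain ⟨u, hu, h⟩ := Fit.step' hS.fit h (W := []) (r := 0) (R := [[nat_lit 7, nat_lit 3, nat_lit 1, nat_lit 2, nat_lit 0, nat_lit 1], [nat_lit 1, nat_lit 5, nat_lit 4, nat_lit 3, nat_lit 2, nat_lit 1], [nat_lit 2, nat_lit 1, nat_lit 5, nat_lit 3, nat_lit 2, nat_lit 1], [nat_lit 7, nat_lit 1, nat_lit 5, nat_lit 3, nat_lit 2, nat_lit 1], unp 8 7 (nat_lit 0x1020304050106), unp 8 7 (nat_lit 0x1020305010206), unp 8 7 (nat_lit 0x1020305010706), unp 8 8 (nat_lit 0x100020103020407), unp 8 8 (nat_lit 0x102030405010207), unp 8 9 (nat_lit 0x10203040501020706), unp 8 13 (nat_lit 0x1020304050102030605070302), unp 8 13 (nat_lit 0x1020304050102030605070304), unp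 8 13 (nat_lit 0x1020304050102060507030607), unp 8 13 (nat_lit 0x1020304050106070302040307), unp 8 14 (nat_lit 0x102030405010203060507030206), unp 8 14 (nat_lit 0x102030405010203060507030406), unp 8 14 (nat_lit 0x102030405010203060507030607), unp 8 14 (nat_lit 0x102030405010607030204030706), unp 8 14 (nat_lit 0x102030405060703020100050106), unp 8 14 (nat_lit 0x102030407030201060507030206)]) (by decide +kernel)
  simp only [List.mem_cons, List.not_mem_nil, or_false] at hu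
  rcases hu with rfl | rfl | rfl | rfl | rfl | rfl | rfl | rfl | rfl | rfl | rfl | rfl | rfl | rfl | rfl | rfl | rfl | rfl | rfl | rfl
  exacts [n23 hS h, n24 hS h, n25 hS h, n26 hS h, n27 hS h, n28 hS h, n29 hS h, n30 hS h, n31 hS h, n32 hS h, n33 hS h, n34 hS h, n35 hS h, n36 hS h, n37 hS h, n38 hS h, n39 hS h, n40 hS h, n41 hS h, n42 hS h]
theorem n44 (h : Fit B (Nb E d) s e [unp 8 8 (nat_lit 0x100020103020403), [nat_lit 2, nat_lit 3, nat_lit 1, nat_lit 2, nat_lit 0, nat_lit 1], unp 8 8 (nat_lit 0x100020103020703)]) : Goal E d c s := by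
  obtain ⟨u, hu, h⟩ := Fit.step' hS.fit h (W := [[nat_lit 5], unp 8 17 (nat_lit 0x102030704030201000102030407030201), unp 8 21 (nat_lit 0x10203070504030200010001000203040507030201)]) (r := 1) (R := [[nat_lit 5, nat_lit 6, nat_lit 1, nat_lit 5, nat_lit 0, nat_lit 1]]) (by decide +kernel)
  simp only [List.mem_cons, List.not_mem_nil, or_false] at hu
  rcases hu with rfl
  exacts [n43 hS h]
theorem n45 (h : Fit B (Nb E d) s e [unp 8 8 (nat_lit 0x100020103020403), [nat_lit 2, nat_lit 3, nat_lit 1, nat_lit 2, nat_lit 0, nat_lit 1], [nat_lit 7, nat_lit 6, nat_lit 1, nat_lit 5, nat_lit 2, nat_lit 1], [nat_lit 1, nat_lit 5, nat_lit 0, nat_lit 1], unp 8 7 (nat_lit 0x1000201030706)]) : Goal E d c s :=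
  (Fit.rej hS.fit h (w := [nat_lit 1, nat_lit 2, nat_lit 4, nat_lit 2, nat_lit 1]) (a := 0) (b := 0) (by decide +kernel)).elim
theorem n46 (h : Fit B (Nb E d) s e [unp 8 8 (nat_lit 0x100020103020403), [nat_lit 2, nat_lit 3, nat_lit 1, nat_lit 2, nat_lit 0, nat_lit 1], [nat_lit 7, nat_lit 6, nat_lit 1, nat_lit 5, nat_lit 2, nat_lit 1], [nat_lit 1, nat_lit 5, nat_lit 0, nat_lit 1], unp 8 7 (nat_lit 0x1020304050106)]) : Goal E d c s :=
  (Fit.rej hS.fit h (w := [nat_lit 1, nat_lit 2, nat_lit 4, nat_lit 2, nat_lit 1]) (a := 0) (b := 0) (by decide +kernel)).elim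
theorem n47 (h : Fit B (Nb E d) s e [unp 8 8 (nat_lit 0x100020103020403), [nat_lit 2, nat_lit 3, nat_lit 1, nat_lit 2, nat_lit 0, nat_lit 1], [nat_lit 7, nat_lit 6, nat_lit 1, nat_lit 5, nat_lit 2, nat_lit 1], [nat_lit 1, nat_lit 5, nat_lit 0, nat_lit 1], unp 8 7 (nat_lit 0x1020305010206)]) : Goal E d c s :=
  (Fit.rej hS.fit h (w := [nat_lit 1, nat_lit 2, nat_lit 4, nat_lit 2, nat_lit 1]) (a := 0) (b := 0) (by decide +kernel)).elim
theorem n48 (h : Fit B (Nb E d) s e [unp 8 8 (nat_lit 0x100020103020403), [nat_lit 2, nat_lit 3, nat_lit 1, nat_lit 2, nat_lit 0, nat_lit 1], [nat_lit 7, nat_lit 6, nat_lit 1, nat_lit 5, nat_lit 2, nat_lit 1], [nat_lit 1, nat_lit 5, nat_lit 0, nat_lit 1], unp 8 8 (nat_lit 0x100020103070605)]) : Goal E d c s :=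
  .inr (.inl (h.leaf hS q1 (w := [nat_lit 6, nat_lit 5]) (by decide +kernel)))
theorem n49 (h : Fit B (Nb E d) s e [unp 8 8 (nat_lit 0x100020103020403), [nat_lit 2, nat_lit 3, nat_lit 1, nat_lit 2, nat_lit 0, nat_lit 1], [nat_lit 7, nat_lit 6, nat_lit 1, nat_lit 5, nat_lit 2, nat_lit 1], [nat_lit 1, nat_lit 5, nat_lit 0, nat_lit 1], unp 8 8 (nat_lit 0x100050106070304)]) : Goal E d c s :=
  .inl (h.leaf hS q0 (w := [nat_lit 6, nat_lit 5]) (by decide +kernel))
theorem n50 (h : Fit B (Nb E d) s e [unp 8 8 (nat_lit 0x100020103020403), [nat_lit 2, nat_lit 3, nat_lit 1, nat_lit 2, nat_lit 0, nat_lit 1], [nat_lit 7, nat_lit 6, nat_lit 1, nat_lit 5, nat_lit 2, nat_lit 1], [nat_lit 1, nat_lit 5, nat_lit 0, nat_lit 1], unp 8 8 (nat_lit 0x102030405010605)]) : Goal E d c s :=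
  .inr (.inl (h.leaf hS q1 (w := [nat_lit 6, nat_lit 5]) (by decide +kernel)))
theorem n51 (h : Fit B (Nb E d) s e [unp 8 8 (nat_lit 0x100020103020403), [nat_lit 2, nat_lit 3, nat_lit 1, nat_lit 2, nat_lit 0, nat_lit 1], [nat_lit 7, nat_lit 6, nat_lit 1, nat_lit 5, nat_lit 2, nat_lit 1], [nat_lit 1, nat_lit 5, nat_lit 0, nat_lit 1], unp 8 8 (nat_lit 0x102030501020605)]) : Goal E d c s :=
  .inl (h.leaf hS q0 (w := [nat_lit 6, nat_lit 5]) (by decide +kernel))
theorem n52 (h : Fit B (Nb E d) s e [unp 8 8 (nat_lit 0x100020103020403), [nat_lit 2, nat_lit 3, nat_lit 1, nat_lit 2, nat_lit 0, nat_lit 1], [nat_lit 7, nat_lit 6, nat_lit 1, nat_lit 5, nat_lit 2, nat_lit 1], [nat_lit 1, nat_lit 5, nat_lit 0, nat_lit 1], unp 8 8 (nat_lit 0x102030501070605)]) : Goal E d c s :=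
  (Fit.rej h hS.fit (w := [nat_lit 3, nat_lit 4, nat_lit 3]) (a := 2) (b := 2) (by decide +kernel)).elim
theorem n53 (h : Fit B (Nb E d) s e [unp 8 8 (nat_lit 0x100020103020403), [nat_lit 2, nat_lit 3, nat_lit 1, nat_lit 2, nat_lit 0, nat_lit 1], [nat_lit 7, nat_lit 6, nat_lit 1, nat_lit 5, nat_lit 2, nat_lit 1], [nat_lit 1, nat_lit 5, nat_lit 0, nat_lit 1], unp 8 8 (nat_lit 0x102050106070304)]) : Goal E d c s :=
  (Fit.rej h hS.fit (w := [nat_lit 4, nat_lit 2]) (a := 1) (b := 0) (by decide +kernel)).elim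
theorem n54 (h : Fit B (Nb E d) s e [unp 8 8 (nat_lit 0x100020103020403), [nat_lit 2, nat_lit 3, nat_lit 1, nat_lit 2, nat_lit 0, nat_lit 1], [nat_lit 7, nat_lit 6, nat_lit 1, nat_lit 5, nat_lit 2, nat_lit 1], [nat_lit 1, nat_lit 5, nat_lit 0, nat_lit 1], unp 8 9 (nat_lit 0x10002010302040706)]) : Goal E d c s :=
  (Fit.rej hS.fit h (w := [nat_lit 1, nat_lit 2, nat_lit 4, nat_lit 2, nat_lit 1]) (a := 0) (b := 0) (by decide +kernel)).elim
theorem n55 (h : Fit B (Nb E d) s e [unp 8 8 (nat_lit 0x100020103020403), [nat_lit 2, nat_lit 3, nat_lit 1, nat_lit 2, nat_lit 0, nat_lit 1], [nat_lit 7, nat_lit 6, nat_lit 1, nat_lit 5, nat_lit 2, nat_lit 1], [nat_lit 1, nat_lit 5, nat_lit 0, nat_lit 1], unp 8 12 (nat_lit 0x10203040501020306070302)]) : Goal E d c s :=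
  (Fit.rej h hS.fit (w := [nat_lit 3, nat_lit 4, nat_lit 3]) (a := 2) (b := 2) (by decide +kernel)).elim
theorem n56 (h : Fit B (Nb E d) s e [unp 8 8 (nat_lit 0x100020103020403), [nat_lit 2, nat_lit 3, nat_lit 1, nat_lit 2, nat_lit 0, nat_lit 1], [nat_lit 7, nat_lit 6, nat_lit 1, nat_lit 5, nat_lit 2, nat_lit 1], [nat_lit 1, nat_lit 5, nat_lit 0, nat_lit 1], unp 8 12 (nat_lit 0x10203040501020306070304)]) : Goal E d c s :=
  (Fit.rej h hS.fit (w := [nat_lit 3, nat_lit 4, nat_lit 3]) (a := 2) (b := 2) (by decide +kernel)).elim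
theorem n57 (h : Fit B (Nb E d) s e [unp 8 8 (nat_lit 0x100020103020403), [nat_lit 2, nat_lit 3, nat_lit 1, nat_lit 2, nat_lit 0, nat_lit 1], [nat_lit 7, nat_lit 6, nat_lit 1, nat_lit 5, nat_lit 2, nat_lit 1], [nat_lit 1, nat_lit 5, nat_lit 0, nat_lit 1], unp 8 12 (nat_lit 0x10203040501060703020607)]) : Goal E d c s :=
  .inr (.inr (.inr (h.leaf hS q3 (w := [nat_lit 7, nat_lit 6, nat_lit 5, nat_lit 2]) (by decide +kernel))))
theorem n58 (h : Fit B (Nb E d) s e [unp 8 8 (nat_lit 0x100020103020403), [nat_lit 2, nat_lit 3, nat_lit 1, nat_lit 2, nat_lit 0, nat_lit 1], [nat_lit 7, nat_lit 6, nat_lit 1, nat_lit 5, nat_lit 2, nat_lit 1], [nat_lit 1, nat_lit 5, nat_lit 0, nat_lit 1], unp 8 12 (nat_lit 0x10203040501060703040607)]) : Goal E d c s :=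
  .inr (.inr (.inl (h.leaf hS q2 (w := unp 8 17 (nat_lit 0x203040506070105020100010205010302)) (by decide +kernel))))
theorem n59 (h : Fit B (Nb E d) s e [unp 8 8 (nat_lit 0x100020103020403), [nat_lit 2, nat_lit 3, nat_lit 1, nat_lit 2, nat_lit 0, nat_lit 1], [nat_lit 7, nat_lit 6, nat_lit 1, nat_lit 5, nat_lit 2, nat_lit 1], [nat_lit 1, nat_lit 5, nat_lit 0, nat_lit 1], unp 8 12 (nat_lit 0x10203040703020106070302)]) : Goal E d c s :=
  .inr (.inr (.inr (h.leaf hS q3 (w := [nat_lit 7, nat_lit 6, nat_lit 5, nat_lit 2]) (by decide +kernel))))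
theorem n60 (h : Fit B (Nb E d) s e [unp 8 8 (nat_lit 0x100020103020403), [nat_lit 2, nat_lit 3, nat_lit 1, nat_lit 2, nat_lit 0, nat_lit 1], [nat_lit 7, nat_lit 6, nat_lit 1, nat_lit 5, nat_lit 2, nat_lit 1], [nat_lit 1, nat_lit 5, nat_lit 0, nat_lit 1], unp 8 12 (nat_lit 0x10203040703020106070304)]) : Goal E d c s :=
  .inr (.inr (.inl (h.leaf hS q2 (w := unp 8 17 (nat_lit 0x203040506070105020100010205010302)) (by decide +kernel))))
theorem n61 (h : Fit B (Nb E d) s e [unp 8 8 (nat_lit 0x100020103020403), [nat_lit 2, nat_lit 3, nat_lit 1, nat_lit 2, nat_lit 0, nat_lit 1], [nat_lit 7, nat_lit 6, nat_lit 1, nat_lit 5, nat_lit 2, nat_lit 1], [nat_lit 1, nat_lit 5, nat_lit 0, nat_lit 1], unp 8 13 (nat_lit 0x1020304050102060507030607)]) : Goal E d c s :=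
  (Fit.rej hS.fit h (w := [nat_lit 1, nat_lit 2, nat_lit 4, nat_lit 2, nat_lit 1]) (a := 0) (b := 0) (by decide +kernel)).elim
theorem n62 (h : Fit B (Nb E d) s e [unp 8 8 (nat_lit 0x100020103020403), [nat_lit 2, nat_lit 3, nat_lit 1, nat_lit 2, nat_lit 0, nat_lit 1], [nat_lit 7, nat_lit 6, nat_lit 1, nat_lit 5, nat_lit 2, nat_lit 1], [nat_lit 1, nat_lit 5, nat_lit 0, nat_lit 1], unp 8 13 (nat_lit 0x1020304050106070302040307)]) : Goal E d c s :=
  (Fit.rej hS.fit h (w := [nat_lit 1, nat_lit 2, nat_lit 4, nat_lit 2, nat_lit 1]) (a := 0) (b := 0) (by decide +kernel)).elim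
theorem n63 (h : Fit B (Nb E d) s e [unp 8 8 (nat_lit 0x100020103020403), [nat_lit 2, nat_lit 3, nat_lit 1, nat_lit 2, nat_lit 0, nat_lit 1], [nat_lit 7, nat_lit 6, nat_lit 1, nat_lit 5, nat_lit 2, nat_lit 1], [nat_lit 1, nat_lit 5, nat_lit 0, nat_lit 1], unp 8 13 (nat_lit 0x1020304050607030201000501)]) : Goal E d c s :=
  (Fit.rej hS.fit h (w := [nat_lit 1, nat_lit 2, nat_lit 4, nat_lit 2, nat_lit 1]) (a := 0) (b := 0) (by decide +kernel)).elim
theorem n64 (h : Fit B (Nb E d) s e [unp 8 8 (nat_lit 0x100020103020403), [nat_lit 2, nat_lit 3, nat_lit 1, nat_lit 2, nat_lit 0, nat_lit 1], [nat_lit 7, nat_lit 6, nat_lit 1, nat_lit 5, nat_lit 2, nat_lit 1], [nat_lit 1, nat_lit 5, nat_lit 0, nat_lit 1], unp 8 13 (nat_lit 0x1020304070302010605070302)]) : Goal E d c s :=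
  (Fit.rej hS.fit h (w := [nat_lit 1, nat_lit 2, nat_lit 4, nat_lit 2, nat_lit 1]) (a := 0) (b := 0) (by decide +kernel)).elim
theorem n65 (h : Fit B (Nb E d) s e [unp 8 8 (nat_lit 0x100020103020403), [nat_lit 2, nat_lit 3, nat_lit 1, nat_lit 2, nat_lit 0, nat_lit 1], [nat_lit 7, nat_lit 6, nat_lit 1, nat_lit 5, nat_lit 2, nat_lit 1], [nat_lit 1, nat_lit 5, nat_lit 0, nat_lit 1]]) : Goal E d c s := by
  obtain ⟨u, hu, h⟩ := Fit.step' hS.fit h (W := []) (r := 0) (R := [unp 8 7 (nat_lit 0x1000201030706), unp 8 7 (nat_lit 0x1020304050106), unp 8 7 (nat_lit 0x1020305010206), unp 8 8 (nat_lit 0x100020103070605), unp 8 8 (nat_lit 0x100050106070304), unp 8 8 (nat_lit 0x102030405010605), unp 8 8 (nat_lit 0x102030501020605), unp 8 8 (nat_lit 0x102030501070605), unp 8 8 (nat_lit 0x102050106070304), unp 8 9 (nat_lit 0x10002010302040706), unp 8 12 (nat_lit 0x10203040501020306070302), unp 8 12 (nat_lit 0x10203040501020306070304),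 unp 8 12 (nat_lit 0x10203040501060703020607), unp 8 12 (nat_lit 0x10203040501060703040607), unp 8 12 (nat_lit 0x10203040703020106070302), unp 8 12 (nat_lit 0x10203040703020106070304), unp 8 13 (nat_lit 0x1020304050102060507030607), unp 8 13 (nat_lit 0x1020304050106070302040307), unp 8 13 (nat_lit 0x1020304050607030201000501), unp 8 13 (nat_lit 0x1020304070302010605070302)]) (by decide +kernel)
  simp only [List.mem_cons, List.not_mem_nil, or_false] at hu
  rcases hu with rfl | rfl | rfl | rfl | rfl | rfl | rfl | rfl | rfl | rfl | rfl | rfl | rfl | rfl | rfl | rfl | rfl | rfl | rfl | rfl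
  exacts [n45 hS h, n46 hS h, n47 hS h, n48 hS h, n49 hS h, n50 hS h, n51 hS h, n52 hS h, n53 hS h, n54 hS h, n55 hS h, n56 hS h, n57 hS h, n58 hS h, n59 hS h, n60 hS h, n61 hS h, n62 hS h, n63 hS h, n64 hS h]
theorem n66 (h : Fit B (Nb E d) s e [unp 8 8 (nat_lit 0x100020103020403), [nat_lit 2, nat_lit 3, nat_lit 1, nat_lit 2, nat_lit 0, nat_lit 1], [nat_lit 7, nat_lit 6, nat_lit 1, nat_lit 5, nat_lit 2, nat_lit 1]]) : Goal E d c s := by
  obtain ⟨u, hu, h⟩ := Fit.step' hS.fit h (W := [[nat_lit 6], unp 8 21 (nat_lit 0x70603070403010200010001000201030407030607), unp 8 21 (nat_lit 0x50601020307040302010001020304070302010605)]) (r := 1) (R := [[nat_lit 1, nat_lit 5, nat_lit 0, nat_lit 1]]) (by decide +kernel)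
  simp only [List.mem_cons, List.not_mem_nil, or_false] at hu
  rcases hu with rfl
  exacts [n65 hS h]
theorem n67 (h : Fit B (Nb E d) s e [unp 8 8 (nat_lit 0x100020103020403), [nat_lit 2, nat_lit 3, nat_lit 1, nat_lit 2, nat_lit 0, nat_lit 1], unp 8 16 (nat_lit 0x1020304050102030605010007060501)]) : Goal E d c s := by
  obtain ⟨u, hu, h⟩ := Fit.step' hS.fit h (W := []) (r := 0) (R := []) (by decide +kernel)
  exact absurd hu List.not_mem_nil
theorem n68 (h : Fit B (Nb E d) s e [unp 8 8 (nat_lit 0x100020103020403), [nat_lit 2, nat_lit 3, nat_lit 1, nat_lit 2, nat_lit 0, nat_lit 1], unp 8 16 (nat_lit 0x1020304050102030605010207060501)]) : Goal E d c s := by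
  obtain ⟨u, hu, h⟩ := Fit.step' hS.fit h (W := []) (r := 0) (R := []) (by decide +kernel)
  exact absurd hu List.not_mem_nil
theorem n69 (h : Fit B (Nb E d) s e [unp 8 8 (nat_lit 0x100020103020403), [nat_lit 2, nat_lit 3, nat_lit 1, nat_lit 2, nat_lit 0, nat_lit 1]]) : Goal E d c s := by
  obtain ⟨u, hu, h⟩ := Fit.step' hS.fit h (W := [[nat_lit 5], [nat_lit 6], unp 8 17 (nat_lit 0x102030704030201000102030407030201), unp 8 21 (nat_lit 0x70603070403010200010001000201030407030607)]) (r := 2) (R := [[nat_lit 1, nat_lit 2, nat_lit 0, nat_lit 1], [nat_lit 1, nat_lit 5, nat_lit 2, nat_lit 1], unp 8 8 (nat_lit 0x100020103020703), [nat_lit 7, nat_lit 6, nat_lit 1, nat_lit 5, nat_lit 2, nat_lit 1], unp 8 16 (nat_lit 0x1020304050102030605010007060501), unp 8 16 (nat_lit 0x1020304050102030605010207060501)]) (by decide +kernel)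
  simp only [List.mem_cons, List.not_mem_nil, or_false] at hu
  rcases hu with rfl | rfl | rfl | rfl | rfl | rfl
  exacts [n0 hS h, n22 hS h, n44 hS h, n66 hS h, n67 hS h, n68 hS h]
theorem n70 (h : Fit B (Nb E d) s e [unp 8 8 (nat_lit 0x100020103020403)]) : Goal E d c s := by
  obtain ⟨u, hu, h⟩ := Fit.step' hS.fit h (W := [[nat_lit 2], [nat_lit 4], [nat_lit 5], [nat_lit 6], [nat_lit 7], unp 8 9 (nat_lit 0x10502010001020501), unp 8 17 (nat_lit 0x307010504030201000102030405010703)]) (r := 3) (R := [[nat_lit 2, nat_lit 3, nat_lit 1, nat_lit 2, nat_lit 0, nat_lit 1]]) (by decide +kernel)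
  simp only [List.mem_cons, List.not_mem_nil, or_false] at hu
  rcases hu with rfl
  exacts [n69 hS h]
theorem n71 (h : Fit B (Nb E d) s e []) : Goal E d c s := by
  obtain ⟨u, hu, h⟩ := Fit.step' hS.fit h (W := [[nat_lit 2], [nat_lit 3], [nat_lit 4], [nat_lit 5], [nat_lit 6], [nat_lit 7], unp 8 9 (nat_lit 0x10502010001020501)]) (r := 4) (R := [unp 8 8 (nat_lit 0x100020103020403)]) (by decide +kernel)
  simp only [List.mem_cons, List.not_mem_nil, or_false] at hu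
  rcases hu with rfl
  exacts [n70 hS h]
end

theorem conf {k : ℕ} (hL : Loc B E) (hR : B.Rank3 u1 u2 k) (hd : d ∈ E) (hc : c ∈ E) (hdc : ¬ Commute d c)
    (hs : s ∈ Nb E d) (hsc : Commute c s) : Conf B E d c S1a ∨ Conf B E d c S2a ∨ Conf B E d c S3a := by
  obtain ⟨e, hS⟩ := exists_src' hL hR hd hc hdc hs hsc src
  have h3 := three' hL hR hd hc hdc hs hsc src
  rcases n71 hS (Fit.start hL hR hd hs e) with h | h | h | h
  · exact (h.inner hsc q0 rj0 in0 h3).elim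
  · exact (h.outer hsc q1 rj1 acc1 h3).elim (fun h => .inl (h)) fun h => .inl (h)
  · exact (h.outer hsc q2 rj2 acc2 h3).elim (fun h => .inr (.inl (h))) fun h => .inr (.inl (h))
  · exact (h.outer hsc q3 rj3 acc3 h3).elim (fun h => .inr (.inr (h))) fun h => .inr (.inr (h))

end Cfsg.Agent.H29.N22
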