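import Cfsg.Agent.H29.Ot1

/-! The thirteen classes of elements of order three in `Ω₈⁺(3)`. -/

set_option autoImplicit false

namespace Cfsg.Agent.H29.Ot

open QuadraticMap Module H13 H13.SemiSim

local notation "F3" => ZMod 3
local notation "Q8" => QPlus 4 (ZMod 3)

/-- a coordinate vector -/
def vv (a b c d e f g h : F3) : V8 F3 := Sum.elim ![a, b, c, d] ![e, f, g, h]
/-- first vector -/
def uA : V8 F3 := vv 0 1 0 0 0 0 0 0
/-- second vector -/
def uB (s t : F3) : V8 F3 := vv 0 0 t 0 0 0 s 0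
/-- third vector -/
def uC : V8 F3 := vv 0 0 0 0 0 0 0 1
/-- fourth vector -/
def uD (s t : F3) : V8 F3 := vv s 0 0 0 (-t) 0 0 0
/-- a product of four commuting root elements -/
noncomputable def U4 (a b c d : F3) : OG Q8 := sieg Q8 uA (uB a b) * sieg Q8 uC (uD c d)

theorem ok4_iff (a b c d : V8 F3) : Ok4 Q8 a b c d ↔ Q8 a = 0 ∧ Q8 c = 0 ∧ polar Q8 a b = 0 ∧
    polar Q8 a c = 0 ∧ polar Q8 a d = 0 ∧ polar Q8 b c = 0 ∧ polar Q8 b d = 0 ∧
    polar Q8 c d = 0 :=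
  ⟨fun h => ⟨h.1, h.2, h.3, h.4, h.5, h.6, h.7, h.8⟩,
    fun ⟨a, b, c, d, e, f, g, h⟩ => ⟨a, b, c, d, e, f, g, h⟩⟩

instance ok4_dec (a b c d : V8 F3) : Decidable (Ok4 Q8 a b c d) :=
  decidable_of_iff _ (ok4_iff a b c d).symm

theorem ok_U : ∀ a b c d, Ok4 Q8 uA (uB a b) uC (uD c d) := by decide +kernel

theorem U_apply (a b c d : F3) (y : V8 F3) : (U4 a b c d).1 y =
    vv (y (.inl 0) - c * y (.inl 3))
      (y (.inl 1) + a * y (.inl 2) + b * y (.inr 2) - a * b * y (.inr 1))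
      (y (.inl 2) - b * y (.inr 1)) (y (.inl 3)) (y (.inr 0) + d * y (.inl 3)) (y (.inr 1))
      (y (.inr 2) - a * y (.inr 1))
      (y (.inr 3) + c * y (.inr 0) - d * y (.inl 0) + c * d * y (.inl 3)) := by
  have h := ok_U a b c d
  rw [U4, OG_mul_apply, sieg_apply h.qa h.ab, sieg_apply h.qc h.cd]
  apply V8_ext <;>
    simp [polar_QPlus, QPlus_apply, Fin.sum_univ_four, uA, uB, uC, uD, vv] <;> ring

theorem tr_U (a b c d : F3) :
    Tr (ofOG _ (U4 a b c d)) (ofOG _ (U4 a c d b)) (ofOG _ (U4 a d b c)) := by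
  refine ⟨1, one_ne_zero, fun x y => ?_⟩
  simp only [ofOG_e, U_apply, one_smul]
  apply V8_ext <;> simp [pom, vv] <;> ring

theorem U_neg (a b c d : F3) : U4 (-a) (-b) (-c) (-d) = (U4 a b c d)⁻¹ := by
  refine eq_inv_of_mul_eq_one_left (OG_ext fun y => ?_)
  rw [OG_mul_apply, U_apply, U_apply, OG_one_apply]
  apply V8_ext <;> simp [vv] <;> ring

theorem nd8 : ND Q8 := nd_QPlus
theorem good8 : Good Q8 := good_of_five (by simp)

theorem U_mem (a b c d : F3) : U4 a b c d ∈ Om Q8 :=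
  mul_mem (nd8.sieg_mem_commutator good8 _ _) (nd8.sieg_mem_commutator good8 _ _)

theorem U_cube (a b c d : F3) : U4 a b c d ^ 3 = 1 := (lg_sieg (ok_U a b c d)).1
theorem lg_U (a b c d : F3) : lg (U4 a b c d) = wv Q8 uA (uB a b) + wv Q8 uC (uD c d) :=
  (lg_sieg (ok_U a b c d)).2

theorem li4 {A B C D : V8 F3}
    (h : ∀ a b c d : F3, a • A + b • B + c • C + d • D = 0 → a = 0 ∧ b = 0 ∧ c = 0 ∧ d = 0) :
    LinearIndependent F3 ![A, B, C, D] := by
  refine Fintype.linearIndependent_iff.2 fun g hg => ?_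
  obtain ⟨h0, h1, h2, h3⟩ := h (g 0) (g 1) (g 2) (g 3) (by simpa [Fin.sum_univ_four] using hg)
  intro i; fin_cases i <;> assumption

theorem wt4 {x z : OG Q8} (h : x ^ 3 = 1) (h' : z ^ 3 = 1) {a b c d A B C D : V8 F3}
    (l : LinearIndependent F3 ![a, b, c, d]) (o : Ok4 Q8 a b c d)
    (e : lg x = wv Q8 a b + wv Q8 c d) (e' : lg z = wv Q8 A B + wv Q8 C D) {p q : F3}
    (hb : Q8 b = p) (hd : Q8 d = q)
    (H : (∀ a b c d : F3, a • A + b • B + c • C + d • D = 0 → a = 0 ∧ b = 0 ∧ c = 0 ∧ d = 0) ∧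
      Ok4 Q8 A B C D ∧ Q8 B = p ∧ Q8 D = q) : ∃ k : OG Q8, k * x * k⁻¹ = z := by
  obtain ⟨L, O, hB, hD⟩ := H
  have hq : ∀ i, Q8 (![A, B, C, D] i) = Q8 (![a, b, c, d] i) := fun i => by
    fin_cases i
    exacts [O.qa.trans o.qa.symm, hB.trans hb.symm, O.qc.trans o.qc.symm, hD.trans hd.symm]
  obtain ⟨k, hk⟩ := nd8.witt l (li4 L) (fun i j => by
    by_cases hij : i = j
    · rw [hij, polar_self', polar_self', hq]
    fin_cases i <;> fin_cases j <;> first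
      | exact absurd rfl hij
      | simp [o.ab, o.ac, o.ad, o.bc, o.bd, o.cd, O.ab, O.ac, O.ad, O.bc, O.bd, O.cd,
        polar_comm Q8 b a, polar_comm Q8 c a, polar_comm Q8 d a, polar_comm Q8 c b,
        polar_comm Q8 d b, polar_comm Q8 d c, polar_comm Q8 B A, polar_comm Q8 C A,
        polar_comm Q8 D A, polar_comm Q8 C B, polar_comm Q8 D B, polar_comm Q8 D C]) hq
  refine ⟨k, conj_of_lg h h' e ?_⟩
  rw [e', show k.1 a = A from hk 0, show k.1 b = B from hk 1, show k.1 c = C from hk 2,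
    show k.1 d = D from hk 3]

theorem wv_mix (a b c d : V8 F3) : wv Q8 a b + wv Q8 c d =
    wv Q8 (-(a + c)) (b + d) + wv Q8 (c - a) (b - d) := by
  refine LinearMap.ext fun y => ?_
  simp only [LinearMap.add_apply, wv_apply, polar_add_left, polar_sub_left, polar_neg_left]
  linear_combination (norm := module) v3_three (polar Q8 b y • a) + v3_three (polar Q8 d y • c) -
    v3_three (polar Q8 a y • b) - v3_three (polar Q8 c y • d)

theorem cls_O {x : OG Q8} (h : x ^ 3 = 1) (h1 : x ≠ 1) : ∃ k : OG Q8,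
    (∃ q, k * x * k⁻¹ = U4 1 q 0 0) ∨ k * x * k⁻¹ = U4 1 0 1 0 ∨ k * x * k⁻¹ = U4 0 1 1 1 ∨
      k * x * k⁻¹ = U4 0 1 1 (-1) ∨ k * x * k⁻¹ = U4 1 1 1 1 ∨ k * x * k⁻¹ = U4 1 1 1 (-1) := by
  have h0 : lg x ≠ 0 := fun h0 => h1 (OG_ext fun y => by rw [exp_lg h, h0]; simp [OG_one_apply])
  have c3 : ∀ q : F3, q = 0 ∨ q = 1 ∨ q = -1 := by decide
  rcases (lg_sk h).decomp nd8 h0 (by simp) with ⟨a, b, l, o, e⟩ | ⟨a, b, c, d, l, o, e⟩
  · obtain ⟨k, h2, h3⟩ := nd8.witt_two (x' := uA) (y' := uB 1 (Q8 b)) l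
      (LinearIndependent.pair_iff.2 fun s t hst => by
        have := (by decide +kernel : ∀ q s t : F3, s • uA + t • uB 1 q = 0 → s = 0 ∧ t = 0)
        exact this _ _ _ hst)
      ((ok_U 0 0 0 0).qa.trans o.qa.symm)
      ((by decide +kernel : ∀ q : F3, Q8 (uB 1 q) = q) _) ((ok_U _ _ 0 0).ab.trans o.ab.symm)
    refine ⟨k, Or.inl ⟨Q8 b, conj_of_lg h (U_cube ..) e ?_⟩⟩
    rw [lg_U, h2, h3, show uD 0 0 = 0 by decide +kernel]
    congr 1
    exact LinearMap.ext fun y => by simp [wv_apply]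
  · have w := fun {z : OG Q8} (h' : z ^ 3 = 1) {A B C D : V8 F3} => wt4 h h' (A := A) (B := B)
      (C := C) (D := D) l o e
    have sw := fun a b c d => (lg_U a b c d).trans (add_comm _ _)
    rcases c3 (Q8 b) with hb | hb | hb <;> rcases c3 (Q8 d) with hd | hd | hd
    · exact (w (U_cube ..) (lg_U 1 0 1 0) hb hd (by decide +kernel)).imp fun _ h => by simp [h]
    · exact (w (U_cube ..) (lg_U 0 1 1 (-1)) hb hd (by decide +kernel)).imp fun _ h => by simp [h]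
    · exact (w (U_cube ..) (lg_U 0 1 1 1) hb hd (by decide +kernel)).imp fun _ h => by simp [h]
    · exact (w (U_cube ..) (sw 0 1 1 (-1)) hb hd (by decide +kernel)).imp fun _ h => by simp [h]
    · exact (w (U_cube ..) (lg_U 1 1 1 (-1)) hb hd (by decide +kernel)).imp fun _ h => by simp [h]
    · exact (w (U_cube ..) (lg_U 1 1 1 1) hb hd (by decide +kernel)).imp fun _ h => by simp [h]
    · exact (w (U_cube ..) (sw 0 1 1 1) hb hd (by decide +kernel)).imp fun _ h => by simp [h]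
    · exact (w (U_cube ..) (sw 1 1 1 1) hb hd (by decide +kernel)).imp fun _ h => by simp [h]
    · exact (w (U_cube ..) ((lg_U 1 1 1 (-1)).trans (wv_mix ..)) hb hd (by decide +kernel)).imp
        fun _ h => by simp [h]

/-- conjugacy under `Ω` -/
def CjO (x z : OG Q8) : Prop := ∃ k ∈ Om Q8, k * x * k⁻¹ = z

theorem mem_four {p m : V8 F3} (hp : Q8 p = 1) (hm : Q8 m = -1) (k : OG Q8) :
    k ∈ Om Q8 ∨ refl Q8 p * k ∈ Om Q8 ∨ refl Q8 m * k ∈ Om Q8 ∨
      refl Q8 p * refl Q8 m * k ∈ Om Q8 := by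
  have e : ∀ g : OG Q8, g ∈ Om Q8 ↔ Abelianization.of g = 1 := fun g => by
    rw [← MonoidHom.mem_ker, Abelianization.ker_of]
  have hα : Abelianization.of (refl Q8 p) * Abelianization.of (refl Q8 p) = 1 := by
    rw [← map_mul, refl_mul_self, map_one]
  have hβ : Abelianization.of (refl Q8 m) * Abelianization.of (refl Q8 m) = 1 := by
    rw [← map_mul, refl_mul_self, map_one]
  simp only [e, map_mul]
  set α := Abelianization.of (refl Q8 p) with h1
  set β := Abelianization.of (refl Q8 m) with h2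
  have hγ : α * β * (α * β) = 1 := by rw [mul_mul_mul_comm, hα, hβ, one_mul]
  let S : Subgroup (Abelianization (OG Q8)) :=
    { carrier := {a | a = 1 ∨ a = α ∨ a = β ∨ a = α * β}
      one_mem' := Or.inl rfl
      mul_mem' := by
        have a1 : α * (α * β) = β := by rw [← mul_assoc, hα, one_mul]
        have a2 : β * (α * β) = α := by rw [mul_left_comm, hβ, mul_one]
        rintro _ _ (rfl | rfl | rfl | rfl) (rfl | rfl | rfl | rfl) <;>
          simp [hα, hβ, hγ, a1, a2, mul_comm β α, mul_comm (α * β) α, mul_comm (α * β) β]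
      inv_mem' := by
        rintro _ (rfl | rfl | rfl | rfl) <;>
          simp only [inv_one, inv_eq_of_mul_eq_one_right hα, inv_eq_of_mul_eq_one_right hβ,
            inv_eq_of_mul_eq_one_right hγ] <;> simp }
  have : S.comap Abelianization.of = ⊤ := nd8.eq_top_of_refl good8 _ fun v hv => by
    rcases (by decide : ∀ q : F3, q ≠ 0 → q = 1 ∨ q = -1) _ hv with h | h
    · have := (e _).1 (nd8.refl_mul_refl_mem_commutator hv (h.trans hp.symm))
      rw [map_mul] at this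
      exact Or.inr (Or.inl (mul_right_cancel (this.trans hα.symm)))
    · have := (e _).1 (nd8.refl_mul_refl_mem_commutator hv (h.trans hm.symm))
      rw [map_mul] at this
      exact Or.inr (Or.inr (Or.inl (mul_right_cancel (this.trans hβ.symm))))
  rcases (this.ge (Subgroup.mem_top k) : Abelianization.of k ∈ S) with h | h | h | h <;> rw [h]
  exacts [Or.inl rfl, Or.inr (Or.inl hα), Or.inr (Or.inr (Or.inl hβ)), Or.inr (Or.inr (Or.inr hγ))]

theorem cj_four {p m : V8 F3} (hp : Q8 p = 1) (hm : Q8 m = -1) {k x z z1 z2 z3 : OG Q8}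
    (h : k * x * k⁻¹ = z) (h1 : refl Q8 p * z * (refl Q8 p)⁻¹ = z1)
    (h2 : refl Q8 m * z * (refl Q8 m)⁻¹ = z2) (h3 : refl Q8 p * z2 * (refl Q8 p)⁻¹ = z3) :
    CjO x z ∨ CjO x z1 ∨ CjO x z2 ∨ CjO x z3 := by
  subst h3 h2 h1 h
  exact (mem_four hp hm k).imp (fun h => ⟨_, h, rfl⟩) (Or.imp (fun h => ⟨_, h, by group⟩)
    (Or.imp (fun h => ⟨_, h, by group⟩) fun h => ⟨_, h, by group⟩))

theorem rf_U {v : V8 F3} {ε a b c d c' d' : F3} (h : Q8 v = ε ∧ ε * ε = 1 ∧ polar Q8 v uA = 0 ∧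
    polar Q8 v (uB a b) = 0 ∧ polar Q8 v uC = 0 ∧
    uD c d - (polar Q8 v (uD c d) * ε) • v = uD c' d') :
    refl Q8 v * U4 a b c d * (refl Q8 v)⁻¹ = U4 a b c' d' := by
  obtain ⟨h0, h1, h2, h3, h4, h5⟩ := h
  rw [U4, conj_mul_aux, H13.conj_sieg, H13.conj_sieg, refl_apply_of_perp h2, refl_apply_of_perp h3,
    refl_apply_of_perp h4, refl_apply, h0, inv_eq_of_mul_eq_one_right h1, h5, U4]
where conj_mul_aux {G : Type} [Group G] (g x y : G) :
    g * (x * y) * g⁻¹ = g * x * g⁻¹ * (g * y * g⁻¹) := by group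

/-- the vector `e₀ - f₀` -/
def me : V8 F3 := vv 1 0 0 0 (-1) 0 0 0

theorem rp_U (a b c d : F3) : refl Q8 (pe F3) * U4 a b c d * (refl Q8 (pe F3))⁻¹ = U4 a b d c :=
  rf_U (ε := 1) (by revert a b c d; decide +kernel)

theorem rm_U (a b c d : F3) : refl Q8 me * U4 a b c d * (refl Q8 me)⁻¹ = U4 a b (-d) (-c) :=
  rf_U (ε := -1) (by revert a b c d; decide +kernel)

/-- parameters of the thirteen representatives -/
def t13 : Fin 13 → F3 × F3 × F3 × F3 :=
  ![(1, 0, 0, 0), (1, 1, 0, 0), (1, -1, 0, 0), (1, 0, 1, 0), (1, 0, -1, 0), (1, 0, 0, 1),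
    (1, 0, 0, -1), (0, 1, 1, 1), (0, 1, -1, -1), (0, 1, 1, -1), (0, 1, -1, 1), (1, 1, 1, 1),
    (1, 1, 1, -1)]

theorem cls_Om {x : OG Q8} (h : x ^ 3 = 1) (h1 : x ≠ 1) :
    ∃ i, CjO x (U4 (t13 i).1 (t13 i).2.1 (t13 i).2.2.1 (t13 i).2.2.2) := by
  have q : Q8 me = -1 := by decide +kernel
  have w := fun {k : OG Q8} {a b c d : F3} (h : k * x * k⁻¹ = U4 a b c d) =>
    cj_four Q_pe q h (rp_U ..) (rm_U ..) (rp_U ..)
  obtain ⟨k, ⟨q, hk⟩ | hk | hk | hk | hk | hk⟩ := cls_O h h1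
  · have : CjO x (U4 1 q 0 0) := by simpa using w hk
    rcases (by decide : ∀ q : F3, q = 0 ∨ q = 1 ∨ q = -1) q with rfl | rfl | rfl
    exacts [⟨0, this⟩, ⟨1, this⟩, ⟨2, this⟩]
  · rcases w hk with h | h | h | h
    exacts [⟨3, h⟩, ⟨5, h⟩, ⟨6, h⟩, ⟨4, h⟩]
  · rcases w hk with h | h | h | h
    exacts [⟨7, h⟩, ⟨7, h⟩, ⟨8, h⟩, ⟨8, h⟩]
  · rcases w hk with h | h | h | h
    exacts [⟨9, h⟩, ⟨10, h⟩, ⟨9, h⟩, ⟨10, h⟩]
  · have r : refl Q8 (uB 1 (-1)) * U4 1 1 1 1 * (refl Q8 (uB 1 (-1)))⁻¹ = U4 1 1 1 1 :=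
      rf_U (ε := -1) (by decide +kernel)
    exact ⟨11, show CjO x (U4 1 1 1 1) by simpa using cj_four Q_pe (by decide +kernel) hk (rp_U ..) r (rp_U ..)⟩
  · have r : refl Q8 (uB 1 (-1) + me) * U4 1 1 1 (-1) * (refl Q8 (uB 1 (-1) + me))⁻¹ =
        U4 1 1 1 (-1) := rf_U (ε := 1) (by decide +kernel)
    have r' : refl Q8 me * U4 1 1 1 (-1) * (refl Q8 me)⁻¹ = U4 1 1 1 (-1) := rm_U ..
    exact ⟨12, show CjO x (U4 1 1 1 (-1)) by simpa using cj_four (by decide +kernel) q hk r r' r⟩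

end Cfsg.Agent.H29.Ot
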