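import Mathlib
import Cfsg.Prelude.Def_RootSubgroups
import Cfsg.Agent.H29.RankOne

/-! Unipotent subgroups of the unit group of a finite-dimensional algebra; a Baer--Suzuki theorem. -/

set_option autoImplicit false
open Cfsg Module

namespace Cfsg.Agent.H29

variable (k : Type*) [Field k] {A : Type*} [Ring A] [Algebra k A]

/-- the span of the `g - 1`, `g ∈ H` -/
def Lsp (H : Subgroup Aˣ) : Submodule k A := Submodule.span k {x | ∃ g ∈ H, x = (g : A) - 1}

/-- `H` is unipotent -/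
def Unip (H : Subgroup Aˣ) : Prop := ∃ n : ℕ, Lsp k H ^ n = ⊥

variable {k}

theorem sub_one_mem_Lsp {H : Subgroup Aˣ} {g : Aˣ} (hg : g ∈ H) : (g : A) - 1 ∈ Lsp k H :=
  Submodule.subset_span ⟨g, hg, rfl⟩

theorem Lsp_le {H : Subgroup Aˣ} {L : Submodule k A} : Lsp k H ≤ L ↔ ∀ g ∈ H, (g : A) - 1 ∈ L := by
  rw [Lsp, Submodule.span_le]
  exact ⟨fun h g hg => h ⟨g, hg, rfl⟩, by rintro h _ ⟨g, hg, rfl⟩; exact h g hg⟩

theorem Lsp_mono {H K : Subgroup Aˣ} (h : H ≤ K) : Lsp k H ≤ Lsp k K :=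
  Lsp_le.2 fun _ hg => sub_one_mem_Lsp (h hg)

theorem Lsp_mul_le (H : Subgroup Aˣ) : Lsp k H * Lsp k H ≤ Lsp k H := by
  rw [Lsp, Submodule.span_mul_span, Submodule.span_le]
  rintro _ ⟨_, ⟨g, hg, rfl⟩, _, ⟨h, hh, rfl⟩, rfl⟩
  have : ((g : A) - 1) * ((h : A) - 1) = (((g * h : Aˣ) : A) - 1) - ((g : A) - 1) - ((h : A) - 1) := by
    rw [Units.val_mul]; noncomm_ring
  simp only [this]
  exact Submodule.sub_mem _ (Submodule.sub_mem _ (sub_one_mem_Lsp (H.mul_mem hg hh))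
    (sub_one_mem_Lsp hg)) (sub_one_mem_Lsp hh)

theorem sub_one_mul_mem {L : Submodule k A} (hL : L * L ≤ L) {g h : Aˣ} (hg : (g : A) - 1 ∈ L)
    (hh : (h : A) - 1 ∈ L) : ((g * h : Aˣ) : A) - 1 ∈ L := by
  have : ((g * h : Aˣ) : A) - 1 = ((g : A) - 1) * ((h : A) - 1) + ((g : A) - 1) + ((h : A) - 1) := by
    rw [Units.val_mul]; noncomm_ring
  rw [this]
  exact L.add_mem (L.add_mem (hL (Submodule.mul_mem_mul hg hh)) hg) hh

theorem Lsp_iSup_le {ι : Sort*} {H : ι → Subgroup Aˣ} {L : Submodule k A} (hL : L * L ≤ L)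
    (h : ∀ i, Lsp k (H i) ≤ L) : Lsp k (⨆ i, H i) ≤ L := by
  rw [Lsp_le]
  intro g hg
  induction hg using Subgroup.iSup_induction' with
  | hp i x hx => exact h i (sub_one_mem_Lsp hx)
  | h1 => simp
  | hmul x y _ _ hx hy => exact sub_one_mul_mem hL hx hy

theorem Lsp_biSup_le {W : Set (Subgroup Aˣ)} {L : Submodule k A} (hL : L * L ≤ L)
    (h : ∀ B ∈ W, Lsp k B ≤ L) : Lsp k (⨆ B ∈ W, B) ≤ L :=
  Lsp_iSup_le hL fun B => Lsp_iSup_le hL fun hB => h B hB

theorem Lsp_sup_le {H K : Subgroup Aˣ} {L : Submodule k A} (hL : L * L ≤ L)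
    (h1 : Lsp k H ≤ L) (h2 : Lsp k K ≤ L) : Lsp k (H ⊔ K) ≤ L := by
  rw [sup_eq_iSup]
  exact Lsp_iSup_le hL fun b => by cases b <;> assumption

theorem Unip.of_le_sub {H : Subgroup Aˣ} {L : Submodule k A} {n : ℕ} (h : Lsp k H ≤ L) (hn : L ^ n = ⊥) :
    Unip k H := ⟨n, le_bot_iff.1 (hn ▸ pow_le_pow_left' h n)⟩

theorem Unip.mono {H K : Subgroup Aˣ} (h : H ≤ K) (hK : Unip k K) : Unip k H := by
  obtain ⟨n, hn⟩ := hK; exact Unip.of_le_sub (Lsp_mono h) hn

theorem unip_iff_list {H : Subgroup Aˣ} : Unip k H ↔ ∃ n : ℕ, ∀ l : List Aˣ, (∀ g ∈ l, g ∈ H) →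
    l.length = n → (l.map fun g : Aˣ => (g : A) - 1).prod = 0 := by
  constructor
  · rintro ⟨n, hn⟩
    refine ⟨n, fun l hl hl' => ?_⟩
    have : (l.map fun g : Aˣ => (g : A) - 1).prod ∈ Lsp k H ^ l.length := by
      clear hl'
      induction l with
      | nil => simpa using (Submodule.one_le (P := (1 : Submodule k A))).1 le_rfl
      | cons g l ih =>
        rw [List.map_cons, List.prod_cons, List.length_cons, pow_succ']
        exact Submodule.mul_mem_mul (sub_one_mem_Lsp (hl g (by simp)))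
          (ih fun g hg => hl g (by simp [hg]))
    rwa [hl', hn] at this
  · rintro ⟨n, hn⟩
    refine ⟨n, ?_⟩
    have : ∀ m, Lsp k H ^ m ≤ Submodule.span k {x | ∃ l : List Aˣ, (∀ g ∈ l, g ∈ H) ∧ l.length = m ∧
        x = (l.map fun g : Aˣ => (g : A) - 1).prod} := by
      intro m
      induction m with
      | zero =>
        rw [pow_zero, Submodule.one_le]
        exact Submodule.subset_span ⟨[], by simp, rfl, rfl⟩
      | succ m ih =>
        rw [pow_succ']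
        refine (mul_le_mul_right ih _).trans ?_
        rw [Lsp, Submodule.span_mul_span]
        apply Submodule.span_mono
        rintro _ ⟨_, ⟨g, hg, rfl⟩, _, ⟨l, hl, rfl, rfl⟩, rfl⟩
        exact ⟨g :: l, by simpa [hg] using hl, rfl, rfl⟩
    refine le_bot_iff.1 ((this n).trans (Submodule.span_le.2 ?_))
    rintro _ ⟨l, h1, h2, rfl⟩
    exact hn l h1 h2

/-- `g` normalizes the subspace `L` -/
def NormS (g : Aˣ) (L : Submodule k A) : Prop := ∀ x ∈ L, (g : A) * x * (g⁻¹ : Aˣ) ∈ L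

theorem NormS.one (L : Submodule k A) : NormS 1 L := fun x hx => by simpa using hx

theorem NormS.mul {g h : Aˣ} {L : Submodule k A} (hg : NormS g L) (hh : NormS h L) : NormS (g * h) L :=
  fun x hx => by simpa [mul_assoc] using hg _ (hh x hx)

theorem normS_Lsp {H : Subgroup Aˣ} {g : Aˣ} (h : conjBy H g ≤ H) : NormS g (Lsp k H) := by
  intro x hx
  induction hx using Submodule.span_induction with
  | mem x hx =>
    obtain ⟨a, ha, rfl⟩ := hx
    have := sub_one_mem_Lsp (k := k) (h (conj_mem_conjBy ha g))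
    convert this using 1
    simp [mul_sub, sub_mul]
  | zero => simp
  | add x y _ _ hx hy => rw [mul_add, add_mul]; exact Submodule.add_mem _ hx hy
  | smul c x _ hx => rw [mul_smul_comm, smul_mul_assoc]; exact Submodule.smul_mem _ c hx

theorem Lsp_conj_le {H : Subgroup Aˣ} {g : Aˣ} {L : Submodule k A} (hg : NormS g L) (h : Lsp k H ≤ L) :
    Lsp k (conjBy H g) ≤ L := by
  rw [Lsp_le]
  rintro _ ⟨a, ha, rfl⟩
  have := hg _ (h (sub_one_mem_Lsp ha))
  convert this using 1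
  simp [mul_sub, sub_mul]

/-- a nilpotent subalgebra normalized by a unipotent group -/
theorem nil_sup {N : Submodule k A} (hN : N * N ≤ N) {n : ℕ} (hn : N ^ n = ⊥) {X : Subgroup Aˣ}
    (hX : Unip k X) (hnorm : ∀ g ∈ X, NormS g N) :
    ∃ C : Submodule k A, N ≤ C ∧ Lsp k X ≤ C ∧ C * C ≤ C ∧ ∃ m, C ^ m = ⊥ := by
  obtain ⟨m, hm⟩ := hX
  set B : Submodule k A := Submodule.span k ((↑) '' (X : Set Aˣ)) with hB
  have b1 : 1 ≤ B := Submodule.one_le.2 (Submodule.subset_span ⟨1, X.one_mem, rfl⟩)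
  have bb : B * B ≤ B := by
    rw [hB, Submodule.span_mul_span]
    apply Submodule.span_mono
    rintro _ ⟨_, ⟨g, hg, rfl⟩, _, ⟨h, hh, rfl⟩, rfl⟩
    exact ⟨g * h, X.mul_mem hg hh, rfl⟩
  have lb : Lsp k X ≤ B := Lsp_le.2 fun g hg =>
    B.sub_mem (Submodule.subset_span ⟨g, hg, rfl⟩) (Submodule.one_le.1 b1)
  have bn : B * N ≤ N * B := by
    rw [Submodule.mul_le]
    intro b hb x hx
    induction hb using Submodule.span_induction with
    | mem b hb =>
      obtain ⟨g, hg, rfl⟩ := hb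
      have := Submodule.mul_mem_mul (hnorm g hg x hx) (Submodule.subset_span (R := k) (s := ((↑) '' (X : Set Aˣ))) ⟨g, hg, rfl⟩)
      simpa using this
    | zero => simp
    | add x y _ _ hx hy => rw [add_mul]; exact Submodule.add_mem _ hx hy
    | smul c x _ hx => rw [smul_mul_assoc]; exact Submodule.smul_mem _ c hx
  set J := N * B with hJ
  have jb : J * B ≤ J := by rw [hJ, mul_assoc]; exact mul_le_mul_right bb _
  have bj : B * J ≤ J := by
    rw [hJ, ← mul_assoc]; exact (mul_le_mul_left bn _).trans jb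
  have jp : ∀ i, J ^ (i + 1) ≤ N ^ (i + 1) * B := by
    intro i
    induction i with
    | zero => simp [hJ]
    | succ i ih =>
      rw [pow_succ, pow_succ N (i + 1), mul_assoc _ N]
      refine (mul_le_mul_left ih _).trans ?_
      rw [mul_assoc]; exact mul_le_mul_right bj _
  have jj : J * J ≤ J := by
    have := jp 1
    rw [show (1 : ℕ) + 1 = 2 from rfl, pow_two, pow_two] at this
    exact this.trans (mul_le_mul_left hN _)
  have jx : J * Lsp k X ≤ J := (mul_le_mul_right lb _).trans jb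
  have xj : Lsp k X * J ≤ J := (mul_le_mul_left lb _).trans bj
  have cp : ∀ i, (J ⊔ Lsp k X) ^ (i + 1) ≤ J ⊔ Lsp k X ^ (i + 1) := by
    intro i
    induction i with
    | zero => simp
    | succ i ih =>
      rw [pow_succ]
      refine (mul_le_mul_left ih _).trans ?_
      rw [Submodule.sup_mul, Submodule.mul_sup, Submodule.mul_sup]
      refine sup_le (sup_le (jj.trans le_sup_left) (jx.trans le_sup_left)) (sup_le ?_ ?_)
      · refine le_trans ?_ (bj.trans le_sup_left)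
        refine mul_le_mul_left ?_ _
        clear ih
        induction i with
        | zero => simpa using lb
        | succ i ih => rw [pow_succ]; exact (mul_le_mul' ih lb).trans bb
      · rw [← pow_succ]; exact le_sup_right
  refine ⟨J ⊔ Lsp k X, ?_, le_sup_right, ?_, (m + 1) * (n + 1), ?_⟩
  · refine le_trans ?_ le_sup_left
    calc N = N * 1 := (mul_one N).symm
      _ ≤ N * B := mul_le_mul_right b1 _
  · have := cp 1
    rw [show (1 : ℕ) + 1 = 2 from rfl, pow_two, pow_two] at this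
    exact this.trans (sup_le_sup_left (Lsp_mul_le X) _)
  · have h1 := cp m
    rw [pow_succ (Lsp k X), hm, Submodule.bot_mul, sup_bot_eq] at h1
    have h2 := jp n
    rw [pow_succ N, hn, Submodule.bot_mul, Submodule.bot_mul] at h2
    rw [pow_mul]
    exact le_bot_iff.1 ((pow_le_pow_left' h1 _).trans h2)

theorem Unip.sup {H K : Subgroup Aˣ} (hH : Unip k H) (hK : Unip k K) (hn : ∀ g ∈ K, conjBy H g ≤ H) :
    Unip k (H ⊔ K) := by
  obtain ⟨n, hn'⟩ := hH
  obtain ⟨C, h1, h2, h3, m, hm⟩ := nil_sup (Lsp_mul_le H) hn' hK fun g hg => normS_Lsp (hn g hg)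
  exact Unip.of_le_sub (Lsp_sup_le h3 h1 h2) hm

/-- the normalizer condition for families -/
theorem exists_norm {W : Set (Subgroup Aˣ)} {G : Subgroup Aˣ} (hWG : ∀ B ∈ W, B ≤ G)
    (hWconj : ∀ B ∈ W, ∀ g ∈ G, conjBy B g ∈ W) {N L : Submodule k A} (hN : N * N ≤ N) (hL : L * L ≤ L)
    (hNL : N ≤ L) {n : ℕ} (hn : L ^ n = ⊥) {B₀ : Subgroup Aˣ} (h0 : B₀ ∈ W) (h1 : Lsp k B₀ ≤ L)
    (h2 : ¬ Lsp k B₀ ≤ N) :
    ∃ B ∈ W, Lsp k B ≤ L ∧ ¬ Lsp k B ≤ N ∧ ∀ g ∈ B, ∀ C ∈ W, Lsp k C ≤ N → Lsp k (conjBy C g) ≤ N := by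
  have Lp : ∀ j, L ^ (j + 1) ≤ L := by
    intro j
    induction j with
    | zero => simp
    | succ j ih => rw [pow_succ]; exact (mul_le_mul_left ih _).trans hL
  have key : ∀ j, (∃ B ∈ W, Lsp k B ≤ N ⊔ L ^ (j + 1) ∧ ¬ Lsp k B ≤ N) →
      (∃ B ∈ W, Lsp k B ≤ L ∧ ¬ Lsp k B ≤ N ∧ ∀ g ∈ B, ∀ C ∈ W, Lsp k C ≤ N → Lsp k (conjBy C g) ≤ N) ∨
      (∃ B ∈ W, Lsp k B ≤ N ⊔ L ^ (j + 2) ∧ ¬ Lsp k B ≤ N) := by
    rintro j ⟨B, b1, b2, b3⟩
    by_contra hc
    push Not at hc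
    obtain ⟨g, hg, C, c1, c2, c3⟩ := hc.1 B b1 (b2.trans (sup_le hNL (Lp j))) b3
    apply c3
    apply hc.2 _ (hWconj C c1 g (hWG B b1 hg))
    refine Lsp_le.2 ?_
    rintro _ ⟨a, ha, rfl⟩
    have ha' := c2 (sub_one_mem_Lsp ha)
    have m1 : (N ⊔ L ^ (j + 1)) * N ≤ N ⊔ L ^ (j + 2) := by
      rw [Submodule.sup_mul]
      refine sup_le_sup hN ?_
      rw [pow_succ _ (j + 1)]; exact mul_le_mul_right hNL _
    have m2 : (N ⊔ L ^ (j + 2)) * (N ⊔ L ^ (j + 1)) ≤ N ⊔ L ^ (j + 2) := by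
      rw [Submodule.sup_mul, Submodule.mul_sup]
      refine sup_le (sup_le (hN.trans le_sup_left) (le_trans ?_ le_sup_right)) (le_trans ?_ le_sup_right)
      · rw [pow_succ' _ (j + 1)]; exact mul_le_mul_left hNL _
      · refine (mul_le_mul_right (sup_le hNL (Lp j)) _).trans ?_
        rw [← pow_succ, pow_succ' _ (j + 2), pow_succ' _ (j + 1), ← mul_assoc]
        exact mul_le_mul_left hL _
    have e1 : (g : A) * ((a : A) - 1) ∈ N ⊔ L ^ (j + 2) := by
      have : (g : A) * ((a : A) - 1) = ((g : A) - 1) * ((a : A) - 1) + ((a : A) - 1) := by noncomm_ring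
      rw [this]
      exact Submodule.add_mem _ (m1 (Submodule.mul_mem_mul (b2 (sub_one_mem_Lsp hg)) ha'))
        (Submodule.mem_sup_left ha')
    have : ((MulAut.conj g).toMonoidHom a : A) - 1 = (g : A) * ((a : A) - 1) * (((g⁻¹ : Aˣ) : A) - 1) +
        (g : A) * ((a : A) - 1) := by
      simp [mul_sub, sub_mul]
    rw [this]
    exact Submodule.add_mem _ (m2 (Submodule.mul_mem_mul e1 (b2 (sub_one_mem_Lsp (B.inv_mem hg))))) e1
  by_contra hc
  have : ∀ j, ∃ B ∈ W, Lsp k B ≤ N ⊔ L ^ (j + 1) ∧ ¬ Lsp k B ≤ N := by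
    intro j
    induction j with
    | zero => exact ⟨B₀, h0, by simpa using h1.trans le_sup_right, h2⟩
    | succ j ih => exact (key j ih).resolve_left hc
  obtain ⟨B, -, b1, b2⟩ := this n
  rw [pow_succ, hn, Submodule.bot_mul, sup_bot_eq] at b1
  exact b2 b1

theorem unip_family [FiniteDimensional k A] {W : Set (Subgroup Aˣ)} {G : Subgroup Aˣ} (hWG : ∀ B ∈ W, B ≤ G)
    (hWW : ∀ B ∈ W, ∀ C ∈ W, Unip k (B ⊔ C)) (hWconj : ∀ B ∈ W, ∀ g ∈ G, conjBy B g ∈ W) :
    Unip k (⨆ B ∈ W, B) := by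
  -- good subalgebras
  let gen : Submodule k A → Submodule k A := fun L => Lsp k (⨆ B ∈ {B | B ∈ W ∧ Lsp k B ≤ L}, B)
  let Nil : Submodule k A → Prop := fun L => L * L ≤ L ∧ ∃ n, L ^ n = ⊥
  have gen_le : ∀ L, L * L ≤ L → gen L ≤ L := fun L hL => Lsp_biSup_le hL fun B hB => hB.2
  have le_gen : ∀ L, ∀ B ∈ W, Lsp k B ≤ L → Lsp k B ≤ gen L := fun L B h1 h2 =>
    Lsp_mono (le_iSup₂_of_le (f := fun B (_ : B ∈ {B | B ∈ W ∧ Lsp k B ≤ L}) => B) B ⟨h1, h2⟩ le_rfl)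
  have gen_mono : ∀ L L', L * L ≤ L → (∀ B ∈ W, Lsp k B ≤ L → Lsp k B ≤ L') → gen L ≤ gen L' :=
    fun L L' hL h => Lsp_biSup_le (Lsp_mul_le _) fun B hB => le_gen L' B hB.1 (h B hB.1 hB.2)
  have nil_gen : ∀ L, Nil L → Nil (gen L) := fun L ⟨h1, n, hn⟩ =>
    ⟨Lsp_mul_le _, n, le_bot_iff.1 (hn ▸ pow_le_pow_left' (gen_le L h1) n)⟩
  have main : ∀ d, ∀ N L₁ L₂ : Submodule k A, finrank k A - finrank k (gen N) = d → Nil N → Nil L₁ →
      Nil L₂ → gen N ≤ L₁ → gen N ≤ L₂ → ∃ L, Nil L ∧ gen L₁ ≤ L ∧ gen L₂ ≤ L := by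
    intro d
    induction d using Nat.strong_induction_on with
    | _ d ih =>
    intro N L₁ L₂ hd hN h1 h2 n1 n2
    by_cases c1 : ∀ B ∈ W, Lsp k B ≤ L₁ → Lsp k B ≤ gen N
    · exact ⟨L₂, h2, (Lsp_biSup_le (Lsp_mul_le _) fun B hB => c1 B hB.1 hB.2).trans n2, gen_le _ h2.1⟩
    by_cases c2 : ∀ B ∈ W, Lsp k B ≤ L₂ → Lsp k B ≤ gen N
    · exact ⟨L₁, h1, gen_le _ h1.1, (Lsp_biSup_le (Lsp_mul_le _) fun B hB => c2 B hB.1 hB.2).trans n1⟩
    push Not at c1 c2
    obtain ⟨B₁, b1, b2, b3⟩ := c1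
    obtain ⟨B₂, b4, b5, b6⟩ := c2
    obtain ⟨m1, hm1⟩ := h1.2
    obtain ⟨m2, hm2⟩ := h2.2
    obtain ⟨A₁, a1, a2, a3, a4⟩ := exists_norm hWG hWconj (nil_gen N hN).1 h1.1 n1 hm1 b1 b2 b3
    obtain ⟨A₂, a5, a6, a7, a8⟩ := exists_norm hWG hWconj (nil_gen N hN).1 h2.1 n2 hm2 b4 b5 b6
    have nrm : ∀ {B : Subgroup Aˣ}, (∀ g ∈ B, ∀ C ∈ W, Lsp k C ≤ gen N → Lsp k (conjBy C g) ≤ gen N) →
        ∀ g ∈ B, NormS g (gen N) := by
      intro B hB g hg x hx
      have : Lsp k (conjBy (⨆ B ∈ {B | B ∈ W ∧ Lsp k B ≤ N}, B) g) ≤ gen N := by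
        rw [conjBy_iSup]
        refine Lsp_iSup_le (Lsp_mul_le _) fun C => ?_
        rw [conjBy_iSup]
        exact Lsp_iSup_le (Lsp_mul_le _) fun hC => hB g hg C hC.1 (le_gen N C hC.1 hC.2)
      induction hx using Submodule.span_induction with
      | mem x hx =>
        obtain ⟨a, ha, rfl⟩ := hx
        have := this (sub_one_mem_Lsp (k := k) (conj_mem_conjBy ha g))
        convert this using 1
        simp [mul_sub, sub_mul]
      | zero => simp
      | add x y _ _ hx hy => rw [mul_add, add_mul]; exact Submodule.add_mem _ hx hy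
      | smul c x _ hx => rw [mul_smul_comm, smul_mul_assoc]; exact Submodule.smul_mem _ c hx
    obtain ⟨m, hm⟩ := (nil_gen N hN).2
    obtain ⟨C, e1, e2, e3, e4⟩ := nil_sup (nil_gen N hN).1 hm (hWW A₁ a1 A₂ a5) (by
      intro g hg
      rw [sup_eq_iSup] at hg
      induction hg using Subgroup.iSup_induction' with
      | hp i x hx => cases i; exacts [nrm a8 x hx, nrm a4 x hx]
      | h1 => exact NormS.one _
      | hmul x y _ _ hx hy => exact hx.mul hy)
    have step : ∀ (P Q : Submodule k A) (B : Subgroup Aˣ), B ∈ W → Nil P → Nil Q → gen N ≤ P → gen N ≤ Q →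
        Lsp k B ≤ P → Lsp k B ≤ Q → ¬ Lsp k B ≤ gen N → ∃ L, Nil L ∧ gen P ≤ L ∧ gen Q ≤ L := by
      intro P Q B hB hP hQ p1 q1 p2 q2 hnB
      have hPQ : Nil (P ⊓ Q) := by
        obtain ⟨n, hn⟩ := hP.2
        exact ⟨le_inf ((mul_le_mul' inf_le_left inf_le_left).trans hP.1)
          ((mul_le_mul' inf_le_right inf_le_right).trans hQ.1), n,
          le_bot_iff.1 (hn ▸ pow_le_pow_left' inf_le_left n)⟩
      have lt : gen N < gen (P ⊓ Q) := by
        refine lt_of_le_of_ne (gen_mono _ _ hN.1 fun D h1 h2 => (le_gen N D h1 h2).trans (le_inf p1 q1)) ?_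
        intro e; exact hnB (e ▸ le_gen _ B hB (le_inf p2 q2))
      have := Submodule.finrank_lt_finrank_of_lt lt
      have h3 := Submodule.finrank_le (gen (P ⊓ Q))
      exact ih _ (by omega) (P ⊓ Q) P Q rfl hPQ hP hQ ((gen_le _ hPQ.1).trans inf_le_left)
        ((gen_le _ hPQ.1).trans inf_le_right)
    obtain ⟨L₃, l1, l2, l3⟩ := step L₁ C A₁ a1 h1 ⟨e3, e4⟩ n1 e1 a2 ((Lsp_mono le_sup_left).trans e2) a3
    obtain ⟨L₄, l4, l5, l6⟩ := step L₃ L₂ A₂ a5 l1 h2
      ((gen_mono _ _ hN.1 fun D h1 h2 => (le_gen N D h1 h2).trans e1).trans l3) n2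
      ((le_gen C A₂ a5 ((Lsp_mono le_sup_right).trans e2)).trans l3) a6 a7
    exact ⟨L₄, l4, (gen_mono _ _ h1.1 fun D d1 d2 => (le_gen _ D d1 d2).trans l2).trans l5, l6⟩
  have nb : Nil ⊥ := ⟨by simp, 1, by simp⟩
  obtain ⟨L, hL, hmax⟩ := (WellFounded.has_min (wellFounded_gt (α := Submodule k A))
    {L | Nil L ∧ gen L = L} ⟨gen ⊥, nil_gen _ nb, le_antisymm (gen_le _ (Lsp_mul_le _))
      (gen_mono _ _ nb.1 fun B h1 h2 => le_gen _ B h1 h2)⟩)
  obtain ⟨n, hn⟩ := hL.1.2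
  refine Unip.of_le_sub (Lsp_biSup_le hL.1.1 fun B hB => ?_) hn
  have hB' : Nil (Lsp k B) := ⟨Lsp_mul_le _, by simpa [Unip] using hWW B hB B hB⟩
  obtain ⟨L', l1, l2, l3⟩ := main _ ⊥ L (Lsp k B) rfl nb hL.1 hB' ((gen_le _ nb.1).trans bot_le)
    ((gen_le _ nb.1).trans bot_le)
  have e1 : L ≤ gen L' := by
    rw [← hL.2]; exact gen_mono _ _ hL.1.1 fun D d1 d2 => (le_gen _ D d1 d2).trans l2
  have e2 : L = gen L' := by
    by_contra hne
    exact hmax (gen L') ⟨nil_gen _ l1, le_antisymm (gen_le _ (Lsp_mul_le _))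
      (gen_mono _ _ l1.1 fun B h1 h2 => le_gen _ B h1 h2)⟩ (lt_of_le_of_ne e1 hne)
  rw [e2]
  exact le_gen _ B hB ((le_gen _ B hB le_rfl).trans l3)

theorem conjBy_biSup {G : Type*} [Group G] {W : Set (Subgroup G)} {g : G}
    (h1 : ∀ B ∈ W, conjBy B g ∈ W) (h2 : ∀ B ∈ W, conjBy B g⁻¹ ∈ W) :
    conjBy (⨆ B ∈ W, B) g = ⨆ B ∈ W, B := by
  have : ∀ g : G, (∀ B ∈ W, conjBy B g ∈ W) → conjBy (⨆ B ∈ W, B) g ≤ ⨆ B ∈ W, B := by
    intro g h
    rw [conjBy_iSup]
    refine iSup_le fun B => ?_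
    rw [conjBy_iSup]
    exact iSup_le fun hB => le_iSup₂_of_le (f := fun B (_ : B ∈ W) => B) _ (h B hB) le_rfl
  refine le_antisymm (this g h1) ?_
  have h3 := conjBy_mono (this g⁻¹ h2) g
  rwa [conjBy_conjBy_inv] at h3

variable (k) in
/-- no non-trivial unipotent normal subgroup -/
def NU (G : Subgroup Aˣ) : Prop := ∀ U ≤ G, (∀ g ∈ G, conjBy U g = U) → Unip k U → U = ⊥

theorem NU.family [FiniteDimensional k A] {G : Subgroup Aˣ} (hG : NU k G) {W : Set (Subgroup Aˣ)}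
    (hWG : ∀ B ∈ W, B ≤ G) (hWW : ∀ B ∈ W, ∀ C ∈ W, Unip k (B ⊔ C))
    (hWconj : ∀ B ∈ W, ∀ g ∈ G, conjBy B g ∈ W) {B : Subgroup Aˣ} (hB : B ∈ W) : B = ⊥ := by
  have := hG _ (iSup₂_le hWG) (fun g hg => conjBy_biSup (fun B hB => hWconj B hB g hg)
    (fun B hB => hWconj B hB _ (G.inv_mem hg))) (unip_family hWG hWW hWconj)
  exact le_bot_iff.1 (this ▸ le_iSup₂_of_le (f := fun B (_ : B ∈ W) => B) B hB le_rfl)

theorem Unip.conj {H : Subgroup Aˣ} (h : Unip k H) (g : Aˣ) : Unip k (conjBy H g) := by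
  rw [unip_iff_list] at h ⊢
  obtain ⟨n, hn⟩ := h
  refine ⟨n, fun l h1 h2 => ?_⟩
  have := hn (l.map fun x => g⁻¹ * x * g) (by
    intro x hx
    obtain ⟨y, hy, rfl⟩ := List.mem_map.1 hx
    exact mem_conjBy.1 (h1 y hy)) (by simpa using h2)
  have e : ∀ l : List Aˣ, (l.map fun g : Aˣ => (g : A) - 1).prod =
      g * ((l.map fun x => g⁻¹ * x * g).map fun g : Aˣ => (g : A) - 1).prod * (g⁻¹ : Aˣ) := by
    intro l
    induction l with
    | nil => simp
    | cons x l ih =>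
      rw [List.map_cons, List.map_cons, List.map_cons, List.prod_cons, List.prod_cons, ih]
      simp [mul_sub, sub_mul, mul_assoc]
  rw [e, this]; simp

theorem NU.normal [FiniteDimensional k A] {G N : Subgroup Aˣ} (hG : NU k G) (hN : N ≤ G)
    (hn : ∀ g ∈ G, conjBy N g = N) : NU k N := by
  intro U hU h1 h2
  refine hG.family (W := {V | ∃ g ∈ G, V = conjBy U g}) ?_ ?_ ?_ ⟨1, G.one_mem, (conjBy_one _).symm⟩
  · rintro _ ⟨g, hg, rfl⟩; exact conjBy_le_of_mem (hU.trans hN) hg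
  · rintro _ ⟨g, hg, rfl⟩ _ ⟨h, hh, rfl⟩
    refine (h2.conj g).sup (h2.conj h) fun x hx => ?_
    have hx' : x ∈ N := hn h hh ▸ conjBy_mono hU h hx
    have : g⁻¹ * x * g ∈ N := by rw [← mem_conjBy, hn g hg]; exact hx'
    rw [conjBy_conjBy, show x * g = g * (g⁻¹ * x * g) by group, ← conjBy_conjBy, h1 _ this]
  · rintro _ ⟨g, hg, rfl⟩ h hh
    exact ⟨h * g, G.mul_mem hh hg, conjBy_conjBy _ _ _⟩

section End
variable {M : Type*} [AddCommGroup M] [Module k M]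

theorem isUnipotentOn_iff {H : Subgroup (LinearMap.GeneralLinearGroup k M)} :
    IsUnipotentOn H ↔ Unip k H := by
  rw [unip_iff_list, IsUnipotentOn]
  simp only [bind_pure_comp, List.map_eq_map, List.map_map]
  rfl

theorem nu_of_irreducible {G : Subgroup (LinearMap.GeneralLinearGroup k M)} (hG : IsIrreducibleFor G) :
    NU k G := by
  classical
  rintro U hU h1 h2
  obtain ⟨m, hm⟩ := hG.1
  have hn := Nat.find_spec h2
  have n0 : Nat.find h2 ≠ 0 := by
    intro e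
    rw [e, pow_zero] at hn
    have : (1 : Module.End k M) ∈ (⊥ : Submodule k (Module.End k M)) := hn ▸ Submodule.one_le.1 le_rfl
    exact hm (by simpa using congrArg (fun f : Module.End k M => f m) ((Submodule.mem_bot k).1 this))
  obtain ⟨n, e⟩ := Nat.exists_eq_succ_of_ne_zero n0
  obtain ⟨x, hx, x0⟩ := (Submodule.ne_bot_iff _).1 (Nat.find_min h2 (m := n) (by omega))
  rcases hG.2 (fixedSubmodule U) (by
    intro g hg w hw
    simp only [fixedSubmodule, Submodule.mem_iInf, LinearMap.mem_ker] at hw ⊢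
    intro u hu
    have := hw (g⁻¹ * u * g) (by rw [← mem_conjBy, h1 g hg]; exact hu)
    have h3 : ((u : Module.End k M) - 1) * g = g * (((g⁻¹ * u * g : (Module.End k M)ˣ) : Module.End k M) - 1) := by
      simp [mul_sub, sub_mul, ← mul_assoc]
    have h4 := congrArg (fun f : Module.End k M => f w) h3
    simp only [Module.End.mul_apply] at h4
    rw [h4, this, map_zero]) with h | h
  · exfalso
    apply x0
    ext v
    have : x v ∈ fixedSubmodule U := by
      simp only [fixedSubmodule, Submodule.mem_iInf, LinearMap.mem_ker]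
      intro u hu
      have := Submodule.mul_mem_mul (sub_one_mem_Lsp (k := k) hu) hx
      rw [← pow_succ', ← Nat.succ_eq_add_one, ← e, hn, Submodule.mem_bot] at this
      exact congrArg (fun f : Module.End k M => f v) this
    rw [h] at this
    simpa using this
  · rw [eq_bot_iff]
    intro u hu
    rw [Subgroup.mem_bot]
    ext v
    have : v ∈ fixedSubmodule U := h ▸ Submodule.mem_top
    simp only [fixedSubmodule, Submodule.mem_iInf, LinearMap.mem_ker] at this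
    simpa [sub_eq_zero] using this u hu

end End

end Cfsg.Agent.H29
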