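import Mathlib
import Cfsg.Prelude.Def_RootSubgroups
import Cfsg.Agent.H29.Unip

/-! Quadratic pairs I: the set `T` of square-zero directions, minimal rank, the nilpotent case. -/

set_option autoImplicit false
open Cfsg Module

namespace Cfsg.Agent.H29

section Ring
variable {A : Type*} [Ring A]

/-- the unit `1 + x` for `x² = 0` -/
def U1 (x : A) (hx : x * x = 0) : Aˣ :=
  ⟨1 + x, 1 - x, by rw [add_mul, mul_sub, mul_sub, hx]; simp, by rw [sub_mul, mul_add, mul_add, hx]; simp⟩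

@[simp] theorem U1_val (x : A) (hx : x * x = 0) : (U1 x hx : A) = 1 + x := rfl
@[simp] theorem U1_inv (x : A) (hx : x * x = 0) : ((U1 x hx)⁻¹ : Aˣ).val = 1 - x := rfl

theorem inv_val_of_eq {g : Aˣ} {x : A} (hx : x * x = 0) (h : (g : A) = 1 + x) : ((g⁻¹ : Aˣ) : A) = 1 - x := by
  rw [show g = U1 x hx from Units.ext h]; rfl

end Ring

variable {k : Type*} [Field k] {M : Type*} [AddCommGroup M] [Module k M]

/-- square-zero endomorphisms whose scalar family lies in `G` -/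
def QT (G : Subgroup (End k M)ˣ) : Set (End k M) :=
  {x | x * x = 0 ∧ ∀ c : k, ∃ g ∈ G, (g : End k M) = 1 + c • x}

/-- rank -/
noncomputable def rk (x : End k M) : ℕ := finrank k (LinearMap.range x)

/-- the non-zero members of `QT` of least rank -/
def QTd (G : Subgroup (End k M)ˣ) : Set (End k M) :=
  {x | x ∈ QT G ∧ x ≠ 0 ∧ ∀ y ∈ QT G, y ≠ 0 → rk x ≤ rk y}

variable {G : Subgroup (End k M)ˣ}

theorem QT.sq {x : End k M} (h : x ∈ QT G) : x * x = 0 := h.1

theorem QT.sq' {x : End k M} (h : x ∈ QT G) (y : End k M) : x * (x * y) = 0 := by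
  rw [← mul_assoc, h.1, zero_mul]

theorem QT.U1_mem {x : End k M} (h : x ∈ QT G) : U1 x h.1 ∈ G := by
  obtain ⟨g, hg, e⟩ := h.2 1
  rwa [show U1 x h.1 = g from Units.ext (by simp [e])]

theorem QT.mem_of_eq {x : End k M} (h : x ∈ QT G) {g : (End k M)ˣ} (e : (g : End k M) = 1 + x) : g ∈ G := by
  rw [show g = U1 x h.1 from Units.ext e]; exact QT.U1_mem h

theorem QT.zero : (0 : End k M) ∈ QT G := ⟨by simp, fun c => ⟨1, G.one_mem, by simp⟩⟩

theorem QT.smul {x : End k M} (h : x ∈ QT G) (c : k) : c • x ∈ QT G :=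
  ⟨by simp [h.1], fun c' => by simpa [smul_smul] using h.2 (c' * c)⟩

theorem QT.neg {x : End k M} (h : x ∈ QT G) : -x ∈ QT G := by simpa using QT.smul h (-1)

theorem QT.of_smul {x : End k M} {c : k} (hc : c ≠ 0) (h : c • x ∈ QT G) : x ∈ QT G := by
  simpa [smul_smul, hc] using QT.smul h c⁻¹

theorem QT.conj {x : End k M} (h : x ∈ QT G) {g : (End k M)ˣ} (hg : g ∈ G) :
    (g : End k M) * x * ((g⁻¹ : (End k M)ˣ) : End k M) ∈ QT G := by
  refine ⟨?_, fun c => ?_⟩
  · simp [mul_assoc, QT.sq' h]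
  · obtain ⟨u, hu, e⟩ := h.2 c
    exact ⟨g * u * g⁻¹, G.mul_mem (G.mul_mem hg hu) (G.inv_mem hg), by simp [e, mul_add, add_mul]⟩

theorem QT.conj' {x y : End k M} (h : x ∈ QT G) (hy : y ∈ QT G) : (1 + y) * x * (1 - y) ∈ QT G :=
  QT.conj h (QT.U1_mem hy)

theorem QT.add {x y : End k M} (hx : x ∈ QT G) (hy : y ∈ QT G) (h1 : x * y = 0) (h2 : y * x = 0) :
    x + y ∈ QT G := by
  refine ⟨by simp [mul_add, add_mul, hx.1, hy.1, h1, h2], fun c => ?_⟩
  obtain ⟨u, hu, e⟩ := hx.2 c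
  obtain ⟨v, hv, e'⟩ := hy.2 c
  exact ⟨u * v, G.mul_mem hu hv, by simp [e, e', mul_add, add_mul, h1, add_assoc, add_comm (c • y)]⟩

theorem QT.sub {x y : End k M} (hx : x ∈ QT G) (hy : y ∈ QT G) (h1 : x * y = 0) (h2 : y * x = 0) :
    x - y ∈ QT G := by
  rw [sub_eq_add_neg]; exact QT.add hx (QT.neg hy) (by simp [h1]) (by simp [h2])

theorem comm_val {x y : End k M} (hx : x * x = 0) (hy : y * y = 0) (h1 : x * y * x = 0) (h2 : y * x * y = 0) :
    (1 + x) * (1 + y) * (1 - x) * (1 - y) = 1 + (x * y - y * x) := by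
  have : (1 + x) * (1 + y) * (1 - x) * (1 - y) = 1 + (x * y - y * x) - x * x - y * y - x * y * x +
    y * x * y + x * x * y - x * (y * y) + x * (y * x * y) := by noncomm_ring
  rw [this, hx, hy, h1, h2]; simp

theorem QT.comm {x y : End k M} (hx : x ∈ QT G) (hy : y ∈ QT G) (h1 : x * y * x = 0) (h2 : y * x * y = 0) :
    x * y - y * x ∈ QT G := by
  refine ⟨?_, fun c => ?_⟩
  · have : (x * y - y * x) * (x * y - y * x) = x * y * x * y - x * (y * y) * x - y * (x * x) * y +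
      y * x * y * x := by noncomm_ring
    rw [this, hx.1, hy.1, h1, h2]; simp
  · have hc := QT.smul hx c
    refine ⟨U1 _ hc.1 * U1 _ hy.1 * (U1 _ hc.1)⁻¹ * (U1 _ hy.1)⁻¹, G.mul_mem (G.mul_mem (G.mul_mem
      (QT.U1_mem hc) (QT.U1_mem hy)) (G.inv_mem (QT.U1_mem hc))) (G.inv_mem (QT.U1_mem hy)), ?_⟩
    simp only [Units.val_mul, U1_val, U1_inv]
    rw [comm_val hc.1 hy.1 (by simp [h1]) (by simp [h2])]
    simp [smul_sub]

theorem QT.mono {H : Subgroup (End k M)ˣ} (h : H ≤ G) {x : End k M} (hx : x ∈ QT H) : x ∈ QT G :=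
  ⟨hx.1, fun c => by obtain ⟨g, hg, e⟩ := hx.2 c; exact ⟨g, h hg, e⟩⟩

theorem ker_le_mul (u a : End k M) : LinearMap.ker a ≤ LinearMap.ker (u * a) := LinearMap.ker_le_ker_comp _ _
theorem range_mul_le (a u : End k M) : LinearMap.range (a * u) ≤ LinearMap.range a :=
  LinearMap.range_comp_le_range _ _

theorem mul_eq_zero_iff_range_le {x y : End k M} : x * y = 0 ↔ LinearMap.range y ≤ LinearMap.ker x :=
  LinearMap.range_le_ker_iff.symm

theorem mul_eq_zero_of_ker_le {a x y : End k M} (h : LinearMap.ker a ≤ LinearMap.ker x) (h1 : a * y = 0) :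
    x * y = 0 := mul_eq_zero_iff_range_le.2 ((mul_eq_zero_iff_range_le.1 h1).trans h)

theorem mul_eq_zero_of_range_le {a x y : End k M} (h : LinearMap.range x ≤ LinearMap.range a) (h1 : y * a = 0) :
    y * x = 0 := mul_eq_zero_iff_range_le.2 (h.trans (mul_eq_zero_iff_range_le.1 h1))

variable (G) in
/-- the space `𝔢(a)` -/
def EE (a : End k M) : Submodule k (End k M) where
  carrier := {x | x ∈ QT G ∧ LinearMap.ker a ≤ LinearMap.ker x ∧ LinearMap.range x ≤ LinearMap.range a ∧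
    a * x = 0}
  add_mem' := by
    rintro x y ⟨x1, x2, x3, x4⟩ ⟨y1, y2, y3, y4⟩
    refine ⟨QT.add x1 y1 (mul_eq_zero_of_ker_le x2 y4) (mul_eq_zero_of_ker_le y2 x4), fun v hv => ?_, ?_,
      by rw [mul_add, x4, y4, add_zero]⟩
    · have := x2 hv; have := y2 hv; simp_all
    · rintro _ ⟨v, rfl⟩
      exact Submodule.add_mem _ (x3 ⟨v, rfl⟩) (y3 ⟨v, rfl⟩)
  zero_mem' := ⟨QT.zero, by simp, by simp, by simp⟩
  smul_mem' := by
    rintro c x ⟨x1, x2, x3, x4⟩
    refine ⟨QT.smul x1 c, fun v hv => ?_, ?_, by simp [x4]⟩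
    · have := x2 hv; simp_all
    · rintro _ ⟨v, rfl⟩
      exact Submodule.smul_mem _ c (x3 ⟨v, rfl⟩)

theorem EE.mul {a x y : End k M} (hx : x ∈ EE G a) (hy : y ∈ EE G a) : x * y = 0 :=
  mul_eq_zero_of_ker_le hx.2.1 hy.2.2.2

theorem EE.mk {a x : End k M} (ha : a * a = 0) (h1 : x ∈ QT G) (h2 : LinearMap.ker a ≤ LinearMap.ker x)
    (h3 : LinearMap.range x ≤ LinearMap.range a) : x ∈ EE G a :=
  ⟨h1, h2, h3, mul_eq_zero_of_range_le h3 ha⟩

theorem EE.mk' {a x u v : End k M} (ha : a * a = 0) (h1 : x ∈ QT G) (h2 : x = u * a) (h3 : x = a * v) :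
    x ∈ EE G a := EE.mk ha h1 (h2 ▸ ker_le_mul _ _) (h3 ▸ range_mul_le _ _)

theorem EE.self {a : End k M} (ha : a ∈ QT G) : a ∈ EE G a := EE.mk ha.1 ha le_rfl le_rfl

variable (G) in
/-- the group `E(a) = 1 + 𝔢(a)` -/
def EG (a : End k M) : Subgroup (End k M)ˣ where
  carrier := {g | (g : End k M) - 1 ∈ EE G a}
  mul_mem' := fun {g h} hg hh => sub_one_mul_mem (L := EE G a) (g := g) (h := h)
    (Submodule.mul_le.2 fun x hx y hy => by rw [EE.mul hx hy]; exact Submodule.zero_mem _) hg hh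
  one_mem' := by simp
  inv_mem' := by
    intro g hg
    have := inv_val_of_eq (g := g) hg.1.1 (by simp)
    change ((g⁻¹ : (End k M)ˣ) : End k M) - 1 ∈ EE G a
    rw [this]
    simpa using (EE G a).neg_mem hg

theorem mem_EG {a : End k M} {g : (End k M)ˣ} : g ∈ EG G a ↔ (g : End k M) - 1 ∈ EE G a := Iff.rfl

theorem U1_mem_EG {a x : End k M} (hx : x ∈ EE G a) : U1 x hx.1.1 ∈ EG G a := by simpa [mem_EG] using hx

theorem EG_ex {a : End k M} {g : (End k M)ˣ} (h : g ∈ EG G a) : ∃ x, ∃ hx : x ∈ EE G a, g = U1 x hx.1.1 :=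
  ⟨_, h, Units.ext (by simp)⟩

theorem U1_eq_one {x : End k M} (hx : x * x = 0) : U1 x hx = 1 ↔ x = 0 := by
  simp [Units.ext_iff]

theorem EG_le (a : End k M) : EG G a ≤ G := fun g hg => QT.mem_of_eq hg.1 (by simp)

theorem EG_comm (a : End k M) : IsMulCommutative (EG G a) := by
  refine isMulCommutative_of_comm fun g hg h hh => ?_
  obtain ⟨x, hx, rfl⟩ := EG_ex hg; obtain ⟨y, hy, rfl⟩ := EG_ex hh
  ext1; simp [mul_add, add_mul, EE.mul hx hy, EE.mul hy hx, add_assoc, add_comm x y]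

theorem Lsp_EG_le (a : End k M) : Lsp k (EG G a) ≤ EE G a := Lsp_le.2 fun _ hg => hg

theorem EE_conj_le {a x : End k M} {g : (End k M)ˣ} (hg : g ∈ G) (hx : x ∈ EE G a) :
    (g : End k M) * x * ((g⁻¹ : (End k M)ˣ) : End k M) ∈ EE G ((g : End k M) * a * ((g⁻¹ : (End k M)ˣ) : End k M)) := by
  refine ⟨QT.conj hx.1 hg, fun v hv => ?_, ?_, ?_⟩
  · simp only [LinearMap.mem_ker, End.mul_apply] at hv ⊢
    have : a ((g⁻¹ : (End k M)ˣ).val v) = 0 := by
      have := congrArg (g⁻¹ : (End k M)ˣ).val hv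
      rwa [← End.mul_apply, Units.inv_mul, End.one_apply, map_zero] at this
    rw [hx.2.1 this, map_zero]
  · rintro _ ⟨v, rfl⟩
    obtain ⟨w, hw⟩ := hx.2.2.1 ⟨(g⁻¹ : (End k M)ˣ).val v, rfl⟩
    refine ⟨g.val w, ?_⟩
    simp only [End.mul_apply, ← hw]
    rw [← End.mul_apply (g⁻¹ : (End k M)ˣ).val, Units.inv_mul, End.one_apply]
  · have := hx.2.2.2
    simp only [mul_assoc, Units.inv_mul_cancel_left]
    rw [← mul_assoc a, this]; simp

theorem conjBy_EG {a : End k M} {g : (End k M)ˣ} (hg : g ∈ G) :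
    conjBy (EG G a) g = EG G ((g : End k M) * a * ((g⁻¹ : (End k M)ˣ) : End k M)) := by
  have : ∀ (a : End k M) (g : (End k M)ˣ), g ∈ G →
      conjBy (EG G a) g ≤ EG G ((g : End k M) * a * ((g⁻¹ : (End k M)ˣ) : End k M)) := by
    rintro a g hg _ ⟨u, hu, rfl⟩
    have := EE_conj_le hg hu
    rw [mem_EG]
    convert this using 1
    simp [mul_sub, sub_mul]
  refine le_antisymm (this a g hg) ?_
  have h2 := conjBy_mono (this ((g : End k M) * a * ((g⁻¹ : (End k M)ˣ) : End k M)) g⁻¹ (G.inv_mem hg)) g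
  rw [conjBy_conjBy_inv] at h2
  convert h2
  simp [mul_assoc]

variable [FiniteDimensional k M]

theorem rk_add_ker (x : End k M) : rk x + finrank k (LinearMap.ker x) = finrank k M :=
  LinearMap.finrank_range_add_finrank_ker x

theorem rk_mul_le_left (x y : End k M) : rk (x * y) ≤ rk x := Submodule.finrank_mono (range_mul_le x y)
theorem rk_mul_le_right (x y : End k M) : rk (x * y) ≤ rk y := by
  have := Submodule.finrank_mono (ker_le_mul x y)
  have h1 := rk_add_ker (x * y); have h2 := rk_add_ker y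
  omega

theorem rk_conj (x : End k M) (g : (End k M)ˣ) : rk ((g : End k M) * x * ((g⁻¹ : (End k M)ˣ) : End k M)) = rk x := by
  refine le_antisymm ((rk_mul_le_left _ _).trans (rk_mul_le_right _ _)) ?_
  calc rk x = rk (((g⁻¹ : (End k M)ˣ) : End k M) * ((g : End k M) * x * ((g⁻¹ : (End k M)ˣ) : End k M)) * (g : End k M)) := by
        simp [mul_assoc]
    _ ≤ _ := (rk_mul_le_left _ _).trans (rk_mul_le_right _ _)

theorem rk_add_le (x y : End k M) : rk (x + y) ≤ rk x + rk y :=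
  (Submodule.finrank_mono (by
    rintro _ ⟨v, rfl⟩
    exact Submodule.add_mem_sup ⟨v, rfl⟩ ⟨v, rfl⟩)).trans (Submodule.finrank_add_le_finrank_add_finrank _ _)

theorem rk_neg (x : End k M) : rk (-x) = rk x := by rw [rk, LinearMap.range_neg, rk]

theorem QTd.of_le {a x : End k M} (ha : a ∈ QTd G) (hx : x ∈ QT G) (x0 : x ≠ 0) (h : rk x ≤ rk a) :
    x ∈ QTd G := ⟨hx, x0, fun y hy y0 => h.trans (ha.2.2 y hy y0)⟩

theorem QTd.rk_eq {a x : End k M} (ha : a ∈ QTd G) (hx : x ∈ QTd G) : rk a = rk x :=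
  le_antisymm (ha.2.2 x hx.1 hx.2.1) (hx.2.2 a ha.1 ha.2.1)

theorem QTd.ker_eq {a x : End k M} (ha : a ∈ QTd G) (hx : x ∈ QT G) (x0 : x ≠ 0)
    (h : LinearMap.ker a ≤ LinearMap.ker x) : LinearMap.ker a = LinearMap.ker x := by
  have := ha.2.2 x hx x0
  have h1 := rk_add_ker a; have h2 := rk_add_ker x
  exact Submodule.eq_of_le_of_finrank_le h (by omega)

theorem QTd.range_eq {a x : End k M} (ha : a ∈ QTd G) (hx : x ∈ QT G) (x0 : x ≠ 0)
    (h : LinearMap.range x ≤ LinearMap.range a) : LinearMap.range x = LinearMap.range a :=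
  Submodule.eq_of_le_of_finrank_le h (ha.2.2 x hx x0)

theorem QTd.conj {a : End k M} (ha : a ∈ QTd G) {g : (End k M)ˣ} (hg : g ∈ G) :
    (g : End k M) * a * ((g⁻¹ : (End k M)ˣ) : End k M) ∈ QTd G :=
  QTd.of_le ha (QT.conj ha.1 hg) (by simpa using ha.2.1) (rk_conj _ _).le

theorem QTd.conj' {a y : End k M} (ha : a ∈ QTd G) (hy : y ∈ QT G) : (1 + y) * a * (1 - y) ∈ QTd G :=
  QTd.conj ha (QT.U1_mem hy)

theorem EE.mem_QTd {a x : End k M} (ha : a ∈ QTd G) (hx : x ∈ EE G a) (x0 : x ≠ 0) : x ∈ QTd G :=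
  QTd.of_le ha hx.1 x0 (Submodule.finrank_mono hx.2.2.1)

theorem EE.ker_eq {a x : End k M} (ha : a ∈ QTd G) (hx : x ∈ EE G a) (x0 : x ≠ 0) :
    LinearMap.ker x = LinearMap.ker a := (QTd.ker_eq ha hx.1 x0 hx.2.1).symm

theorem EE.range_eq {a x : End k M} (ha : a ∈ QTd G) (hx : x ∈ EE G a) (x0 : x ≠ 0) :
    LinearMap.range x = LinearMap.range a := QTd.range_eq ha hx.1 x0 hx.2.2.1

theorem EE_eq_of {a x : End k M} (ha : a * a = 0) (h1 : LinearMap.ker x = LinearMap.ker a)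
    (h2 : LinearMap.range x = LinearMap.range a) : EE G x = EE G a := by
  have hx : x * x = 0 := mul_eq_zero_of_ker_le h1.ge (mul_eq_zero_of_range_le h2.le ha)
  ext y
  exact ⟨fun h => EE.mk ha h.1 (h1 ▸ h.2.1) (h2 ▸ h.2.2.1), fun h => EE.mk hx h.1 (h1 ▸ h.2.1) (h2 ▸ h.2.2.1)⟩

theorem EE.eq {a x : End k M} (ha : a ∈ QTd G) (hx : x ∈ EE G a) (x0 : x ≠ 0) : EE G x = EE G a :=
  EE_eq_of ha.1.1 (EE.ker_eq ha hx x0) (EE.range_eq ha hx x0)

theorem EG_eq_iff {a b : End k M} : EG G a = EG G b ↔ EE G a = EE G b := by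
  constructor
  · intro h
    ext x
    constructor
    · intro hx; have := U1_mem_EG hx; rw [h] at this; simpa [mem_EG] using this
    · intro hx; have := U1_mem_EG hx; rw [← h] at this; simpa [mem_EG] using this
  · intro h; ext g; rw [mem_EG, mem_EG, h]

theorem EG.eq {a x : End k M} (ha : a ∈ QTd G) (hx : x ∈ EE G a) (x0 : x ≠ 0) : EG G x = EG G a :=
  EG_eq_iff.2 (EE.eq ha hx x0)

theorem EG_ne_bot {a : End k M} (ha : a ∈ QTd G) : EG G a ≠ ⊥ := by
  intro h
  have := U1_mem_EG (EE.self ha.1)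
  rw [h, Subgroup.mem_bot, U1_eq_one] at this
  exact ha.2.1 this

theorem sub_one_mem_QT {σ : (End k M)ˣ} : σ ∈ quadraticElements G ↔
    (σ : End k M) - 1 ∈ QT G ∧ (σ : End k M) - 1 ≠ 0 := by
  constructor
  · rintro ⟨h1, ⟨h2, h3⟩, h4⟩
    refine ⟨⟨h2, fun c => ⟨U1 (c • ((σ : End k M) - 1)) (by simp [h2]), h4 ⟨c, rfl⟩, rfl⟩⟩, h3⟩
  · rintro ⟨h1, h2⟩
    exact ⟨QT.mem_of_eq h1 (by simp), ⟨h1.1, h2⟩, fun τ ⟨c, hc⟩ => QT.mem_of_eq (QT.smul h1 c) hc⟩

theorem U1_mem_quad {x : End k M} (hx : x ∈ QT G) (x0 : x ≠ 0) : U1 x hx.1 ∈ quadraticElements G :=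
  sub_one_mem_QT.2 (by simpa using ⟨hx, x0⟩)

theorem sub_one_mem_QTd {σ : (End k M)ˣ} : σ ∈ minimalQuadraticElements G ↔ (σ : End k M) - 1 ∈ QTd G := by
  constructor
  · rintro ⟨h1, h2⟩
    refine ⟨(sub_one_mem_QT.1 h1).1, (sub_one_mem_QT.1 h1).2, fun y hy y0 => ?_⟩
    have := h2 _ (U1_mem_quad hy y0)
    rw [commutatorRank, commutatorRank, show ((U1 y hy.1 : (End k M)ˣ) : M →ₗ[k] M) - 1 = y by simp] at this
    exact this
  · rintro ⟨h1, h2, h3⟩
    exact ⟨sub_one_mem_QT.2 ⟨h1, h2⟩, fun τ hτ => h3 _ (sub_one_mem_QT.1 hτ).1 (sub_one_mem_QT.1 hτ).2⟩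

theorem coe_EG {σ : (End k M)ˣ} (h : (σ : End k M) - 1 ∈ QTd G) :
    (EG G ((σ : End k M) - 1) : Set (End k M)ˣ) = sameActionClass G σ ∪ {1} := by
  ext g
  constructor
  · intro hg
    by_cases g1 : g = 1
    · exact Or.inr g1
    · have g0 : (g : End k M) - 1 ≠ 0 := fun e => g1 (Units.ext (sub_eq_zero.1 e))
      exact Or.inl ⟨sub_one_mem_QTd.2 (EE.mem_QTd h hg g0), EE.ker_eq h hg g0, EE.range_eq h hg g0⟩
  · rintro (⟨h1, h2, h3⟩ | rfl)
    · exact EE.mk h.1.1 (sub_one_mem_QTd.1 h1).1 h2.ge h3.le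
    · exact Subgroup.one_mem _

theorem sameActionSubgroup_eq {σ : (End k M)ˣ} (h : (σ : End k M) - 1 ∈ QTd G) :
    sameActionSubgroup G σ = EG G ((σ : End k M) - 1) := by
  rw [sameActionSubgroup, ← Subgroup.closure_union_one, ← coe_EG h, Subgroup.closure_eq]

theorem mem_quadRoot {B : Subgroup (End k M)ˣ} : B ∈ quadraticRootSubgroups G ↔ ∃ a ∈ QTd G, B = EG G a := by
  constructor
  · rintro ⟨σ, h, rfl⟩
    exact ⟨_, sub_one_mem_QTd.1 h, sameActionSubgroup_eq (sub_one_mem_QTd.1 h)⟩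
  · rintro ⟨a, ha, rfl⟩
    have : (U1 a ha.1.1 : End k M) - 1 ∈ QTd G := by simpa using ha
    exact ⟨U1 a ha.1.1, sub_one_mem_QTd.2 this, by rw [sameActionSubgroup_eq this]; simp⟩

/-- drop lemma -/
theorem QTd.drop {a u : End k M} (ha : a ∈ QTd G) (h : u * a ∈ QT G) (hc : u * a = a * u) {n : ℕ}
    (hn : u ^ n * a = 0) : u * a = 0 := by
  by_contra h0
  have hk := QTd.ker_eq ha h h0 (ker_le_mul _ _)
  apply ha.2.1
  induction n with
  | zero => simpa using hn
  | succ n ih =>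
    apply ih
    have hc' : u ^ n * a = a * u ^ n := ((Commute.pow_left hc n)).eq
    rw [pow_succ', mul_assoc, hc', ← mul_assoc] at hn
    rw [hc']
    exact mul_eq_zero_of_ker_le hk.ge hn

theorem lemmaU (h2 : (2 : k) ≠ 0) {n : ℕ} : ∀ {a b : End k M}, a ∈ QTd G → b ∈ QT G →
    (a * b + b * a) ^ n = 0 → a * b * a = 0 := by
  induction n with
  | zero => intro a b _ _ h; rw [pow_zero] at h; rw [← mul_one (a * b * a), h, mul_zero]
  | succ n ih =>
    intro a b ha hb h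
    have a2 := ha.1.1; have b2 := hb.1
    set z := a * b + b * a with hz
    have za : z * a = a * b * a := by rw [hz, add_mul, mul_assoc b, a2]; simp
    have az : a * z = a * b * a := by rw [hz, mul_add, ← mul_assoc, a2, mul_assoc]; simp
    have zb : z * b = b * a * b := by rw [hz, add_mul, mul_assoc a, b2]; simp
    have bz : b * z = b * a * b := by rw [hz, mul_add, ← mul_assoc, ← mul_assoc, b2]; simp
    rcases Nat.eq_zero_or_pos n with rfl | hn
    · rw [← za, show z = 0 by simpa using h, zero_mul]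
    have ca : Commute z a := za.trans az.symm
    have cb : Commute z b := zb.trans bz.symm
    have key : ∀ c : End k M, c ∈ QT G → c = b ∨ c = -b → z * z * a = 0 ∧
        a * ((1 + c) * a * (1 - c)) - ((1 + c) * a * (1 - c)) * a ∈ QT G := by
      intro c hc hcb
      have ha' := QTd.conj' ha hc
      have e : a * ((1 + c) * a * (1 - c)) + ((1 + c) * a * (1 - c)) * a = -(z * z) := by
        have : a * ((1 + c) * a * (1 - c)) + ((1 + c) * a * (1 - c)) * a = -((a * c + c * a) * (a * c + c * a)) +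
          2 * (a * a) - a * a * c + c * (a * a) + a * (c * c) * a + c * (a * a) * c := by noncomm_ring
        rw [this, a2, hc.1]
        rcases hcb with rfl | rfl <;> simp [hz]
        noncomm_ring
      have hn' : (-(z * z)) ^ n = 0 := by
        rw [neg_pow, ← pow_two, ← pow_mul, show 2 * n = (n + 1) + (n - 1) by omega, pow_add z, h]; simp
      have h1 := ih ha ha'.1 (e ▸ hn')
      have h3 := ih ha' ha.1 (by rw [add_comm, e]; exact hn')
      refine ⟨?_, QT.comm ha.1 ha'.1 h1 h3⟩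
      have := congrArg (· * a) e
      simp only [neg_mul] at this
      rw [add_mul, h1, mul_assoc _ a a, a2, mul_zero, add_zero] at this
      exact neg_eq_zero.1 this.symm
    obtain ⟨h1, h3⟩ := key b hb (Or.inl rfl)
    obtain ⟨-, h4⟩ := key (-b) (QT.neg hb) (Or.inr rfl)
    have e1 : a * ((1 + b) * a * (1 - b)) - ((1 + b) * a * (1 - b)) * a =
        z * (2 * a - (a * b - b * a)) := by
      have : a * ((1 + b) * a * (1 - b)) - ((1 + b) * a * (1 - b)) * a = (a * b + b * a) * (2 * a - (a * b - b * a))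
        - a * a * b - 3 * b * (a * a) - a * (b * b) * a + b * (a * a) * b := by noncomm_ring
      rw [this, a2, b2]; simp [hz]
    have e2 : a * ((1 + -b) * a * (1 - -b)) - ((1 + -b) * a * (1 - -b)) * a =
        z * (-2 * a - (a * b - b * a)) := by
      have : a * ((1 + -b) * a * (1 - -b)) - ((1 + -b) * a * (1 - -b)) * a = (a * b + b * a) * (-2 * a - (a * b - b * a))
        + a * a * b + 3 * b * (a * a) - a * (b * b) * a + b * (a * a) * b := by noncomm_ring
      rw [this, a2, b2]; simp [hz]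
    rw [e1] at h3; rw [e2] at h4
    have h5 : z * z * b * a = 0 := by rw [(cb.symm.mul_right cb.symm).eq.symm, mul_assoc, h1, mul_zero]
    have pr : ∀ s t : End k M, Commute z s → z * (s * a - (a * b - b * a)) * (z * t) = 0 := by
      intro s t hs
      have c1 : Commute z (s * a - (a * b - b * a)) :=
        (hs.mul_right ca).sub_right ((ca.mul_right cb).sub_right (cb.mul_right ca))
      rw [← mul_assoc, mul_assoc z _ z, ← c1.eq, ← mul_assoc, mul_sub, mul_sub, ← mul_assoc, ← mul_assoc,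
        ← mul_assoc, h1, h5, (hs.mul_left hs).eq, mul_assoc s, h1]
      simp
    have h6 := QT.sub h3 h4 (pr _ _ (Commute.ofNat_right _ 2)) (pr _ _ (Commute.ofNat_right _ 2).neg_right)
    have e3 : z * (2 * a - (a * b - b * a)) - z * (-2 * a - (a * b - b * a)) = (2 * 2 : k) • (z * a) := by
      rw [mul_smul, two_smul, two_smul]; noncomm_ring
    rw [e3] at h6
    rw [← za]
    exact QTd.drop ha (QT.of_smul (mul_ne_zero h2 h2) h6) ca.eq (n := n + 1) (by rw [h, zero_mul])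

end Cfsg.Agent.H29
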