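import Mathlib
import Cfsg.Agent.H29.Quad1
import Cfsg.Agent.H29.DicksonGen

/-! Quadratic pairs II: the homomorphism from a congruence subgroup of `SL₂(k[X])`. -/

set_option autoImplicit false
open Cfsg Module Polynomial
open scoped MatrixGroups commutatorElement

namespace Cfsg.Agent.H29

variable {k : Type*} [Field k]

variable (k) in
/-- matrices upper unitriangular at `X = 0` -/
def Gam : Subgroup SL(2, k[X]) where
  carrier := {s | X ∣ s 1 0 ∧ X ∣ s 0 0 - 1 ∧ X ∣ s 1 1 - 1}
  mul_mem' := by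
    rintro s t ⟨⟨a, ha⟩, ⟨b, hb⟩, ⟨c, hc⟩⟩ ⟨⟨a', ha'⟩, ⟨b', hb'⟩, ⟨c', hc'⟩⟩
    rw [sub_eq_iff_eq_add] at hb hc hb' hc'
    simp only [Set.mem_setOf_eq, Matrix.SpecialLinearGroup.coe_mul, Matrix.mul_apply, Fin.sum_univ_two,
      ha, hb, hc, ha', hb', hc']
    exact ⟨⟨a * (X * b' + 1) + (X * c + 1) * a', by ring⟩, ⟨b * (X * b' + 1) + b' + s 0 1 * a', by ring⟩,
      ⟨a * t 0 1 + c * (X * c' + 1) + c', by ring⟩⟩
  one_mem' := by simp
  inv_mem' := by
    rintro s ⟨h1, h2, h3⟩
    simp only [Set.mem_setOf_eq, Matrix.SpecialLinearGroup.coe_inv, Matrix.adjugate_fin_two]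
    simpa using ⟨h1, h3, h2⟩

/-- upper unitriangular polynomial matrix -/
noncomputable def upP (f : k[X]) : Gam k :=
  ⟨⟨!![1, f; 0, 1], by simp [Matrix.det_fin_two]⟩, by simp, by simp, by simp⟩
/-- lower unitriangular polynomial matrix -/
noncomputable def loP (f : k[X]) : Gam k :=
  ⟨⟨!![1, 0; X * f, 1], by simp [Matrix.det_fin_two]⟩, by simp, by simp, by simp⟩

/-- entries -/
abbrev en (s : Gam k) (i j : Fin 2) : k[X] := (s.1 : Matrix (Fin 2) (Fin 2) k[X]) i j

theorem en_mul (s t : Gam k) (i j : Fin 2) : en (s * t) i j = en s i 0 * en t 0 j + en s i 1 * en t 1 j := by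
  simp [en, Matrix.mul_apply, Fin.sum_univ_two]

theorem en_inv (s : Gam k) : en s⁻¹ 0 0 = en s 1 1 ∧ en s⁻¹ 0 1 = -en s 0 1 ∧ en s⁻¹ 1 0 = -en s 1 0 ∧
    en s⁻¹ 1 1 = en s 0 0 := by
  simp [en, Matrix.SpecialLinearGroup.coe_inv, Matrix.adjugate_fin_two]

theorem en_det (s : Gam k) : en s 0 0 * en s 1 1 - en s 0 1 * en s 1 0 = 1 := by
  have := s.1.det_coe; rwa [Matrix.det_fin_two] at this

theorem divX_X_mul' (f : k[X]) : divX (X * f) = f := by ext n; simp [coeff_divX, coeff_X_mul]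

theorem X_mul_divX {f : k[X]} (h : X ∣ f) : X * divX f = f := by
  obtain ⟨g, rfl⟩ := h; rw [divX_X_mul']

theorem en10 (s : Gam k) : X * divX (en s 1 0) = en s 1 0 := X_mul_divX s.2.1
theorem en00 (s : Gam k) : X * divX (en s 0 0 - en s 1 1) = en s 0 0 - en s 1 1 :=
  X_mul_divX (by simpa using dvd_sub s.2.2.1 s.2.2.2)

variable {A : Type*} [Ring A] [Algebra k A]

/-- evaluation at `ab + ba` -/
noncomputable abbrev ev (a b : A) : k[X] →ₐ[k] A := aeval (a * b + b * a)

section
variable {a b : A} (ha : a * a = 0) (hb : b * b = 0)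
include ha in
theorem z_mul_a : (a * b + b * a) * a = a * b * a := by rw [add_mul, mul_assoc b, ha]; simp
include ha in
theorem a_mul_z : a * (a * b + b * a) = a * b * a := by rw [mul_add, ← mul_assoc, ha, mul_assoc]; simp
include ha in
theorem ev_comm_a (f : k[X]) : Commute (ev a b f) a := by
  have : Commute (a * b + b * a) a := (z_mul_a ha).trans (a_mul_z ha).symm
  induction f using Polynomial.induction_on' with
  | add p q hp hq => rw [map_add]; exact hp.add_left hq
  | monomial n c => rw [aeval_monomial]; exact Commute.mul_left (Algebra.commutes c a) (this.pow_left n)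

theorem ev_swap (a b : A) : ev (k := k) b a = ev a b := by rw [ev, ev, add_comm]

include hb in
theorem ev_comm_b (f : k[X]) : Commute (ev a b f) b := ev_swap (k := k) a b ▸ ev_comm_a hb f

theorem ev_comm (f g : k[X]) : Commute (ev a b f) (ev a b g) := Commute.map (mul_comm f g) _

/-- the element attached to four coordinates -/
noncomputable def PP (a b : A) (s q γ δ : k[X]) : A :=
  ev a b s + ev a b q * a + ev a b γ * b + ev a b δ * (a * b)

include ha hb in
theorem PP_mul (s q γ δ s' q' γ' δ' : k[X]) : PP a b s q γ δ * PP a b s' q' γ' δ' =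
    PP a b (X * γ * q' + s * s') ((s + X * δ) * q' + q * s') (γ * (s' + X * δ') + s * γ')
      (s * δ' + δ * s' + X * δ * δ' + q * γ' - γ * q') := by
  letI : Module k[X] A := Module.compHom A (ev a b).toRingHom
  have sm : ∀ (f : k[X]) (x : A), ev a b f * x = f • x := fun _ _ => rfl
  have mm : ∀ (x y : A) (f g : k[X]), (∀ f : k[X], Commute (ev a b f) x) → f • x * g • y = (f * g) • (x * y) := by
    intro x y f g h
    rw [← sm, ← sm, ← sm, map_mul, mul_assoc, ← mul_assoc x, ← (h g).eq]; simp [mul_assoc]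
  have c1 : ∀ f : k[X], Commute (ev a b f) 1 := fun f => Commute.one_right _
  have ca := ev_comm_a (k := k) (b := b) ha
  have cb := ev_comm_b (k := k) (a := a) hb
  have cab : ∀ f : k[X], Commute (ev a b f) (a * b) := fun f => (ca f).mul_right (cb f)
  have e0 : ∀ f : k[X], ev a b f = f • (1 : A) := fun f => by rw [← sm, mul_one]
  have t1 : b * a = (X : k[X]) • (1 : A) - a * b := by rw [← e0]; simp
  have t2 : b * (a * b) = (X : k[X]) • b := by rw [← sm, aeval_X, add_comm, z_mul_a hb, mul_assoc]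
  have t3 : a * b * a = (X : k[X]) • a := by rw [← sm, aeval_X, z_mul_a ha]
  have t4 : a * b * (a * b) = (X : k[X]) • (a * b) := by rw [← mul_assoc, t3, ← sm, ← sm, mul_assoc]
  have t5 : a * (a * b) = 0 := by rw [← mul_assoc, ha, zero_mul]
  have t6 : a * b * b = 0 := by rw [mul_assoc, hb, mul_zero]
  simp only [PP, sm]
  simp only [e0, mul_add, add_mul, mm _ _ _ _ c1, mm _ _ _ _ ca, mm _ _ _ _ cb, mm _ _ _ _ cab, mul_one,
    one_mul, ha, hb, t1, t2, t3, t4, t5, t6]
  module

/-- the multiplicative map -/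
noncomputable def Psi0 : Gam k →* A where
  toFun s := PP a b (en s 1 1) (en s 0 1) (divX (en s 1 0)) (divX (en s 0 0 - en s 1 1))
  map_one' := by simp [PP, en]
  map_mul' s t := by
    rw [PP_mul ha hb]
    have e1 := en10 s; have e2 := en00 s; have e3 := en10 t; have e4 := en00 t
    congr 1
    · rw [en_mul, e1]
    · rw [en_mul, e2]; ring
    · rw [en_mul, e4, ← divX_X_mul' (_ * _ + _ * divX _)]; congr 1
      linear_combination - en t 0 0 * e1 - en s 1 1 * e3
    · rw [en_mul, en_mul, ← divX_X_mul' (_ - _ * _)]; congr 1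
      linear_combination (-en s 1 1 - X * divX (en s 0 0 - en s 1 1)) * e4 - en t 0 0 * e2 - en s 0 1 * e3 + en t 0 1 * e1

/-- the homomorphism to the unit group -/
noncomputable def Psi : Gam k →* Aˣ := (Psi0 (k := k) ha hb).toHomUnits

theorem Psi_val (s : Gam k) : (Psi ha hb s : A) = ev a b (en s 1 1) + ev a b (en s 0 1) * a +
    ev a b (divX (en s 1 0)) * b + ev a b (divX (en s 0 0 - en s 1 1)) * (a * b) := rfl

theorem Psi_upP (f : k[X]) : (Psi ha hb (upP f) : A) = 1 + ev a b f * a := by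
  simp [Psi_val, en, upP]

theorem Psi_loP (f : k[X]) : (Psi ha hb (loP f) : A) = 1 + ev a b f * b := by
  simp [Psi_val, en, loP, divX_X_mul', -mul_eq_zero]

theorem Psi_comm (s : Gam k) (f : k[X]) : Commute (ev a b f) (Psi ha hb s : A) := by
  have ca := ev_comm_a (k := k) (b := b) ha f
  have cb := ev_comm_b (k := k) (a := a) hb f
  rw [Psi_val]
  exact (((ev_comm _ _).add_right ((ev_comm _ _).mul_right ca)).add_right
    ((ev_comm _ _).mul_right cb)).add_right ((ev_comm _ _).mul_right (ca.mul_right cb))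

theorem Psi_mul_a (s : Gam k) : (Psi ha hb s : A) * a =
    ev a b (en s 0 0) * a + ev a b (divX (en s 1 0)) * (b * a) := by
  have : en s 0 0 = en s 1 1 + divX (en s 0 0 - en s 1 1) * X := by rw [mul_comm, en00]; ring
  rw [Psi_val, this, map_add, map_mul, aeval_X]
  simp only [add_mul, mul_assoc, ha, mul_zero, add_zero, ← this]
  abel

theorem a_mul_Psi (s : Gam k) : a * (Psi ha hb s : A) =
    ev a b (en s 1 1) * a + ev a b (divX (en s 1 0)) * (a * b) := by
  have ca := fun f => (ev_comm_a (k := k) (b := b) ha f).symm.left_comm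
  rw [Psi_val]
  simp only [mul_add, ca, ha, ← mul_assoc a a, zero_mul, mul_zero, add_zero, (ev_comm_a ha _).eq]

theorem a_mul_Psi_inv (s : Gam k) : a * (((Psi ha hb s)⁻¹ : Aˣ) : A) =
    ev a b (en s 0 0) * a - ev a b (divX (en s 1 0)) * (a * b) := by
  rw [← map_inv, a_mul_Psi, (en_inv s).2.2.2, (en_inv s).2.2.1, ← en10 s, ← mul_neg, divX_X_mul', divX_X_mul']
  simp [sub_eq_add_neg]

theorem a_Psi_a (s : Gam k) : a * (Psi ha hb s : A) * a = ev a b (en s 1 0) * a := by
  rw [a_mul_Psi, add_mul, mul_assoc, ha, mul_assoc, ← z_mul_a ha, ← mul_assoc]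
  conv_rhs => rw [← en10 s, mul_comm X, map_mul, aeval_X]
  simp

theorem a_Psi_inv_a (s : Gam k) : a * (((Psi ha hb s)⁻¹ : Aˣ) : A) * a = -(ev a b (en s 1 0) * a) := by
  rw [← map_inv, a_Psi_a, (en_inv s).2.2.1]; simp

theorem b_Psi_b (s : Gam k) : b * (Psi ha hb s : A) * b = ev a b (en s 0 1 * X) * b := by
  have cb := fun f => (ev_comm_b (k := k) (a := a) hb f).symm.left_comm
  rw [Psi_val, map_mul, aeval_X, mul_assoc (ev a b _), add_comm (a * b), z_mul_a hb]
  simp only [mul_add, add_mul, cb, mul_assoc, hb, mul_zero, add_zero, zero_add]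

theorem a_mul_conj (s : Gam k) : a * ((Psi ha hb s : A) * a * (((Psi ha hb s)⁻¹ : Aˣ) : A)) =
    ev a b (en s 1 0 * en s 0 0) * a - ev a b (en s 1 0 * divX (en s 1 0)) * (a * b) := by
  rw [← mul_assoc, ← mul_assoc, a_Psi_a, mul_assoc, a_mul_Psi_inv]
  simp only [map_mul, mul_sub, mul_assoc]

theorem conj_mul_a (s : Gam k) : ((Psi ha hb s : A) * a * (((Psi ha hb s)⁻¹ : Aˣ) : A)) * a =
    -(ev a b (en s 1 0 * en s 0 0) * a) - ev a b (en s 1 0 * divX (en s 1 0)) * (b * a) := by
  rw [mul_assoc, mul_assoc, ← mul_assoc a, a_Psi_inv_a, mul_neg, ← (Psi_comm ha hb s _).left_comm, Psi_mul_a]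
  simp only [map_mul, mul_add, mul_assoc]; abel

theorem z_conj (s : Gam k) : a * ((Psi ha hb s : A) * a * (((Psi ha hb s)⁻¹ : Aˣ) : A)) +
    ((Psi ha hb s : A) * a * (((Psi ha hb s)⁻¹ : Aˣ) : A)) * a = -ev a b (en s 1 0 * en s 1 0) := by
  rw [a_mul_conj, conj_mul_a]
  conv_rhs => enter [1, 2, 2]; rw [← en10 s, mul_comm X]
  rw [← mul_assoc (en s 1 0), map_mul _ _ X, aeval_X, mul_add]; abel

theorem conj_a_eq (s : Gam k) {e : k[X]} (h : ev a b (e * divX (en s 1 0)) * a = 0) :
    ev a b e * ((Psi ha hb s : A) * a * (((Psi ha hb s)⁻¹ : Aˣ) : A)) = ev a b (e * en s 0 0 ^ 2) * a := by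
  have h1 : ev a b e * ((Psi ha hb s : A) * a) = ev a b (e * en s 0 0) * a := by
    rw [Psi_mul_a, mul_add, ← mul_assoc, ← mul_assoc, ← map_mul, ← map_mul, (ev_comm_b hb _).left_comm,
      h]; simp
  rw [← mul_assoc, h1, mul_assoc, a_mul_Psi_inv, mul_sub, ← mul_assoc, ← mul_assoc, ← mul_assoc, ← map_mul,
    ← map_mul, show e * en s 0 0 * divX (en s 1 0) = en s 0 0 * (e * divX (en s 1 0)) by ring, map_mul _ (en s 0 0),
    mul_assoc (ev a b _) _ a, h, show e * en s 0 0 * en s 0 0 = e * en s 0 0 ^ 2 by ring]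
  simp

end

/-- reduction modulo `π` -/
noncomputable def redP (π : k[X]) : Gam k →* SL(2, AdjoinRoot π) :=
  (Matrix.SpecialLinearGroup.map (AdjoinRoot.mk π)).comp (Gam k).subtype

theorem redP_val (π : k[X]) (s : Gam k) (i j : Fin 2) :
    (redP π s : Matrix (Fin 2) (Fin 2) (AdjoinRoot π)) i j = AdjoinRoot.mk π (en s i j) := rfl

theorem redP_upP (π : k[X]) [Fact (Irreducible π)] (f : k[X]) : redP π (upP f) = up (AdjoinRoot.mk π f) := by
  ext i j; rw [redP_val]; fin_cases i <;> fin_cases j <;> simp [en, upP, up_val]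

theorem redP_loP (π : k[X]) [Fact (Irreducible π)] (f : k[X]) :
    redP π (loP f) = lo (AdjoinRoot.mk π (X * f)) := by
  ext i j; rw [redP_val]; fin_cases i <;> fin_cases j <;> simp [en, loP, lo_val]

variable (k) in
/-- the group generated by constant upper and linear lower unitriangular matrices -/
noncomputable def DD : Subgroup (Gam k) :=
  Subgroup.closure ({s | ∃ c : k, s = upP (C c)} ∪ {s | ∃ c : k, s = loP (C c)})

theorem map_redP_DD (h2 : (2 : k) ≠ 0) (h3 : Nat.card k ≠ 3) (π : k[X]) [Fact (Irreducible π)]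
    (hX : ¬ π ∣ X) : (DD k).map (redP π) = ⊤ := by
  refine gen_sl2 (α := AdjoinRoot.root π) h2 h3 (AdjoinRoot.isIntegral_root (Fact.out : Irreducible π).ne_zero)
    (fun e => hX (AdjoinRoot.mk_eq_zero.1 e)) AdjoinRoot.adjoinRoot_eq_top _ (fun c => ?_) (fun c => ?_)
  · exact ⟨_, Subgroup.subset_closure (Or.inl ⟨c, rfl⟩), by rw [redP_upP]; rfl⟩
  · exact ⟨_, Subgroup.subset_closure (Or.inr ⟨c, rfl⟩), by rw [redP_loP, map_mul, mul_comm]; rfl⟩

theorem exists_sq_ne_one (h2 : (2 : k) ≠ 0) (h3 : Nat.card k ≠ 3) : ∃ c : k, c ≠ 0 ∧ c ^ 2 ≠ 1 := by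
  by_contra hc
  push Not at hc
  apply h3
  have : (Set.univ : Set k) = {0, 1, -1} := by
    ext c
    by_cases h : c = 0
    · simp [h]
    · have := sq_eq_one_iff.1 (hc c h); simp [this]
  rw [← Nat.card_univ, this, Nat.card_coe_set_eq, Set.ncard_eq_three]
  refine ⟨0, 1, -1, zero_ne_one, by simp, fun e => h2 ?_, rfl⟩
  linear_combination e

theorem lcs_sub_one {H : Subgroup Aˣ} {L : Submodule k A} (hL : L * L ≤ L) (h : Lsp k H ≤ L) (n : ℕ) :
    Lsp k (H.lowerCentralSeries n) ≤ L ^ (n + 1) := by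
  induction n with
  | zero => simpa using h
  | succ n ih =>
    have Lp : ∀ j, L ^ (j + 1) * L ≤ L ^ (j + 1) := fun j => by
      rw [pow_succ, mul_assoc]; exact mul_le_mul_right hL _
    have Lp' : ∀ j, L ^ (j + 1) ≤ L := by
      intro j
      induction j with
      | zero => simp
      | succ j ih => rw [pow_succ]; exact (mul_le_mul_left ih _).trans hL
    have mi : ∀ x ∈ L ^ (n + 2), ∀ g ∈ H, x * (g : A) ∈ L ^ (n + 2) := by
      intro x hx g hg
      rw [show x * (g : A) = x * ((g : A) - 1) + x by noncomm_ring]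
      exact Submodule.add_mem _ (Lp _ (Submodule.mul_mem_mul hx (h (sub_one_mem_Lsp hg)))) hx
    rw [Lsp_le]
    intro g hg
    rw [Subgroup.mem_lowerCentralSeries_succ_iff] at hg
    have hc : ∀ p ∈ H.lowerCentralSeries n, ∀ q ∈ H, (p : A) * q - q * p ∈ L ^ (n + 2) := by
      intro p hp q hq
      rw [show (p : A) * q - q * p = ((p : A) - 1) * ((q : A) - 1) - ((q : A) - 1) * ((p : A) - 1) by noncomm_ring]
      refine Submodule.sub_mem _ ?_ ?_
      · rw [pow_succ]; exact Submodule.mul_mem_mul (ih (sub_one_mem_Lsp hp)) (h (sub_one_mem_Lsp hq))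
      · rw [pow_succ']; exact Submodule.mul_mem_mul (h (sub_one_mem_Lsp hq)) (ih (sub_one_mem_Lsp hp))
    induction hg using Subgroup.closure_induction'' with
    | mem x hx =>
      obtain ⟨p, hp, q, hq, rfl⟩ := hx
      have := mi _ (mi _ (hc p hp q hq) _ (H.inv_mem (H.lowerCentralSeries_le_self n hp))) _ (H.inv_mem hq)
      convert this using 1
      simp [commutatorElement_def, sub_mul]
    | inv_mem x hx =>
      obtain ⟨p, hp, q, hq, rfl⟩ := hx
      have := mi _ (mi _ (Submodule.neg_mem _ (hc p hp q hq)) _ (H.inv_mem hq)) _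
        (H.inv_mem (H.lowerCentralSeries_le_self n hp))
      convert this using 1
      simp [commutatorElement_def, sub_mul, mul_assoc]
    | one => simp
    | mul x y _ _ hx hy => exact sub_one_mul_mem ((mul_le_mul_right (Lp' _) _).trans (Lp _)) hx hy

end Cfsg.Agent.H29
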