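import Mathlib
import Cfsg.Agent.H29.Quad2

/-! Quadratic pairs III: the non-nilpotent case. -/

set_option autoImplicit false
open Cfsg Module Polynomial
open scoped MatrixGroups commutatorElement

namespace Cfsg.Agent.H29

variable {k : Type*} [Field k] {M : Type*} [AddCommGroup M] [Module k M] {G : Subgroup (End k M)ˣ}

theorem Psi_DD_le {a b : End k M} (ha : a ∈ QT G) (hb : b ∈ QT G) : (DD k).map (Psi ha.1 hb.1) ≤ G := by
  rw [Subgroup.map_le_iff_le_comap, DD, Subgroup.closure_le]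
  rintro _ (⟨c, rfl⟩ | ⟨c, rfl⟩)
  · exact QT.mem_of_eq (QT.smul ha c) (by rw [Psi_upP]; simp [Algebra.smul_def])
  · exact QT.mem_of_eq (QT.smul hb c) (by rw [Psi_loP]; simp [Algebra.smul_def])

theorem ker_mul_of_inj {a u x : End k M} (h : LinearMap.ker (u * a) = LinearMap.ker a) (hx : u * a * x = 0) :
    a * x = 0 := mul_eq_zero_of_ker_le h.le hx

theorem ev_inj_cancel {a b : End k M} (ha : a * a = 0) {f g : k[X]}
    (h : LinearMap.ker (ev a b f * a) = LinearMap.ker a) (hx : ev a b (f * g) * a = 0) : ev a b g * a = 0 := by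
  rw [(ev_comm_a ha g).eq]
  apply ker_mul_of_inj h
  rw [mul_assoc, ← (ev_comm_a ha g).eq, ← mul_assoc, ← map_mul, hx]

theorem exists_fitting {A : Type*} [Ring A] [Algebra k A] {z : A} (hz : IsIntegral k z) :
    ∃ (N : ℕ) (α β ν : k[X]), α * X ^ (N + 1) + β * ν = 1 ∧ aeval z (X ^ (N + 1) * ν) = 0 := by
  obtain ⟨ν, h1, h2⟩ := exists_eq_pow_rootMultiplicity_mul_and_not_dvd (minpoly k z) (minpoly.ne_zero hz) 0
  simp only [map_zero, sub_zero] at h1 h2
  obtain ⟨α, β, e⟩ : IsCoprime ((X : k[X]) ^ (rootMultiplicity 0 (minpoly k z) + 1)) ν :=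
    ((irreducible_X.coprime_iff_not_dvd).2 h2).pow_left
  refine ⟨_, α, β, ν, e, ?_⟩
  rw [pow_succ', mul_assoc, ← h1, map_mul, minpoly.aeval, mul_zero]

variable [FiniteDimensional k M]

theorem core1 (h2 : (2 : k) ≠ 0) {a b : End k M} (ha : a ∈ QTd G) (hb : b * b = 0) (s : Gam k)
    (hs : Psi ha.1.1 hb s ∈ G) (hn : IsNilpotent (ev a b (en s 1 0 * en s 1 0)))
    (hγ : ev a b (en s 1 0 * en s 1 0) * a = 0 → ev a b (en s 1 0 * divX (en s 1 0)) * a = 0) :
    ev a b (en s 1 0) * a = 0 := by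
  have ha' := QTd.conj ha hs
  obtain ⟨n, hn⟩ := hn.neg
  have hz := z_conj ha.1.1 hb s
  have h1 := lemmaU h2 ha ha'.1 (hz ▸ hn)
  have h3 := lemmaU h2 ha' ha.1 (by rw [add_comm, hz]; exact hn)
  have h4 : ev a b (en s 1 0 * en s 1 0) * a = 0 := by
    have := congrArg (· * a) hz
    simp only [neg_mul] at this
    have h0 : ∀ x, x * a * a = 0 := fun x => by rw [mul_assoc, ha.1.1, mul_zero]
    rw [add_mul, h1, h0, add_zero] at this
    exact neg_eq_zero.1 this.symm
  have h5 := hγ h4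
  have h6 := QT.comm ha.1 ha'.1 h1 h3
  rw [a_mul_conj, conj_mul_a, ← mul_assoc, h5, (ev_comm_b hb _).left_comm, h5] at h6
  simp only [zero_mul, mul_zero, sub_zero, sub_neg_eq_add, ← two_smul k] at h6
  have h7 := QTd.drop ha (QT.of_smul h2 h6) (ev_comm_a ha.1.1 _).eq (n := 2) (by
    rw [← map_pow, show (en s 1 0 * en s 0 0) ^ 2 = en s 0 0 ^ 2 * (en s 1 0 * en s 1 0) by ring, map_mul,
      mul_assoc, h4, mul_zero])
  have : en s 1 0 = en s 1 1 * (en s 1 0 * en s 0 0) - en s 0 1 * (en s 1 0 * en s 1 0) := by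
    linear_combination (-en s 1 0) * en_det s
  rw [this, map_sub, map_mul _ (en s 1 1), map_mul _ (en s 0 1), sub_mul, mul_assoc, mul_assoc, h7, h4]
  simp

theorem VV_pow {a b : End k M} (ha : a * a = 0) (hb : b * b = 0) :
    ∃ V : Submodule k (End k M), V * V ≤ V ∧ a ∈ V ∧ b ∈ V ∧
      ∀ n, ∀ x ∈ V ^ (2 * n + 1), ∃ y, x = ev a b ((X : k[X]) ^ n) * y := by
  let V : Submodule k (End k M) := Submodule.span k
    {x | ∃ f : k[X], ∃ y ∈ ({a, b, a * b, b * a} : Set (End k M)), x = ev a b f * y}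
  let zV : ℕ → Submodule k (End k M) := fun n => V.map (LinearMap.mulLeft k (ev a b ((X : k[X]) ^ n)))
  have ca := ev_comm_a (k := k) (b := b) ha
  have cb := ev_comm_b (k := k) (a := a) hb
  have gen : ∀ (f : k[X]) y, y ∈ ({a, b, a * b, b * a} : Set (End k M)) → ev a b f * y ∈ V :=
    fun f y hy => Submodule.subset_span ⟨f, y, hy, rfl⟩
  have t2 : b * (a * b) = ev a b (X : k[X]) * b := by rw [aeval_X, add_comm, z_mul_a hb, mul_assoc]
  have t3 : a * (b * a) = ev a b (X : k[X]) * a := by rw [aeval_X, z_mul_a ha, mul_assoc]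
  have ha' : ∀ x, a * (a * x) = 0 := fun x => by rw [← mul_assoc, ha, zero_mul]
  have hb' : ∀ x, b * (b * x) = 0 := fun x => by rw [← mul_assoc, hb, zero_mul]
  have cy : ∀ (f : k[X]) y, y ∈ ({a, b, a * b, b * a} : Set (End k M)) → Commute (ev a b f) y := by
    rintro f _ (rfl | rfl | rfl | rfl)
    exacts [ca f, cb f, (ca f).mul_right (cb f), (cb f).mul_right (ca f)]
  have evV : ∀ (f : k[X]), ∀ x ∈ V, ev a b f * x ∈ V := by
    intro f x hx
    induction hx using Submodule.span_induction with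
    | mem x hx => obtain ⟨g, y, hy, rfl⟩ := hx; rw [← mul_assoc, ← map_mul]; exact gen _ _ hy
    | zero => simp
    | add x y _ _ hx hy => rw [mul_add]; exact V.add_mem hx hy
    | smul c x _ hx => rw [mul_smul_comm]; exact V.smul_mem c hx
  have aV : a ∈ V := by simpa using gen 1 a (by simp)
  have bV : b ∈ V := by simpa using gen 1 b (by simp)
  have abV : a * b ∈ V := by simpa using gen 1 (a * b) (by simp)
  have baV : b * a ∈ V := by simpa using gen 1 (b * a) (by simp)
  have lm : ∀ x ∈ V, a * x ∈ V ∧ b * x ∈ V := by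
    intro x hx
    induction hx using Submodule.span_induction with
    | mem x hx =>
      obtain ⟨g, y, hy, rfl⟩ := hx
      rw [← (ca g).left_comm, ← (cb g).left_comm]
      rcases hy with rfl | rfl | rfl | rfl <;> refine ⟨evV _ _ ?_, evV _ _ ?_⟩ <;>
        simp only [ha, hb, ha', hb', t2, t3, V.zero_mem, abV, baV, evV _ _ aV, evV _ _ bV]
    | zero => simp
    | add x y _ _ hx hy => rw [mul_add, mul_add]; exact ⟨V.add_mem hx.1 hy.1, V.add_mem hx.2 hy.2⟩
    | smul c x _ hx => rw [mul_smul_comm, mul_smul_comm]; exact ⟨V.smul_mem c hx.1, V.smul_mem c hx.2⟩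
  have VV : V * V ≤ V := by
    rw [Submodule.mul_le]
    intro x hx y hy
    induction hx using Submodule.span_induction with
    | mem x hx =>
      obtain ⟨g, w, hw, rfl⟩ := hx
      rw [mul_assoc]
      apply evV
      rcases hw with rfl | rfl | rfl | rfl
      exacts [(lm y hy).1, (lm y hy).2, mul_assoc a b y ▸ (lm _ (lm y hy).2).1, mul_assoc b a y ▸ (lm _ (lm y hy).1).2]
    | zero => simp
    | add x y _ _ hx hy => rw [add_mul]; exact V.add_mem hx hy
    | smul c x _ hx => rw [smul_mul_assoc]; exact V.smul_mem c hx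
  have V3 : V * V * V ≤ zV 1 := by
    have e : ∀ y ∈ ({a, b, a * b, b * a} : Set (End k M)), ∀ y' ∈ ({a, b, a * b, b * a} : Set (End k M)),
        ∀ y'' ∈ ({a, b, a * b, b * a} : Set (End k M)), ∃ w ∈ V, y * (y' * y'') = ev a b (X : k[X]) * w := by
      have t4 : ∀ x, a * (b * (a * x)) = ev a b (X : k[X]) * (a * x) := fun x => by
        rw [← mul_assoc b, ← mul_assoc, t3, mul_assoc]
      have t5 : ∀ x, b * (a * (b * x)) = ev a b (X : k[X]) * (b * x) := fun x => by
        rw [← mul_assoc a, ← mul_assoc, t2, mul_assoc]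
      rintro _ (rfl | rfl | rfl | rfl) _ (rfl | rfl | rfl | rfl) _ (rfl | rfl | rfl | rfl) <;>
        (try simp only [mul_assoc, ha, hb, ha', hb', mul_zero]) <;>
        first
        | exact ⟨0, V.zero_mem, (mul_zero _).symm⟩
        | exact ⟨_, aV, t3⟩
        | exact ⟨_, bV, t2⟩
        | exact ⟨_, by first | exact abV | exact (lm _ baV).1 | exact (lm _ (lm _ abV).2).1 | exact (lm _ (lm _ (lm _ baV).1).2).1 | exact (lm _ (lm _ (lm _ (lm _ abV).2).1).2).1, t4 _⟩
        | exact ⟨_, by first | exact baV | exact (lm _ abV).2 | exact (lm _ (lm _ baV).1).2 | exact (lm _ (lm _ (lm _ abV).2).1).2, t5 _⟩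
    rw [Submodule.span_mul_span, Submodule.span_mul_span, Submodule.span_le]
    rintro _ ⟨_, ⟨_, ⟨f, y, hy, rfl⟩, _, ⟨f', y', hy', rfl⟩, rfl⟩, _, ⟨f'', y'', hy'', rfl⟩, rfl⟩
    obtain ⟨w, hw, e⟩ := e y hy y' hy' y'' hy''
    refine ⟨ev a b (f * f' * f'') * w, evV _ _ hw, ?_⟩
    simp only [LinearMap.mulLeft_apply, pow_one]
    rw [(ev_comm _ _).left_comm, ← e, map_mul, map_mul]
    simp only [mul_assoc, ← (cy f' y hy).left_comm, ← (cy f'' y hy).left_comm, ← (cy f'' y' hy').left_comm]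
  refine ⟨V, VV, aV, bV, fun n x hx => ?_⟩
  have : V ^ (2 * n + 1) ≤ zV n := by
    clear hx
    induction n with
    | zero => intro x hx; exact ⟨x, by simpa using hx, by simp⟩
    | succ n ih =>
      rw [show 2 * (n + 1) + 1 = (2 * n + 1) + 1 + 1 by ring, pow_succ, pow_succ]
      refine (mul_le_mul_left (mul_le_mul_left ih _) _).trans ?_
      rw [mul_assoc, Submodule.mul_le]
      rintro _ ⟨x, hx, rfl⟩ y hy
      obtain ⟨w, hw, e⟩ := V3 (mul_assoc V V V ▸ Submodule.mul_mem_mul hx hy)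
      refine ⟨w, hw, ?_⟩
      simp only [LinearMap.mulLeft_apply] at e ⊢
      rw [mul_assoc, ← e, ← mul_assoc, ← map_mul, ← pow_add]
  obtain ⟨y, -, e⟩ := this hx
  exact ⟨y, e.symm⟩

theorem exists_diag (h2 : (2 : k) ≠ 0) (h3 : Nat.card k ≠ 3) (π : k[X]) [Fact (Irreducible π)]
    (hX : ¬ π ∣ X) (n : ℕ) (κ : AdjoinRoot π) (hκ : κ ≠ 0) : ∃ s ∈ (DD k).lowerCentralSeries n,
      π ∣ en s 1 0 ∧ AdjoinRoot.mk π (en s 0 0) = κ := by
  obtain ⟨c, c0, c1⟩ := exists_sq_ne_one h2 h3
  have hp : commutator SL(2, AdjoinRoot π) = ⊤ :=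
    Matrix.SL2.commutator_eq_top (a := algebraMap k _ c) (by simpa using c0) (by
      rw [← map_pow, ← map_one (algebraMap k (AdjoinRoot π))]; exact fun e => c1 ((algebraMap k _).injective e))
  have : ((DD k).lowerCentralSeries n).map (redP π) = ⊤ := by
    rw [Subgroup.map_lowerCentralSeries, map_redP_DD h2 h3 π hX]
    induction n with
    | zero => rfl
    | succ n ih => rw [Subgroup.lowerCentralSeries_succ, ih]; exact hp
  obtain ⟨s, hs, e⟩ : (⟨!![κ, 0; 0, κ⁻¹], by simp [Matrix.det_fin_two, hκ]⟩ : SL(2, AdjoinRoot π)) ∈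
    ((DD k).lowerCentralSeries n).map (redP π) := this ▸ Subgroup.mem_top _
  refine ⟨s, hs, AdjoinRoot.mk_eq_zero.1 ?_, ?_⟩
  · rw [← redP_val, e]; simp
  · rw [← redP_val, e]; simp

theorem claimA (h2 : (2 : k) ≠ 0) (h3 : Nat.card k ≠ 3) {a : End k M} (ha : a ∈ QTd G) :
    ∀ b ∈ QT G, ¬ IsNilpotent (a * b + b * a) → LinearMap.ker ((a * b + b * a) * a) = LinearMap.ker a := by
  suffices ∀ d, ∀ b ∈ QT G, finrank k M - finrank k (LinearMap.ker (a * b + b * a)) = d →
      ¬ IsNilpotent (a * b + b * a) → LinearMap.ker ((a * b + b * a) * a) = LinearMap.ker a from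
    fun b hb => this _ b hb rfl
  intro d
  induction d using Nat.strong_induction_on with
  | _ d ih =>
  intro b hb hd hn
  by_contra hc
  obtain ⟨v, hv1, hv2⟩ := SetLike.not_le_iff_exists.1 (fun h => hc (le_antisymm h (ker_le_mul _ _)))
  have hint : IsIntegral k (a * b + b * a) := Algebra.IsIntegral.isIntegral _
  obtain ⟨N, α, β, ν, e1, e2⟩ := exists_fitting hint
  -- an irreducible factor of the minimal polynomial different from `X`
  obtain ⟨π, π1, π2, π3⟩ : ∃ π : k[X], Irreducible π ∧ π ∣ minpoly k (a * b + b * a) ∧ ¬ π ∣ X := by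
    obtain ⟨ν, h1, h4⟩ := exists_eq_pow_rootMultiplicity_mul_and_not_dvd _ (minpoly.ne_zero hint) 0
    simp only [map_zero, sub_zero] at h1 h4
    have ν0 : ν ≠ 0 := by rintro rfl; exact h4 (dvd_zero _)
    have hu : ¬ IsUnit ν := by
      intro hu
      apply hn
      refine ⟨rootMultiplicity 0 (minpoly k (a * b + b * a)), ?_⟩
      have := minpoly.aeval k (a * b + b * a)
      rw [h1, map_mul, (hu.map _).mul_left_eq_zero] at this
      simpa using this
    obtain ⟨π, p1, p2⟩ := WfDvdMonoid.exists_irreducible_factor hu ν0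
    exact ⟨π, p1, h1 ▸ p2.mul_left _, fun h => h4 (((p1.associated_of_dvd irreducible_X h).symm.dvd).trans p2)⟩
  have : Fact (Irreducible π) := ⟨π1⟩
  have πd : ∀ f : k[X], ev a b f = 0 → π ∣ f := fun f hf => π2.trans (minpoly.dvd _ _ hf)
  obtain ⟨c, c0, c1⟩ := exists_sq_ne_one h2 h3
  obtain ⟨s, hs, s1, s2⟩ := exists_diag h2 h3 π π3 (2 * (N + 1)) (algebraMap k _ c) (by simpa using c0)
  have hsG : Psi ha.1.1 hb.1 s ∈ G := Psi_DD_le ha.1 hb ⟨s, Subgroup.lowerCentralSeries_le_self _ _ hs, rfl⟩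
  set ε := α * X ^ (N + 1) with hε
  have eε : ∀ y, ev a b ε * (ev a b ((X : k[X]) ^ (N + 1)) * y) = ev a b ((X : k[X]) ^ (N + 1)) * y := by
    intro y
    rw [← mul_assoc, ← map_mul, show ε * X ^ (N + 1) = X ^ (N + 1) - β * (X ^ (N + 1) * ν) by
      linear_combination X ^ (N + 1) * e1, map_sub, map_mul _ β, e2]; simp
  have hfix : ∀ s ∈ (DD k).lowerCentralSeries (2 * (N + 1)),
      ev a b ε * ((Psi ha.1.1 hb.1 s : End k M) - 1) = (Psi ha.1.1 hb.1 s : End k M) - 1 := by
    intro s hs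
    obtain ⟨V, v1, v2, v3, v4⟩ := VV_pow (k := k) ha.1.1 hb.1
    have h1 : Lsp k ((DD k).map (Psi ha.1.1 hb.1)) ≤ V := by
      rw [DD, MonoidHom.map_closure, Lsp_le]
      intro g hg
      induction hg using Subgroup.closure_induction'' with
      | mem x hx =>
        obtain ⟨_, (⟨c, rfl⟩ | ⟨c, rfl⟩), rfl⟩ := hx
        · rw [Psi_upP]; simpa [← Algebra.smul_def] using V.smul_mem c v2
        · rw [Psi_loP]; simpa [← Algebra.smul_def] using V.smul_mem c v3
      | inv_mem x hx =>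
        obtain ⟨_, (⟨c, rfl⟩ | ⟨c, rfl⟩), rfl⟩ := hx
        · rw [inv_val_of_eq (x := c • a) (by simp [ha.1.1]) (by rw [Psi_upP]; simp [Algebra.smul_def])]
          simpa using V.smul_mem c v2
        · rw [inv_val_of_eq (x := c • b) (by simp [hb.1]) (by rw [Psi_loP]; simp [Algebra.smul_def])]
          simpa using V.smul_mem c v3
      | one => simp
      | mul x y _ _ hx hy => exact sub_one_mul_mem v1 hx hy
    have := lcs_sub_one v1 h1 (2 * (N + 1)) (sub_one_mem_Lsp (g := Psi ha.1.1 hb.1 s) (by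
      rw [← Subgroup.map_lowerCentralSeries]; exact ⟨s, hs, rfl⟩))
    obtain ⟨y, hy⟩ := v4 _ _ this
    rw [hy, eε]
  have er : ev a b (ε * en s 1 0) * a = ev a b (en s 1 0) * a := by
    have h1 : a * ((Psi ha.1.1 hb.1 s : End k M) - 1) * a = ev a b (en s 1 0) * a := by
      rw [mul_sub, sub_mul, a_Psi_a, mul_one, ha.1.1, sub_zero]
    rw [map_mul, mul_assoc, ← h1, ← mul_assoc, (ev_comm_a ha.1.1 ε).left_comm, hfix s hs]
  have εγ : ∀ g : k[X], ev a b (g * en s 1 0) * a = 0 → ev a b (ε * (g * divX (en s 1 0))) * a = 0 := by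
    intro g hg
    have h1 : ε * (g * divX (en s 1 0)) = ε * ε * (g * divX (en s 1 0)) + α * β * g * divX (en s 1 0) *
        (X ^ (N + 1) * ν) := by linear_combination (-(ε * g * divX (en s 1 0))) * e1
    have h4 : ε * ε * (g * divX (en s 1 0)) = ε * α * X ^ N * (g * en s 1 0) := by
      conv_rhs => rw [← en10 s]
      rw [hε]; ring
    rw [h1, h4, map_add, map_mul _ _ (_ * ν), e2, map_mul _ _ (g * _), mul_zero, add_zero, mul_assoc, hg,
      mul_zero]
  have ha' := QTd.conj ha hsG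
  have hz := z_conj ha.1.1 hb.1 s
  have zav : ∀ g : k[X], X ∣ g → (ev a b g * a) v = 0 := by
    rintro _ ⟨g, rfl⟩
    rw [mul_comm X, map_mul, aeval_X, mul_assoc, End.mul_apply, LinearMap.mem_ker.1 hv1, map_zero]
  by_cases hnil : IsNilpotent (ev a b (en s 1 0 * en s 1 0))
  · have r0 := core1 h2 ha hb.1 s hsG hnil (fun h => by
      have := εγ _ h
      rwa [show ε * (en s 1 0 * divX (en s 1 0)) = divX (en s 1 0) * (ε * en s 1 0) by ring, map_mul,
        mul_assoc, er, ← mul_assoc, ← map_mul, mul_comm (divX _)] at this)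
    have h4 := conj_a_eq ha.1.1 hb.1 s (e := ε) (by simpa using εγ 1 (by simpa using r0))
    have h5 : ∀ g : k[X], ev a b (en s 1 0 * g) * a = 0 := fun g => by
      rw [mul_comm, map_mul, mul_assoc, r0, mul_zero]
    have h6 := QT.sub ha'.1 ha.1 (by rw [conj_mul_a, (ev_comm_b hb.1 _).left_comm, h5, h5]; simp)
      (by rw [a_mul_conj, ← mul_assoc, h5, h5]; simp)
    have h7 : (Psi ha.1.1 hb.1 s : End k M) * a * (((Psi ha.1.1 hb.1 s)⁻¹ : (End k M)ˣ) : End k M) - a =
        ev a b (ε * (en s 0 0 ^ 2 - 1)) * a := by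
      have e3 : (Psi ha.1.1 hb.1 s : End k M) * a * (((Psi ha.1.1 hb.1 s)⁻¹ : (End k M)ˣ) : End k M) - a =
          ((Psi ha.1.1 hb.1 s : End k M) - 1) * a * (((Psi ha.1.1 hb.1 s)⁻¹ : (End k M)ˣ) : End k M) +
          a * ((Psi ha.1.1 hb.1 s⁻¹ : End k M) - 1) := by rw [map_inv]; noncomm_ring
      have e4 := congrArg (HMul.hMul (ev a b ε)) e3
      rw [mul_add, ← mul_assoc, ← mul_assoc, hfix s hs, (ev_comm_a ha.1.1 ε).left_comm,
        hfix _ (Subgroup.inv_mem _ hs), ← e3, mul_sub, h4] at e4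
      rw [← e4, mul_sub, map_sub, sub_mul, mul_one]
    rw [h7] at h6
    by_cases h8 : ev a b (ε * (en s 0 0 ^ 2 - 1)) * a = 0
    · have h9 : ev a b (ε * (en s 0 0 ^ 2 - 1) * X) = 0 := by
        rw [map_mul _ _ X, aeval_X, mul_add, ← mul_assoc, h8, (ev_comm_b hb.1 _).left_comm, h8]; simp
      rcases π1.prime.dvd_or_dvd (πd _ h9) with h | h
      · rcases π1.prime.dvd_or_dvd h with h | h
        · rcases π1.prime.dvd_or_dvd (πd _ e2) with h' | h'
          · exact π3 (π1.prime.dvd_of_dvd_pow h')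
          · exact π1.not_isUnit (isUnit_of_dvd_one (e1 ▸ dvd_add h (h'.mul_left β)))
        · have := AdjoinRoot.mk_eq_zero.2 h
          rw [map_sub, map_pow, s2, map_one, ← map_pow, ← map_one (algebraMap k (AdjoinRoot π)), sub_eq_zero] at this
          exact c1 ((algebraMap k _).injective this)
      · exact π3 h
    · have := QTd.ker_eq ha h6 h8 (ker_le_mul _ _)
      apply hv2
      rw [this, LinearMap.mem_ker]
      exact zav _ (((dvd_pow_self X (Nat.succ_ne_zero N)).mul_left α).mul_right _)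
  · have hlt : LinearMap.ker (a * b + b * a) < LinearMap.ker (-ev a b (en s 1 0 * en s 1 0)) := by
      refine lt_of_le_of_ne ?_ ?_
      · rw [LinearMap.ker_neg]
        conv_rhs => enter [1, 2, 2]; rw [← en10 s, mul_comm X]
        rw [← mul_assoc, map_mul _ _ X, aeval_X]
        exact ker_le_mul _ _
      · intro e
        obtain ⟨h, hh⟩ := π2
        have h0 : ev a b h ≠ 0 := by
          intro h0
          have := minpoly.dvd _ _ h0
          rw [hh] at this
          have h1 : h ≠ 0 := by rintro rfl; exact minpoly.ne_zero hint (by simpa using hh)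
          exact π1.not_isUnit (isUnit_of_dvd_one ((mul_dvd_mul_iff_right h1).1 (by simpa using this)))
        apply h0
        obtain ⟨t, ht⟩ := s1
        have h4 : -ev a b (en s 1 0 * en s 1 0) * ev a b h = 0 := by
          rw [neg_mul, ← map_mul, show en s 1 0 * en s 1 0 * h = en s 1 0 * t * (π * h) by rw [ht]; ring, ← hh,
            map_mul, minpoly.aeval]; simp
        have h5 := mul_eq_zero_of_ker_le e.ge h4
        obtain ⟨u, w, huw⟩ := (π1.coprime_iff_not_dvd).2 π3
        have : h = u * (π * h) + w * (X * h) := by linear_combination (-h) * huw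
        rw [this, ← hh, map_add, map_mul, map_mul, map_mul, minpoly.aeval, aeval_X, h5]; simp
    have := Submodule.finrank_lt_finrank_of_lt hlt
    have h4 := Submodule.finrank_le (LinearMap.ker (-ev a b (en s 1 0 * en s 1 0)))
    have h5 := ih _ (by rw [hz]; omega) _ ha'.1 rfl (by rw [hz]; exact fun h => hnil (by simpa using h.neg))
    apply hv2
    rw [← h5, hz, LinearMap.mem_ker, neg_mul, LinearMap.neg_apply, zav _ (s.2.1.mul_left _), neg_zero]

end Cfsg.Agent.H29
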