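import Mathlib
import Cfsg.Agent.H29.Quad3

/-! Quadratic pairs IV: the key lemma and the `SL₂` subgroups. -/

set_option autoImplicit false
open Cfsg Module Polynomial
open scoped MatrixGroups commutatorElement

namespace Cfsg.Agent.H29

variable {k : Type*} [Field k] {M : Type*} [AddCommGroup M] [Module k M] {G : Subgroup (End k M)ˣ}
variable [FiniteDimensional k M]

theorem dich (h2 : (2 : k) ≠ 0) (h3 : Nat.card k ≠ 3) {a b : End k M} (ha : a ∈ QTd G) (hb : b * b = 0)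
    (hz : LinearMap.ker (ev a b (X : k[X]) * a) = LinearMap.ker a) (s : Gam k) (hs : Psi ha.1.1 hb s ∈ G) :
    LinearMap.ker (ev a b (en s 1 0) * a) = LinearMap.ker a ∨ (ev a b (en s 1 0) * a = 0 ∧
      (Psi ha.1.1 hb s : End k M) * a * (((Psi ha.1.1 hb s)⁻¹ : (End k M)ˣ) : End k M) =
        ev a b (en s 0 0 ^ 2) * a) := by
  by_cases hn : IsNilpotent (ev a b (en s 1 0 * en s 1 0))
  · have r0 := core1 h2 ha hb s hs hn (fun h => ev_inj_cancel ha.1.1 hz (by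
      rwa [mul_left_comm, en10]))
    refine Or.inr ⟨r0, ?_⟩
    have := conj_a_eq ha.1.1 hb s (e := 1) (ev_inj_cancel ha.1.1 hz (by rwa [one_mul, en10]))
    simpa using this
  · left
    have h4 := z_conj ha.1.1 hb s
    have := claimA h2 h3 ha _ (QTd.conj ha hs).1 (by rw [h4]; exact fun h => hn (by simpa using h.neg))
    rw [h4, neg_mul, LinearMap.ker_neg, map_mul, mul_assoc] at this
    exact le_antisymm (this ▸ ker_le_mul _ _) (ker_le_mul _ _)

theorem lemmaK (h2 : (2 : k) ≠ 0) (h3 : Nat.card k ≠ 3) {a b : End k M} (ha : a ∈ QTd G) (hb : b ∈ QT G)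
    (hn : ¬ IsNilpotent (a * b + b * a)) : ∃ π : k[X], Irreducible π ∧ ¬ π ∣ X ∧
      (∀ f : k[X], ev a b f * a = 0 ↔ π ∣ f) ∧ (∀ f : k[X], ev a b f * a ∈ QT G) ∧
      (∀ f : k[X], ev a b (f * X) * b ∈ QT G) ∧ ∃ u : k[X], ev a b (u * X) * a = a := by
  have hz : LinearMap.ker (ev a b (X : k[X]) * a) = LinearMap.ker a := by
    rw [aeval_X]; exact claimA h2 h3 ha b hb hn
  have ca := ev_comm_a (k := k) (b := b) ha.1.1
  let I : Ideal k[X] :=
    { carrier := {f | ev a b f * a = 0}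
      add_mem' := fun {f g} (hf : _ = _) (hg : _ = _) => by
        change _ = _; rw [map_add, add_mul, hf, hg, add_zero]
      zero_mem' := by simp
      smul_mem' := fun c f (hf : _ = _) => by
        change _ = _; rw [smul_eq_mul, map_mul, mul_assoc, hf, mul_zero] }
  have memI : ∀ f, f ∈ I ↔ ev a b f * a = 0 := fun _ => Iff.rfl
  obtain ⟨f0, hf0⟩ := (IsPrincipalIdealRing.principal I).principal
  have memI' : ∀ f, f ∈ I ↔ f0 ∣ f := fun f => by rw [hf0]; exact Ideal.mem_span_singleton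
  have hint : IsIntegral k (a * b + b * a) := Algebra.IsIntegral.isIntegral _
  have f00 : f0 ≠ 0 := by
    rintro rfl
    exact minpoly.ne_zero hint (zero_dvd_iff.1 ((memI' _).1 ((memI _).2 (by rw [minpoly.aeval, zero_mul]))))
  have f0u : ¬ IsUnit f0 := fun h => ha.2.1 (by simpa using (memI 1).1 ((memI' 1).2 h.dvd))
  obtain ⟨π, π1, h, hh⟩ := WfDvdMonoid.exists_irreducible_factor f0u f00
  have : Fact (Irreducible π) := ⟨π1⟩
  have Pπ : ∀ f : k[X], π ∣ f → LinearMap.ker (ev a b f * a) ≠ LinearMap.ker a := by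
    rintro _ ⟨g, rfl⟩ e
    have := ev_inj_cancel ha.1.1 (g := h) e ((memI _).1 ((memI' _).2 ⟨g, by rw [hh]; ring⟩))
    have h4 := (memI' _).1 ((memI _).2 this)
    have h1 : h ≠ 0 := by rintro rfl; exact f00 (by simpa using hh)
    rw [hh] at h4
    exact π1.not_isUnit (isUnit_of_dvd_one ((mul_dvd_mul_iff_right h1).1 (by simpa using h4)))
  have πX : ¬ π ∣ X := fun h => Pπ _ h hz
  have aa : ∀ f g : k[X], ev a b f * a * (ev a b g * a) = 0 := fun f g => by
    rw [mul_assoc, ← (ca g).left_comm, ha.1.1]; simp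
  let S : Submodule k k[X] :=
    { carrier := {f | ev a b f * a ∈ QT G}
      add_mem' := fun {f g} hf hg => by
        change _ ∈ QT G; rw [map_add, add_mul]; exact QT.add hf hg (aa _ _) (aa _ _)
      zero_mem' := by change _ ∈ QT G; simpa using QT.zero
      smul_mem' := fun c f hf => by
        change _ ∈ QT G; rw [map_smul, smul_mul_assoc]; exact QT.smul hf c }
  have memS : ∀ f, f ∈ S ↔ ev a b f * a ∈ QT G := fun _ => Iff.rfl
  have IS : ∀ f ∈ I, f ∈ S := fun f hf => by rw [memS, (memI f).1 hf]; exact QT.zero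
  have SI : ∀ f ∈ S, π ∣ f → f ∈ I := fun f h1 h4 => by
    by_contra h5
    exact Pπ f h4 (QTd.ker_eq ha h1 h5 (ker_le_mul _ _)).symm
  let R : Subalgebra k k[X] :=
    { carrier := {f | ∀ g ∈ S, f * g ∈ S}
      mul_mem' := fun {f f'} hf hf' g hg => by rw [mul_assoc]; exact hf _ (hf' g hg)
      add_mem' := fun {f f'} hf hf' g hg => by rw [add_mul]; exact S.add_mem (hf g hg) (hf' g hg)
      algebraMap_mem' := fun c g hg => by rw [← Algebra.smul_def]; exact S.smul_mem c hg }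
  have RS : ∀ f ∈ R, f ∈ S := fun f hf => by simpa using hf 1 (by simpa [memS] using ha.1)
  have sqR : ∀ κ : AdjoinRoot π, ∃ ρ ∈ R, AdjoinRoot.mk π ρ = κ ^ 2 := by
    intro κ
    by_cases κ0 : κ = 0
    · exact ⟨0, R.zero_mem, by simp [κ0]⟩
    obtain ⟨s, hs, s1, s2⟩ := exists_diag h2 h3 π πX 0 κ κ0
    have hsG : Psi ha.1.1 hb.1 s ∈ G := Psi_DD_le ha.1 hb ⟨s, hs, rfl⟩
    obtain ⟨-, e⟩ := (dich h2 h3 ha hb.1 hz s hsG).resolve_left (Pπ _ s1)
    refine ⟨en s 0 0 ^ 2, fun g hg => ?_, by rw [map_pow, s2]⟩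
    have := QT.conj hg hsG
    rwa [← (Psi_comm ha.1.1 hb.1 s g).left_comm, mul_assoc, e, ← mul_assoc, ← map_mul, mul_comm g] at this
  have surjR : ∀ κ : AdjoinRoot π, ∃ ρ ∈ R, AdjoinRoot.mk π ρ = κ := by
    intro κ
    obtain ⟨ρ, h1, e1⟩ := sqR (κ + 1)
    obtain ⟨ρ', h1', e1'⟩ := sqR (κ - 1)
    refine ⟨C (2 * 2)⁻¹ * (ρ - ρ'), R.mul_mem (R.algebraMap_mem _) (R.sub_mem h1 h1'), ?_⟩
    have h4 : (algebraMap k (AdjoinRoot π) 2) = 2 := map_ofNat _ 2
    have h5 : (2 : AdjoinRoot π) ≠ 0 := by rw [← h4]; simpa using h2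
    rw [map_mul, map_sub, e1, e1', AdjoinRoot.mk_C, ← AdjoinRoot.algebraMap_eq, map_inv₀, map_mul, h4]
    field_simp; ring
  obtain ⟨u, uR, hu⟩ := surjR (AdjoinRoot.root π)⁻¹
  have r0 : AdjoinRoot.root π ≠ 0 := fun e => πX (AdjoinRoot.mk_eq_zero.1 e)
  have tπ : π ∣ 1 - u * X := AdjoinRoot.mk_eq_zero.1 (by
    rw [map_sub, map_mul, hu, AdjoinRoot.mk_X, inv_mul_cancel₀ r0, map_one, sub_self])
  set w : Gam k := upP u * loP (-1) * upP u with hw
  have wG : Psi ha.1.1 hb.1 w ∈ G := by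
    have h1 : Psi ha.1.1 hb.1 (upP u) ∈ G := QT.mem_of_eq (RS u uR) (Psi_upP _ _ _)
    rw [hw, map_mul, map_mul]
    exact G.mul_mem (G.mul_mem h1 (QT.mem_of_eq (QT.neg hb) (by rw [Psi_loP]; simp))) h1
  have w00 : en w 0 0 = 1 - u * X := by simp only [hw, en_mul]; simp [en, upP, loP]; ring
  have w10 : en w 1 0 = X * -1 := by simp only [hw, en_mul]; simp [en, upP, loP]
  have w11 : en w 1 1 = 1 - u * X := by simp only [hw, en_mul]; simp [en, upP, loP]; ring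
  have tI : 1 - u * X ∈ I := by
    have e : en (w * w) 1 0 = X * (C (-2) * (1 - u * X)) := by
      rw [en_mul, w00, w10, w11, map_neg, map_ofNat]; ring
    obtain ⟨h4, -⟩ := (dich h2 h3 ha hb.1 hz (w * w) (by rw [map_mul]; exact G.mul_mem wG wG)).resolve_left
      (Pπ _ (e ▸ (tπ.mul_left _).mul_left _))
    rw [e] at h4
    have := ev_inj_cancel ha.1.1 hz h4
    rw [map_mul, aeval_C, ← Algebra.smul_def, smul_mul_assoc, smul_eq_zero] at this
    exact this.resolve_left (neg_ne_zero.2 h2)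
  have XR : X ∈ R := by
    obtain ⟨ρ, h1, e1⟩ := surjR (AdjoinRoot.root π)
    have h4 : ρ * u - 1 ∈ I := SI _ (RS _ (R.sub_mem (R.mul_mem h1 uR) R.one_mem)) (AdjoinRoot.mk_eq_zero.1 (by
      rw [map_sub, map_mul, hu, e1, mul_inv_cancel₀ r0, map_one, sub_self]))
    intro g hg
    rw [show X * g = ρ * g + (-(X * g) * (ρ * u - 1) - ρ * g * (1 - u * X)) by ring]
    exact S.add_mem (h1 g hg) (IS _ (I.sub_mem (I.mul_mem_left _ h4) (I.mul_mem_left _ tI)))
  have Rtop : ∀ f, f ∈ R := by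
    intro f
    induction f using Polynomial.induction_on' with
    | add p q hp hq => exact R.add_mem hp hq
    | monomial n c => rw [← C_mul_X_pow_eq_monomial]; exact R.mul_mem (R.algebraMap_mem c) (R.pow_mem XR n)
  refine ⟨π, π1, πX, fun f => ⟨fun hf => (Dvd.intro _ hh.symm).trans ((memI' f).1 hf),
    fun hf => SI f (RS f (Rtop f)) hf⟩, fun f => RS f (Rtop f), fun f => ?_, u, ?_⟩
  · have := QT.neg (QT.conj (RS f (Rtop f)) wG)
    have t0 := (memI _).1 tI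
    rw [← (Psi_comm ha.1.1 hb.1 w f).left_comm, Psi_mul_a, w00, t0, w10, divX_X_mul', mul_assoc, zero_add,
      mul_assoc, mul_assoc, a_mul_Psi_inv, w00, t0, w10, divX_X_mul'] at this
    convert this using 1
    rw [map_mul, aeval_X, mul_assoc, add_comm, z_mul_a hb.1]
    simp [mul_assoc]
  · have := (memI _).1 tI
    rw [map_sub, sub_mul, map_one, one_mul, sub_eq_zero] at this
    exact this.symm

theorem not_nil_of_ne (h2 : (2 : k) ≠ 0) {a b : End k M} (ha : a ∈ QTd G) (hb : b ∈ QT G)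
    (h : a * b * a ≠ 0) : ¬ IsNilpotent (a * b + b * a) := fun ⟨_, hn⟩ => h (lemmaU h2 ha hb hn)

theorem opp_symm (h2 : (2 : k) ≠ 0) (h3 : Nat.card k ≠ 3) {a b : End k M} (ha : a ∈ QTd G) (hb : b ∈ QTd G)
    (h : a * b * a ≠ 0) : b * a * b ≠ 0 := by
  intro e
  have := claimA h2 h3 hb a ha.1 (by rw [add_comm]; exact not_nil_of_ne h2 ha hb.1 h)
  rw [z_mul_a hb.1.1, e, LinearMap.ker_zero, eq_comm, LinearMap.ker_eq_top] at this
  exact hb.2.1 this

theorem opp_ker (h2 : (2 : k) ≠ 0) (h3 : Nat.card k ≠ 3) {a b : End k M} (ha : a ∈ QTd G) (hb : b ∈ QT G)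
    (h : a * b * a ≠ 0) : LinearMap.ker (a * b * a) = LinearMap.ker a := by
  rw [← z_mul_a ha.1.1]; exact claimA h2 h3 ha b hb (not_nil_of_ne h2 ha hb h)

/-- the `SL₂` attached to an opposite pair -/
theorem exists_sl2 (h2 : (2 : k) ≠ 0) (h3 : Nat.card k ≠ 3) {a b : End k M} (ha : a ∈ QTd G) (hb : b ∈ QTd G)
    (h : a * b * a ≠ 0) : ∃ (π : k[X]) (_ : Fact (Irreducible π)) (φ : SL(2, AdjoinRoot π) →* (End k M)ˣ),
      ¬ π ∣ X ∧ Function.Injective φ ∧ (∀ f : k[X], ev a b f * a ∈ QT G) ∧ (∀ f : k[X], ev a b f * b ∈ QT G) ∧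
      (∀ f : k[X], (φ (up (AdjoinRoot.mk π f)) : End k M) = 1 + ev a b f * a) ∧
      (∀ f : k[X], (φ (lo (AdjoinRoot.mk π (X * f))) : End k M) = 1 + ev a b f * b) ∧
      φ.range = (DD k).map (Psi ha.1.1 hb.1.1) := by
  have hn := not_nil_of_ne h2 ha hb.1 h
  obtain ⟨π, π1, π2, π3, π4, -, u, hu⟩ := lemmaK h2 h3 ha hb.1 hn
  obtain ⟨π', -, -, -, π5, -, u', hu'⟩ := lemmaK h2 h3 hb ha.1 (by rwa [add_comm])
  rw [ev_swap] at π5 hu'
  have : Fact (Irreducible π) := ⟨π1⟩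
  have ca := ev_comm_a (k := k) (b := b) ha.1.1
  have cb := ev_comm_b (k := k) (a := a) hb.1.1
  have πb : ∀ f : k[X], π ∣ f → ev a b f * b = 0 := by
    intro f hf
    have e : ev a b f * b = ev a b f * (ev a b (u' * X) * b) := by rw [hu']
    have e2 : (a * b + b * a) * b = b * (a * b) := by rw [add_comm, z_mul_a hb.1.1, mul_assoc]
    rw [e, map_mul, aeval_X, mul_assoc, e2, (ev_comm f u').left_comm, (cb f).left_comm, ← mul_assoc _ a,
      (π3 f).2 hf]
    simp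
  have hsurj : Function.Surjective (redP π) := by
    rw [← MonoidHom.range_eq_top, eq_top_iff, ← map_redP_DD h2 h3 π π2]
    exact Subgroup.map_le_range _ _
  have red1 : ∀ s, redP π s = 1 ↔ π ∣ en s 0 0 - 1 ∧ π ∣ en s 0 1 ∧ π ∣ en s 1 0 ∧ π ∣ en s 1 1 - 1 := by
    intro s
    simp only [← AdjoinRoot.mk_eq_zero, map_sub, map_one, sub_eq_zero, ← redP_val]
    constructor
    · intro e; rw [e]; simp
    · rintro ⟨e1, e2, e3, e4⟩
      ext i j; fin_cases i <;> fin_cases j <;> simpa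
  have cX : ∀ f : k[X], π ∣ X * f → π ∣ f := fun f hf => (π1.prime.dvd_or_dvd hf).resolve_left π2
  have hker : (redP π).ker ≤ (Psi ha.1.1 hb.1.1).ker := by
    intro s hs
    obtain ⟨e1, e2, e3, e4⟩ := (red1 s).1 hs
    rw [MonoidHom.mem_ker]
    ext1
    obtain ⟨t, ht⟩ := s.2.2.2
    have ht' := cX t (ht ▸ e4)
    rw [Psi_val, (π3 _).2 e2, πb _ (cX _ (by rwa [en10])), ← mul_assoc, (π3 _).2 (cX _ (by
      rw [en00]; simpa using dvd_sub e1 e4)), show en s 1 1 = 1 + t * X by linear_combination ht, map_add,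
      map_mul, aeval_X, mul_add, ← mul_assoc, ← mul_assoc, (π3 _).2 ht', πb _ ht']
    simp
  let φ := (redP π).liftOfSurjective hsurj ⟨_, hker⟩
  have hφ : ∀ s, φ (redP π s) = Psi ha.1.1 hb.1.1 s := fun s =>
    MonoidHom.liftOfRightInverse_comp_apply _ _ _ _ _
  refine ⟨π, this, φ, π2, ?_, π4, π5, fun f => by rw [← redP_upP, hφ, Psi_upP],
    fun f => by rw [← redP_loP, hφ, Psi_loP], ?_⟩
  · rw [injective_iff_map_eq_one]
    intro x hx
    obtain ⟨s, rfl⟩ := hsurj x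
    rw [hφ] at hx
    have e1 := a_Psi_a ha.1.1 hb.1.1 s
    have e2 := Psi_mul_a ha.1.1 hb.1.1 s
    have e3 := a_mul_Psi ha.1.1 hb.1.1 s
    have e4 := b_Psi_b ha.1.1 hb.1.1 s
    rw [hx, Units.val_one] at e1 e2 e3 e4
    rw [mul_one, ha.1.1] at e1
    have r := (π3 _).1 e1.symm
    have γ := cX _ (by rwa [en10])
    rw [← mul_assoc, πb _ γ, zero_mul, add_zero, one_mul] at e2
    rw [← mul_assoc, (π3 _).2 γ, zero_mul, add_zero, mul_one] at e3
    rw [mul_one, hb.1.1] at e4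
    refine (red1 s).2 ⟨(π3 _).1 (by rw [map_sub, sub_mul, ← e2]; simp), ?_, r,
      (π3 _).1 (by rw [map_sub, sub_mul, ← e3]; simp)⟩
    refine cX _ (cX _ ((π3 _).1 ?_))
    have : a * (ev a b (en s 0 1 * X) * b) * a = 0 := by rw [← e4]; simp
    rw [← (ca _).left_comm, mul_assoc, ← z_mul_a ha.1.1, ← mul_assoc] at this
    rw [show X * (X * en s 0 1) = en s 0 1 * X * X by ring, map_mul _ _ X, aeval_X, this]
  · rw [MonoidHom.range_eq_map, ← map_redP_DD h2 h3 π π2, Subgroup.map_map]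
    congr 1
    ext1 s; exact hφ s

theorem map_Psi_DD {a b : End k M} (ha : a * a = 0) (hb : b * b = 0) :
    (DD k).map (Psi ha hb) = Subgroup.closure (scalarFamily (U1 a ha) ∪ scalarFamily (U1 b hb)) := by
  rw [DD, MonoidHom.map_closure]
  congr 1
  ext g
  constructor
  · rintro ⟨_, (⟨c, rfl⟩ | ⟨c, rfl⟩), rfl⟩
    · exact Or.inl ⟨c, by rw [Psi_upP]; simp [Algebra.smul_def]⟩
    · exact Or.inr ⟨c, by rw [Psi_loP]; simp [Algebra.smul_def]⟩
  · rintro (⟨c, hc⟩ | ⟨c, hc⟩)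
    · exact ⟨_, Or.inl ⟨c, rfl⟩, Units.ext (by rw [Psi_upP, hc]; simp [Algebra.smul_def])⟩
    · exact ⟨_, Or.inr ⟨c, rfl⟩, Units.ext (by rw [Psi_loP, hc]; simp [Algebra.smul_def])⟩

theorem three_lt_card (h2 : (2 : k) ≠ 0) (h3 : Nat.card k ≠ 3) (K : Type*) [Field K] [Algebra k K] :
    3 < ENat.card K := by
  obtain ⟨c, c0, c1⟩ := exists_sq_ne_one h2 h3
  rw [ne_eq, sq_eq_one_iff, not_or] at c1
  have : Function.Injective (fun i : Fin 4 => algebraMap k K (![0, 1, -1, c] i)) := by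
    refine (algebraMap k K).injective.comp ?_
    have h4 : (1 : k) ≠ -1 := fun e => h2 (by linear_combination e)
    intro i j
    fin_cases i <;> fin_cases j <;> simp [c0, c1, h4, h4.symm, c0.symm, Ne.symm c1.1, Ne.symm c1.2]
  have := ENat.card_le_card_of_injective this
  simp only [ENat.card_eq_coe_fintype_card, Fintype.card_fin] at this
  exact lt_of_lt_of_le (by norm_num) this

/-- the sub-pair of type `SL₂(K)` -/
theorem exists_psl2 (h2 : (2 : k) ≠ 0) (h3 : Nat.card k ≠ 3) {a b : End k M} (ha : a ∈ QTd G) (hb : b ∈ QTd G)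
    (h : a * b * a ≠ 0) : ∃ A₀ B₀ : Subgroup (End k M)ˣ, A₀ ≤ EG G a ∧ B₀ ≤ EG G b ∧ U1 a ha.1.1 ∈ ⁅A₀ ⊔ B₀, A₀ ⊔ B₀⁆ ∧
      ∃ (π : k[X]) (_ : Fact (Irreducible π)), IsPSL2PairOver (AdjoinRoot π) A₀ B₀ := by
  obtain ⟨π, _, φ, πX, h4, h5, h6, h7, h8, -⟩ := exists_sl2 h2 h3 ha hb h
  have r0 : AdjoinRoot.root π ≠ 0 := fun e => πX (AdjoinRoot.mk_eq_zero.1 e)
  have hr : φ.range = (upperUnipotentSL2 _).map φ ⊔ (lowerUnipotentSL2 _).map φ := by
    rw [← Subgroup.map_sup, sup_comm, lower_sup_upper, MonoidHom.range_eq_map]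
  refine ⟨(upperUnipotentSL2 _).map φ, (lowerUnipotentSL2 _).map φ, ?_, ?_, ?_, π, inferInstance, φ, hr,
    by rw [φ.ker_eq_bot_iff.2 h4]; exact bot_le, rfl, rfl⟩
  · rintro _ ⟨g, hg, rfl⟩
    obtain ⟨t, rfl⟩ := mem_upper.1 hg
    obtain ⟨f, rfl⟩ := AdjoinRoot.mk_surjective t
    rw [mem_EG, h7, add_sub_cancel_left]
    exact EE.mk' ha.1.1 (h5 f) rfl (ev_comm_a ha.1.1 f).eq
  · rintro _ ⟨g, hg, rfl⟩
    obtain ⟨t, rfl⟩ := mem_lower.1 hg
    obtain ⟨f, hf⟩ := AdjoinRoot.mk_surjective ((AdjoinRoot.root π)⁻¹ * t)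
    have : t = AdjoinRoot.mk π (X * f) := by rw [map_mul, hf, AdjoinRoot.mk_X, mul_inv_cancel_left₀ r0]
    rw [this, mem_EG, h8, add_sub_cancel_left]
    exact EE.mk' hb.1.1 (h6 f) rfl (ev_comm_b hb.1.1 f).eq
  · obtain ⟨c, c0, c1⟩ := exists_sq_ne_one h2 h3
    have hp : commutator SL(2, AdjoinRoot π) = ⊤ :=
      Matrix.SL2.commutator_eq_top (a := algebraMap k _ c) (by simpa using c0) (by
        rw [← map_pow, ← map_one (algebraMap k (AdjoinRoot π))]; exact fun e => c1 ((algebraMap k _).injective e))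
    rw [← hr, MonoidHom.range_eq_map, ← Subgroup.map_commutator, ← commutator_def, hp]
    exact ⟨_, trivial, Units.ext (by simpa using h7 1)⟩

theorem exists_partner (h2 : (2 : k) ≠ 0) (h3 : Nat.card k ≠ 3) {a b : End k M} (ha : a ∈ QTd G)
    (hb : b ∈ QTd G) (h : a * b * a ≠ 0) : ∃ y ∈ EE G b, a * y * a = a ∧ y * a * y = y := by
  have hn := not_nil_of_ne h2 ha hb.1 h
  obtain ⟨-, -, -, -, -, -, u, hu⟩ := lemmaK h2 h3 ha hb.1 hn
  obtain ⟨π', -, -, -, π5, -, u', hu'⟩ := lemmaK h2 h3 hb ha.1 (by rwa [add_comm])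
  rw [ev_swap] at π5 hu'
  have ca := ev_comm_a (k := k) (b := b) ha.1.1
  have cb := ev_comm_b (k := k) (a := a) hb.1.1
  have e : a * (ev a b u * b) * a = a := by
    rw [← (ca u).left_comm, mul_assoc, ← z_mul_a ha.1.1, ← mul_assoc]
    simpa using hu
  have hy : ev a b u * b ∈ EE G b := EE.mk' hb.1.1 (π5 u) rfl (cb u).eq
  refine ⟨_, hy, e, ?_⟩
  have e2 : (a * b + b * a) * b = b * (a * b) := by rw [add_comm, z_mul_a hb.1.1, mul_assoc]
  have h4 : ev a b (u * X) * b = b := by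
    have e3 : ev a b (u * X) * b = ev a b (u * X) * (ev a b (u' * X) * b) := by rw [hu']
    rw [e3, map_mul _ u', aeval_X, mul_assoc, e2, (ev_comm _ u').left_comm, (cb _).left_comm, ← mul_assoc _ a,
      hu, ← e2, ← mul_assoc]
    simpa using hu'
  rw [map_mul, aeval_X, mul_assoc, e2] at h4
  rw [mul_assoc, mul_assoc, ← (ca u).left_comm, ← (cb u).left_comm, h4]

end Cfsg.Agent.H29
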