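import Mathlib
import Cfsg.Agent.H29.Quad4

/-! Quadratic pairs V: opposite and non-opposite pairs. -/

set_option autoImplicit false
open Cfsg Module Polynomial
open scoped MatrixGroups commutatorElement

namespace Cfsg.Agent.H29

variable {k : Type*} [Field k] {M : Type*} [AddCommGroup M] [Module k M] {G : Subgroup (End k M)ˣ}

theorem two_ne_of_ringChar (h : ringChar k ≠ 2) : (2 : k) ≠ 0 := Ring.two_ne_zero h

theorem triple_zero {a x x' u : End k M} (hx : x ∈ EE G a) (hx' : x' ∈ EE G a) (h : a * u * a = 0) :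
    x * u * x' = 0 := by
  have h1 : x * (u * a) = 0 := mul_eq_zero_of_ker_le hx.2.1 (by rwa [← mul_assoc])
  exact mul_eq_zero_of_range_le hx'.2.2.1 (by rwa [mul_assoc])

theorem EE.left {a x u : End k M} (hx : x ∈ EE G a) (h : a * u = 0) : x * u = 0 :=
  mul_eq_zero_of_ker_le hx.2.1 h

theorem EE.right {a x u : End k M} (hx : x ∈ EE G a) (h : u * a = 0) : u * x = 0 :=
  mul_eq_zero_of_range_le hx.2.2.1 h

theorem U1_conj {x : End k M} (hx : x * x = 0) (g : (End k M)ˣ) :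
    ((g * U1 x hx * g⁻¹ : (End k M)ˣ) : End k M) = 1 + (g : End k M) * x * ((g⁻¹ : (End k M)ˣ) : End k M) := by
  simp [mul_add, add_mul]

theorem cube_sup {A : Type*} [Ring A] [Algebra k A] {P : Submodule k A} (h : P * P * P = ⊥) :
    (P ⊔ P * P) * (P ⊔ P * P) ≤ P * P ∧ (P ⊔ P * P) ^ 3 = ⊥ := by
  have h1 : (P ⊔ P * P) * (P ⊔ P * P) = P * P := by
    simp only [Submodule.mul_sup, Submodule.sup_mul, ← mul_assoc, h, Submodule.bot_mul, sup_bot_eq]
  refine ⟨h1.le, ?_⟩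
  rw [pow_three', h1]
  simp only [Submodule.mul_sup, ← mul_assoc, h, Submodule.bot_mul, sup_bot_eq]

variable [FiniteDimensional k M]

theorem EE.self' {a x : End k M} (ha : a ∈ QTd G) (hx : x ∈ EE G a) (x0 : x ≠ 0) : a ∈ EE G x := by
  rw [EE.eq ha hx x0]; exact EE.self ha.1

variable (h2 : (2 : k) ≠ 0) (h3 : Nat.card k ≠ 3)
include h2 h3

theorem nopp_symm {a b : End k M} (ha : a ∈ QTd G) (hb : b ∈ QTd G) (h : a * b * a = 0) : b * a * b = 0 := by
  by_contra e; exact opp_symm h2 h3 hb ha e h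

theorem nopp_all {a b x x' y : End k M} (ha : a ∈ QTd G) (hb : b ∈ QTd G) (h : a * b * a = 0)
    (hx : x ∈ EE G a) (hx' : x' ∈ EE G a) (hy : y ∈ EE G b) : x * y * x' = 0 := by
  by_cases y0 : y = 0
  · simp [y0]
  exact triple_zero hx hx' (nopp_symm h2 h3 (EE.mem_QTd hb hy y0) ha
    (triple_zero hy hy (nopp_symm h2 h3 ha hb h)))

theorem opp_class {a b x y : End k M} (ha : a ∈ QTd G) (hb : b ∈ QTd G) (h : a * b * a ≠ 0)
    (hx : x ∈ EE G a) (x0 : x ≠ 0) (hy : y ∈ EE G b) (y0 : y ≠ 0) : x * y * x ≠ 0 := fun e =>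
  h (nopp_all h2 h3 (EE.mem_QTd ha hx x0) (EE.mem_QTd hb hy y0) e (EE.self' ha hx x0) (EE.self' ha hx x0)
    (EE.self' hb hy y0))

theorem nopp_cube {a b : End k M} (ha : a ∈ QTd G) (hb : b ∈ QTd G) (h : a * b * a = 0) :
    (EE G a ⊔ EE G b) * (EE G a ⊔ EE G b) * (EE G a ⊔ EE G b) = ⊥ := by
  have e1 : ∀ a : End k M, EE G a * EE G a = ⊥ := fun a =>
    eq_bot_iff.2 (Submodule.mul_le.2 fun x hx y hy => EE.mul hx hy)
  have e2 : ∀ {a b : End k M}, a ∈ QTd G → b ∈ QTd G → a * b * a = 0 → EE G a * EE G b * EE G a = ⊥ := by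
    intro a b ha hb h
    rw [eq_bot_iff, Submodule.mul_le]
    intro u hu x' hx'
    refine Submodule.mul_induction_on hu (fun x hx y hy => nopp_all h2 h3 ha hb h hx hx' hy) ?_
    intro u v hu hv
    rw [add_mul]; exact Submodule.add_mem _ hu hv
  simp only [Submodule.mul_sup, Submodule.sup_mul, e1, e2 ha hb h, e2 hb ha (nopp_symm h2 h3 ha hb h),
    Submodule.bot_mul, sup_bot_eq, bot_sup_eq]
  simp only [mul_assoc, e1, Submodule.mul_bot, sup_bot_eq]

theorem nopp_Lsp {a b : End k M} (ha : a ∈ QTd G) (hb : b ∈ QTd G) (h : a * b * a = 0) :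
    Lsp k (EG G a ⊔ EG G b) ≤ (EE G a ⊔ EE G b) ⊔ (EE G a ⊔ EE G b) * (EE G a ⊔ EE G b) :=
  Lsp_sup_le ((cube_sup (nopp_cube h2 h3 ha hb h)).1.trans le_sup_right)
    ((Lsp_EG_le a).trans (le_sup_left.trans le_sup_left)) ((Lsp_EG_le b).trans (le_sup_right.trans le_sup_left))

theorem nopp_unip {a b : End k M} (ha : a ∈ QTd G) (hb : b ∈ QTd G) (h : a * b * a = 0) :
    Unip k (EG G a ⊔ EG G b) :=
  Unip.of_le_sub (nopp_Lsp h2 h3 ha hb h) (cube_sup (nopp_cube h2 h3 ha hb h)).2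

omit h3 in
theorem nopp_of_unip {a b : End k M} (ha : a ∈ QTd G) (hb : b ∈ QT G) {H : Subgroup (End k M)ˣ}
    (h : Unip k H) (h4 : U1 a ha.1.1 ∈ H) (h5 : U1 b hb.1 ∈ H) : a * b * a = 0 := by
  obtain ⟨n, hn⟩ := h
  have e1 : a ∈ Lsp k H := by simpa using sub_one_mem_Lsp (k := k) h4
  have e2 : b ∈ Lsp k H := by simpa using sub_one_mem_Lsp (k := k) h5
  have e3 : a * b + b * a ∈ Lsp k H :=
    Submodule.add_mem _ (Lsp_mul_le H (Submodule.mul_mem_mul e1 e2)) (Lsp_mul_le H (Submodule.mul_mem_mul e2 e1))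
  refine lemmaU h2 (n := n) ha hb ?_
  have := Submodule.pow_mem_pow _ e3 n
  rwa [hn] at this

omit h3 in
theorem nopp_of_unip' {a b : End k M} (ha : a ∈ QTd G) (hb : b ∈ QT G) (h : Unip k (EG G a ⊔ EG G b)) :
    a * b * a = 0 := nopp_of_unip h2 ha hb h (Subgroup.mem_sup_left (U1_mem_EG (EE.self ha.1)))
      (Subgroup.mem_sup_right (U1_mem_EG (EE.self hb)))

theorem exists_partner' {a b x : End k M} (ha : a ∈ QTd G) (hb : b ∈ QTd G) (h : a * b * a ≠ 0)
    (hx : x ∈ EE G a) (x0 : x ≠ 0) : ∃ y ∈ EE G b, y ≠ 0 ∧ x * y * x = x ∧ y * x * y = y := by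
  obtain ⟨y, hy, e1, e2⟩ := exists_partner h2 h3 (EE.mem_QTd ha hx x0) hb
    (opp_class h2 h3 ha hb h hx x0 (EE.self hb.1) hb.2.1)
  exact ⟨y, hy, by rintro rfl; exact x0 (by simpa using e1.symm), e1, e2⟩

omit h2 h3 in
theorem partner_conj {a b x y : End k M} (ha : a ∈ QTd G) (hb : b ∈ QTd G) (hx : x ∈ EE G a) (x0 : x ≠ 0)
    (hy : y ∈ EE G b) (y0 : y ≠ 0) (e1 : x * y * x = x) (e2 : y * x * y = y) :
    conjBy (EG G a) (U1 y hy.1.1)⁻¹ = conjBy (EG G b) (U1 x hx.1.1)⁻¹ := by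
  rw [← EG.eq ha hx x0, ← EG.eq hb ((EE G b).neg_mem hy) (neg_ne_zero.2 y0),
    conjBy_EG (G.inv_mem (QT.U1_mem hy.1)), conjBy_EG (G.inv_mem (QT.U1_mem hx.1))]
  congr 1
  simp only [inv_inv, U1_val, U1_inv]
  calc _ = x - y * x + x * y - y * x * y := by noncomm_ring
    _ = -y + x * y - y * x + x * y * x := by rw [e1, e2]; abel
    _ = _ := by noncomm_ring

theorem opp_cond {a b : End k M} (ha : a ∈ QTd G) (hb : b ∈ QTd G) (h : a * b * a ≠ 0) :
    RankOneCondition (EG G a) (EG G b) := by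
  intro g hg g1
  obtain ⟨x, hx, rfl⟩ := EG_ex hg
  have x0 : x ≠ 0 := fun e => g1 ((U1_eq_one _).2 e)
  obtain ⟨y, hy, y0, e1, e2⟩ := exists_partner' h2 h3 ha hb h hx x0
  exact ⟨_, U1_mem_EG hy, fun e => y0 ((U1_eq_one _).1 e), partner_conj ha hb hx x0 hy y0 e1 e2⟩

theorem opp_r1 {a b : End k M} (ha : a ∈ QTd G) (hb : b ∈ QTd G) (h : a * b * a ≠ 0) :
    IsRankOnePair (EG G a) (EG G b) := by
  refine ⟨fun e => h ?_, nilpotent_of_isMulCommutative (EG_comm a), nilpotent_of_isMulCommutative (EG_comm b),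
    opp_cond h2 h3 ha hb h, opp_cond h2 h3 hb ha (opp_symm h2 h3 ha hb h)⟩
  rw [EG_eq_iff] at e
  rw [EE.mul (EE.self ha.1) (e ▸ EE.self hb.1), zero_mul]

theorem opp_special {a b : End k M} (ha : a ∈ QTd G) (hb : b ∈ QTd G) (h : a * b * a ≠ 0) :
    IsSpecialRankOnePair (EG G a) (EG G b) := by
  refine ⟨opp_r1 h2 h3 ha hb h, fun g hg g1 f hf _ e => ?_⟩
  obtain ⟨x, hx, rfl⟩ := EG_ex hg
  have x0 : x ≠ 0 := fun e => g1 ((U1_eq_one _).2 e)
  obtain ⟨y, hy, y0, e1, e2⟩ := exists_partner' h2 h3 ha hb h hx x0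
  have := r1_conjBy_inj (r1_symm (opp_r1 h2 h3 ha hb h)) (Subgroup.inv_mem _ hf)
    (Subgroup.inv_mem _ (U1_mem_EG hy)) (e.trans (partner_conj ha hb hx x0 hy y0 e1 e2).symm)
  rw [inv_inj.1 this]
  ext1
  simp only [Units.val_mul, U1_val, U1_inv]
  calc _ = 1 - y * y + (x - y * x + x * y - y * x * y) := by noncomm_ring
    _ = 1 - x * x + (-y + x * y - y * x + x * y * x) := by rw [e1, e2, hx.1.1, hy.1.1]; abel
    _ = _ := by noncomm_ring

theorem opp_of_r1 {a b : End k M} (ha : a ∈ QTd G) (hb : b ∈ QTd G) (h : IsRankOnePair (EG G a) (EG G b)) :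
    a * b * a ≠ 0 := by
  intro e
  apply r1_not_nilpotent h
  have hc := cube_sup (nopp_cube h2 h3 ha hb e)
  have := lcs_sub_one (hc.1.trans le_sup_right) (nopp_Lsp h2 h3 ha hb e) 2
  rw [hc.2] at this
  have h4 : (EG G a ⊔ EG G b).lowerCentralSeries 2 = ⊥ := by
    rw [eq_bot_iff]
    intro g hg
    have := this (sub_one_mem_Lsp hg)
    rw [Submodule.mem_bot, sub_eq_zero] at this
    exact Units.ext this
  rw [← Subgroup.top_subtype_lowerCentralSeries, Subgroup.map_eq_bot_iff_of_injective _ (Subgroup.subtype_injective _)] at h4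
  exact Subgroup.nilpotent_iff_lowerCentralSeries.2 ⟨2, h4⟩

theorem r1_iff {a b : End k M} (ha : a ∈ QTd G) (hb : b ∈ QTd G) :
    IsRankOnePair (EG G a) (EG G b) ↔ a * b * a ≠ 0 := ⟨opp_of_r1 h2 h3 ha hb, opp_r1 h2 h3 ha hb⟩

theorem s5064 {σ τ : (End k M)ˣ} (hσ : (σ : End k M) - 1 ∈ QTd G) (hτ : (τ : End k M) - 1 ∈ QTd G)
    (hH : ¬ Unip k (Subgroup.closure (scalarFamily σ ∪ scalarFamily τ))) :
    ∃ (π : k[X]) (_ : Fact (Irreducible π)),
      Nonempty (↥(Subgroup.closure (scalarFamily σ ∪ scalarFamily τ)) ≃* SL(2, AdjoinRoot π)) := by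
  have e : ∀ {σ : (End k M)ˣ} (hσ : (σ : End k M) - 1 ∈ QTd G), U1 _ hσ.1.1 = σ := fun _ => Units.ext (by simp)
  have h : ((σ : End k M) - 1) * ((τ : End k M) - 1) * ((σ : End k M) - 1) ≠ 0 := by
    intro h
    refine hH (Unip.mono ?_ (nopp_unip h2 h3 hσ hτ h))
    rw [Subgroup.closure_le]
    rintro g (⟨c, hc⟩ | ⟨c, hc⟩)
    · exact Subgroup.mem_sup_left (by
        rw [mem_EG, hc, add_sub_cancel_left]; exact Submodule.smul_mem _ _ (EE.self hσ.1))
    · exact Subgroup.mem_sup_right (by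
        rw [mem_EG, hc, add_sub_cancel_left]; exact Submodule.smul_mem _ _ (EE.self hτ.1))
  obtain ⟨π, _, φ, -, h4, -, -, -, -, h5⟩ := exists_sl2 h2 h3 hσ hτ h
  rw [map_Psi_DD, e hσ, e hτ] at h5
  exact ⟨π, inferInstance, ⟨(MulEquiv.subgroupCongr h5.symm).trans (MonoidHom.ofInjective h4).symm⟩⟩

omit h2 h3 [FiniteDimensional k M] in
theorem partner_idem {A : Type*} [Ring A] {x y : A} (hx : x * x = 0) (hy : y * y = 0) (e1 : x * y * x = x)
    (e2 : y * x * y = y) : (x * y + y * x) * (x * y + y * x) = x * y + y * x ∧ (x * y + y * x) * x = x ∧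
      x * (x * y + y * x) = x ∧ (x * y + y * x) * y = y ∧ y * (x * y + y * x) = y := by
  have a1 : (x * y + y * x) * x = x := by rw [z_mul_a hx, e1]
  have a2 : x * (x * y + y * x) = x := by rw [a_mul_z hx, e1]
  have a3 : (x * y + y * x) * y = y := by rw [add_comm, z_mul_a hy, e2]
  have a4 : y * (x * y + y * x) = y := by rw [add_comm, a_mul_z hy, e2]
  exact ⟨by rw [mul_add, ← mul_assoc, ← mul_assoc, a1, a3], a1, a2, a3, a4⟩

omit h2 h3 [FiniteDimensional k M] in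
theorem w_val {A : Type*} [Ring A] {x y : A} (hx : x * x = 0) (hy : y * y = 0) (e1 : x * y * x = x) :
    ((U1 x hx * (U1 y hy)⁻¹ * U1 x hx : Aˣ) : A) = 1 - (x * y + y * x) + x - y := by
  simp only [Units.val_mul, U1_val, U1_inv]
  calc _ = 1 + x - y - x * y + x + x * x - y * x - x * y * x := by noncomm_ring
    _ = _ := by rw [hx, e1]; abel

omit h2 h3 [FiniteDimensional k M] in
theorem w_sq {A : Type*} [Ring A] {x y : A} (hx : x * x = 0) (hy : y * y = 0) (e1 : x * y * x = x)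
    (e2 : y * x * y = y) : (((U1 x hx * (U1 y hy)⁻¹ * U1 x hx) ^ 2 : Aˣ) : A) = 1 - 2 * (x * y + y * x) := by
  obtain ⟨a0, a1, a2, a3, a4⟩ := partner_idem hx hy e1 e2
  rw [Units.val_pow_eq_pow_val, w_val hx hy e1, sq]
  set e := x * y + y * x with he
  calc _ = 1 - 2 * e + e * e + 2 * x - e * x - x * e - 2 * y + e * y + y * e + x * x + y * y - (x * y + y * x) := by
        noncomm_ring
    _ = _ := by rw [a0, a1, a2, a3, a4, hx, hy, ← he]; noncomm_ring

theorem s5065 {a b : End k M} (ha : a ∈ QTd G) (hb : b ∈ QTd G) (h : a * b * a ≠ 0) :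
    (∃! i : (End k M)ˣ, i ∈ EG G a ⊔ EG G b ∧ i ≠ 1 ∧ i * i = 1 ∧ (∀ x ∈ EG G a ⊔ EG G b, i * x = x * i) ∧
        (∀ m ∈ commutatorSubmodule (EG G a ⊔ EG G b), (i : M →ₗ[k] M) m = -m) ∧
        (∀ m ∈ fixedSubmodule (EG G a ⊔ EG G b), (i : M →ₗ[k] M) m = m)) ∧
      IsCompl (fixedSubmodule (EG G a ⊔ EG G b)) (commutatorSubmodule (EG G a ⊔ EG G b)) := by
  obtain ⟨y, hy, y0, e1, e2⟩ := exists_partner' h2 h3 ha hb h (EE.self ha.1) ha.2.1
  obtain ⟨a0, a1, a2, a3, a4⟩ := partner_idem ha.1.1 hy.1.1 e1 e2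
  have hw := w_sq ha.1.1 hy.1.1 e1 e2
  set e := a * y + y * a with he
  let L : Submodule k (End k M) :=
    { carrier := {u | e * u = u ∧ u * e = u}
      add_mem' := fun {u v} hu hv => ⟨by rw [mul_add, hu.1, hv.1], by rw [add_mul, hu.2, hv.2]⟩
      zero_mem' := by simp
      smul_mem' := fun c u hu => ⟨by rw [mul_smul_comm, hu.1], by rw [smul_mul_assoc, hu.2]⟩ }
  have hL : ∀ {c : End k M}, e * c = c → c * e = c → EE G c ≤ L := fun {c} c1 c2 u hu =>
    ⟨by have := EE.right hu (u := e - 1) (by rw [sub_mul, c1]; simp); rwa [sub_mul, one_mul, sub_eq_zero] at this,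
     by have := EE.left hu (u := e - 1) (by rw [mul_sub, c2]; simp); rwa [mul_sub, mul_one, sub_eq_zero] at this⟩
  have hX : Lsp k (EG G a ⊔ EG G b) ≤ L := Lsp_sup_le (Submodule.mul_le.2 fun u hu v hv =>
      ⟨by rw [← mul_assoc, hu.1], by rw [mul_assoc, hv.2]⟩) ((Lsp_EG_le a).trans (hL a1 a2))
    ((Lsp_EG_le b).trans (by rw [← EE.eq hb hy y0]; exact hL a3 a4))
  have ma : U1 a ha.1.1 ∈ EG G a ⊔ EG G b := Subgroup.mem_sup_left (U1_mem_EG (EE.self ha.1))
  have my : U1 y hy.1.1 ∈ EG G a ⊔ EG G b := Subgroup.mem_sup_right (U1_mem_EG hy)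
  have f1 : fixedSubmodule (EG G a ⊔ EG G b) = LinearMap.ker e := by
    apply le_antisymm
    · intro m hm
      simp only [fixedSubmodule, Submodule.mem_iInf] at hm
      have m1 := hm _ ma
      have m2 := hm _ my
      simp only [U1_val, add_sub_cancel_left, LinearMap.mem_ker] at m1 m2
      simp [he, m1, m2]
    · refine le_iInf₂ fun g hg => ?_
      rw [← (hX (sub_one_mem_Lsp hg)).2]; exact ker_le_mul _ _
  have f2 : commutatorSubmodule (EG G a ⊔ EG G b) = LinearMap.range e := by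
    apply le_antisymm
    · refine iSup₂_le fun g hg => ?_
      rw [← (hX (sub_one_mem_Lsp hg)).1]; exact range_mul_le _ _
    · rintro _ ⟨m, rfl⟩
      refine Submodule.add_mem _ (Submodule.mem_iSup_of_mem (U1 a ha.1.1) (Submodule.mem_iSup_of_mem ma ?_))
        (Submodule.mem_iSup_of_mem (U1 y hy.1.1) (Submodule.mem_iSup_of_mem my ?_))
      · exact ⟨y m, by simp⟩
      · exact ⟨a m, by simp⟩
  rw [f1, f2]
  have ee : ∀ m, e (e m) = e m := fun m => by rw [← Module.End.mul_apply, a0]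
  refine ⟨⟨_, ⟨Subgroup.pow_mem _ (Subgroup.mul_mem _ (Subgroup.mul_mem _ ma (Subgroup.inv_mem _ my)) ma) 2,
    fun h1 => ?_, Units.ext ?_, fun g hg => Units.ext ?_, ?_, fun m hm => ?_⟩, ?_⟩,
    (LinearMap.IsIdempotentElem.isCompl a0).symm⟩
  · rw [h1, Units.val_one, eq_comm, sub_eq_self] at hw
    have : (2 : k) • a = 0 := by rw [← a1, two_smul, ← add_mul, ← two_mul, hw, zero_mul]
    exact ha.2.1 ((smul_eq_zero.1 this).resolve_left h2)
  · rw [Units.val_mul, hw, Units.val_one]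
    calc _ = 1 - 4 * e + 4 * (e * e) := by noncomm_ring
      _ = 1 := by rw [a0]; abel
  · obtain ⟨g1, g2⟩ := hX (sub_one_mem_Lsp hg)
    rw [Units.val_mul, Units.val_mul, hw]
    calc _ = (g : End k M) - 2 * e - 2 * (e * ((g : End k M) - 1)) := by noncomm_ring
      _ = (g : End k M) - 2 * e - 2 * (((g : End k M) - 1) * e) := by rw [g1, g2]
      _ = _ := by noncomm_ring
  · rintro _ ⟨m, rfl⟩
    change ((_ : (End k M)ˣ) : End k M) _ = _
    rw [hw]; simp [ee, two_mul]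
  · change ((_ : (End k M)ˣ) : End k M) _ = _
    rw [hw]; simp [LinearMap.mem_ker.1 hm, two_mul]
  · rintro i ⟨-, -, -, -, i1, i2⟩
    ext1
    rw [hw]
    ext m
    have := i2 (m - e m) (by simp [ee])
    rw [map_sub, i1 _ ⟨m, rfl⟩, sub_neg_eq_add, ← eq_sub_iff_add_eq] at this
    rw [this]; simp [two_mul]; abel

end Cfsg.Agent.H29
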