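import Mathlib
import Cfsg.Prelude.Def_RootSubgroups
import Cfsg.Agent.H29.RankOne

/-! Quadratic modules for rank one groups. -/

set_option autoImplicit false
open Cfsg
open scoped commutatorElement

namespace Cfsg.Agent.H29

variable {G : Type*} [Group G] {A B : Subgroup G}
variable {N : Type*} [AddCommGroup N] [DistribMulAction G N]

/-- `n` is fixed by all elements of `A` -/
def FixBy (A : Subgroup G) (n : N) : Prop := ∀ a ∈ A, a • n = n

theorem FixBy.sub {u v : N} (hu : FixBy A u) (hv : FixBy A v) : FixBy A (u - v) := fun a ha => by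
  rw [smul_sub, hu a ha, hv a ha]
theorem FixBy.add {u v : N} (hu : FixBy A u) (hv : FixBy A v) : FixBy A (u + v) := fun a ha => by
  rw [smul_add, hu a ha, hv a ha]
theorem FixBy.neg {u : N} (hu : FixBy A u) : FixBy A (-u) := fun a ha => by
  rw [smul_neg, hu a ha]

theorem fixBy_conjBy {g : G} {u : N} : FixBy (conjBy A g) u ↔ FixBy A (g⁻¹ • u) := by
  constructor
  · intro h a ha
    have := h _ (conj_mem_conjBy ha g)
    rw [mul_smul, mul_smul] at this
    rw [eq_inv_smul_iff, this]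
  · intro h x hx
    obtain ⟨a, ha, rfl⟩ := mem_conjBy'.1 hx
    rw [mul_smul, mul_smul, h a ha, smul_inv_smul]

theorem fixBy_sup {u : N} : FixBy (A ⊔ B) u ↔ FixBy A u ∧ FixBy B u := by
  constructor
  · intro h
    exact ⟨fun a ha => h a (Subgroup.mem_sup_left ha), fun a ha => h a (Subgroup.mem_sup_right ha)⟩
  · rintro ⟨h1, h2⟩
    have : A ⊔ B ≤ MulAction.stabilizer G u := sup_le h1 h2
    exact fun x hx => this hx

/-- `A` acts quadratically -/
def QuadOn (A : Subgroup G) (N : Type*) [AddCommGroup N] [DistribMulAction G N] : Prop :=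
  ∀ a ∈ A, ∀ n : N, FixBy A (a • n - n)

theorem QuadOn.conj (h : QuadOn A N) (g : G) : QuadOn (conjBy A g) N := by
  intro x hx n
  obtain ⟨a, ha, rfl⟩ := mem_conjBy'.1 hx
  rw [fixBy_conjBy, smul_sub, mul_smul, mul_smul, inv_smul_smul]
  exact h a ha _

theorem r1_quad_right (h : IsRankOnePair A B) (hq : QuadOn A N) : QuadOn B N := by
  obtain ⟨x, -, e⟩ := r1_exists_conj h
  exact e ▸ hq.conj x

/-- the key congruence -/
theorem r1_quad_key (h : IsRankOnePair A B) (hq : QuadOn A N) {a b : G} (ha : a ∈ A) (hb : b ∈ B)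
    (e : conjBy A b = conjBy B a) {u : N} (hu : FixBy A u) :
    FixBy (A ⊔ B) (u - (a • (b • u - u) - (b • u - u))) := by
  have hqB := r1_quad_right h hq
  have h1 : FixBy (conjBy A b) (b • u) := by rw [fixBy_conjBy, inv_smul_smul]; exact hu
  rw [e, fixBy_conjBy] at h1
  set v := a⁻¹ • b • u with hv
  have h2 : a • v = b • u := by rw [hv, smul_inv_smul]
  have h3 : u - (a • v - v) = v - (b • u - u) := by rw [h2]; abel
  have hC : FixBy (A ⊔ B) (u - (a • v - v)) := by
    rw [fixBy_sup]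
    exact ⟨hu.sub (hq a ha v), h3 ▸ h1.sub (hqB b hb u)⟩
  have h4 : a • (v - (b • u - u)) = v - (b • u - u) := by
    rw [← h3]; exact hC a (Subgroup.mem_sup_left ha)
  have h5 : a • (b • u - u) - (b • u - u) = a • v - v := by
    rw [smul_sub a v] at h4
    linear_combination (norm := abel_nf) -h4
  rwa [h5]

/-- the elements acting trivially modulo the fixed points of `X` -/
theorem triv_mod_sup {X : Subgroup G} (hA : ∀ a ∈ A, ∀ n : N, FixBy X (a • n - n))
    (hB : ∀ b ∈ B, ∀ n : N, FixBy X (b • n - n)) (hX : A ⊔ B ≤ X) :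
    ∀ x ∈ A ⊔ B, ∀ n : N, FixBy X (x • n - n) := by
  intro x hx
  rw [Subgroup.sup_eq_closure] at hx
  induction hx using Subgroup.closure_induction'' with
  | one => intro n a _; simp
  | mem y hy => rcases hy with hy | hy; exacts [hA y hy, hB y hy]
  | inv_mem y hy => rcases hy with hy | hy; exacts [hA _ (A.inv_mem hy), hB _ (B.inv_mem hy)]
  | mul y z hy' _ hy hz =>
    intro n
    have : (y * z) • n - n = (y • (z • n) - z • n) + (z • n - n) := by rw [mul_smul]; abel
    rw [this]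
    exact (hy _).add (hz _)

theorem r1_quad_triv (h : IsRankOnePair A B) (hq : QuadOn A N)
    (hF : ∀ u : N, FixBy A u → FixBy (A ⊔ B) u) :
    ∀ x ∈ A ⊔ B, ∀ n : N, FixBy (A ⊔ B) (x • n - n) := by
  apply triv_mod_sup (fun a ha n => hF _ (hq a ha n)) _ le_rfl
  obtain ⟨x, hx, e⟩ := r1_exists_conj h
  intro b hb n
  have h1 := r1_quad_right h hq b hb n
  rw [← e, fixBy_conjBy] at h1
  have h2 := hF _ h1
  have h3 := h2 x hx
  rw [smul_inv_smul] at h3
  rwa [h3]

theorem r1_special_of_quad (h : IsRankOnePair A B) (hq : QuadOn A N)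
    (hX : ∃ x ∈ A ⊔ B, ∃ n : N, ¬ FixBy (A ⊔ B) (x • n - n)) : IsSpecialRankOnePair A B := by
  refine ⟨h, fun a ha ha1 b hb hb1 e => ?_⟩
  have hqB := r1_quad_right h hq
  by_contra hne
  obtain ⟨x, hx, n, hn⟩ := hX
  apply hn
  apply r1_quad_triv h hq _ x hx
  -- the element `c`
  have hc1 : (b⁻¹ * a * b)⁻¹ * (a⁻¹ * b⁻¹ * a) ≠ 1 := by rwa [ne_eq, inv_mul_eq_one]
  have hE : conjBy A b⁻¹ ∈ unipotentSubgroups A B :=
    unip_conj left_mem_unip (Subgroup.mem_sup_right (B.inv_mem hb))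
  have hc : (b⁻¹ * a * b)⁻¹ * (a⁻¹ * b⁻¹ * a) ∈ conjBy A b⁻¹ := by
    apply Subgroup.mul_mem _ (Subgroup.inv_mem _ _)
    · rw [e]; simpa using conj_mem_conjBy (B.inv_mem hb) a⁻¹
    · simpa using conj_mem_conjBy ha b⁻¹
  have hfix : ∀ u : N, FixBy A u → ((b⁻¹ * a * b)⁻¹ * (a⁻¹ * b⁻¹ * a)) • u = u := by
    intro u hu
    rw [mul_smul, inv_smul_eq_iff]
    have k1 := r1_quad_key h hq (A.inv_mem ha) (B.inv_mem hb) e hu
    set β := b⁻¹ • u - u with hβ
    have hβB : FixBy B β := hqB _ (B.inv_mem hb) u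
    set α := a⁻¹ • β - β with hα
    have hαA : FixBy A α := hq _ (A.inv_mem ha) β
    have e1 : b⁻¹ • u = u + β := by rw [hβ]; abel
    have e2 : a⁻¹ • β = β + α := by rw [hα]; abel
    have e3 : b • u = u - β := by
      rw [eq_sub_iff_add_eq, ← hβB b hb, ← smul_add, ← e1, smul_inv_smul]
    have e4 : a • β = β - α := by
      rw [eq_sub_iff_add_eq, ← hαA a ha, ← smul_add, ← e2, smul_inv_smul]
    have e5 : b⁻¹ • α = α + β := by
      have := k1 b⁻¹ (Subgroup.mem_sup_right (B.inv_mem hb))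
      rw [smul_sub, e1] at this
      linear_combination (norm := abel_nf) -this
    simp only [mul_smul]
    rw [hu a ha, e1, smul_add, hu _ (A.inv_mem ha), e2, e3, smul_sub, hu a ha, e4, smul_sub,
      smul_sub, e1, hβB _ (B.inv_mem hb), e5]
    abel
  intro u hu
  set c := (b⁻¹ * a * b)⁻¹ * (a⁻¹ * b⁻¹ * a)
  have hEA : conjBy A b⁻¹ ≠ A := fun e' => hb1 (inv_eq_one.1 (r1_eq_one (r1_symm h) (B.inv_mem hb) e'))
  have hAc : A ≠ conjBy A c := fun e' =>
    hEA (r1_fix_eq h hE left_mem_unip hc hc1 e'.symm)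
  rw [← (r1_of_unip h left_mem_unip (unip_conj left_mem_unip (unip_le hE hc)) hAc).2, fixBy_sup]
  refine ⟨hu, ?_⟩
  rw [fixBy_conjBy]
  have := hfix u hu
  rw [← eq_inv_smul_iff] at this
  rwa [← this]

end Cfsg.Agent.H29
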