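import Mathlib
import Cfsg.Prelude.Def_RootSubgroups
import Cfsg.Agent.H29.RankOneQuad
import Cfsg.Agent.H29.SL2

/-! Abstract root subgroups, part 1: commutator toolkit, the commutator case, basic lemmas. -/

set_option autoImplicit false
open Cfsg
open scoped commutatorElement

namespace Cfsg.Agent.H29

variable {G : Type*} [Group G]

section cm
variable {A B C D : Subgroup G}

theorem cm_symm (h : ⁅A, B⁆ = ⊥) : ⁅B, A⁆ = ⊥ := by rwa [Subgroup.commutator_comm]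
theorem cm_mono (h : ⁅A, B⁆ = ⊥) (h1 : C ≤ A) (h2 : D ≤ B) : ⁅C, D⁆ = ⊥ :=
  eq_bot_iff.2 (h ▸ Subgroup.commutator_mono h1 h2)
theorem cm_sup_right (h1 : ⁅A, B⁆ = ⊥) (h2 : ⁅A, C⁆ = ⊥) : ⁅A, B ⊔ C⁆ = ⊥ := by
  rw [comm_bot_iff] at *
  exact fun a ha => comm_sup (h1 a ha) (h2 a ha)
theorem cm_sup_left (h1 : ⁅B, A⁆ = ⊥) (h2 : ⁅C, A⁆ = ⊥) : ⁅B ⊔ C, A⁆ = ⊥ :=
  cm_symm (cm_sup_right (cm_symm h1) (cm_symm h2))
theorem cm_conj (h : ⁅A, B⁆ = ⊥) (g : G) : ⁅conjBy A g, conjBy B g⁆ = ⊥ := by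
  rw [← conjBy_commutator, h, conjBy_bot]
theorem cm_conj_iff {g : G} : ⁅conjBy A g, conjBy B g⁆ = ⊥ ↔ ⁅A, B⁆ = ⊥ := by
  rw [← conjBy_commutator, conjBy_eq_bot]
theorem cm_self (h : IsMulCommutative A) : ⁅A, A⁆ = ⊥ := Subgroup.commutator_self_eq_bot_iff.2 h
theorem cm_el (h : ⁅A, B⁆ = ⊥) {a b : G} (ha : a ∈ A) (hb : b ∈ B) : a * b = b * a :=
  comm_bot_iff.1 h a ha b hb
theorem cm_conjBy (h : ⁅A, B⁆ = ⊥) {a : G} (ha : a ∈ A) : conjBy B a = B :=
  conjBy_of_comm (fun _ hb => cm_el h ha hb)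
theorem cm_le_norm (h : ⁅A, B⁆ = ⊥) : A ≤ Subgroup.normalizer (B : Set G) :=
  fun _ ha => conjBy_eq_self_iff.1 (cm_conjBy h ha)
theorem comm_of_sup (hA : IsMulCommutative A) (hB : IsMulCommutative B) (h : ⁅A, B⁆ = ⊥) :
    IsMulCommutative ↥(A ⊔ B) :=
  Subgroup.commutator_self_eq_bot_iff.1
    (cm_sup_left (cm_sup_right (cm_self hA) h) (cm_sup_right (cm_symm h) (cm_self hB)))

theorem mem_sup_of_cm (h : ⁅A, B⁆ = ⊥) {x : G} (hx : x ∈ A ⊔ B) : ∃ a ∈ A, ∃ b ∈ B, x = a * b := by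
  have := Subgroup.coe_mul_of_left_le_normalizer_right A B (cm_le_norm h)
  have hx' : x ∈ ((A ⊔ B : Subgroup G) : Set G) := hx
  rw [this] at hx'
  obtain ⟨a, ha, b, hb, rfl⟩ := hx'
  exact ⟨a, ha, b, hb, rfl⟩

theorem conj_mem_of_norm {K : Subgroup G} {x k : G} (hx : x ∈ Subgroup.normalizer (K : Set G))
    (hk : k ∈ K) : x * k * x⁻¹ ∈ K := (Subgroup.mem_normalizer_iff.1 hx k).1 hk

/-- the elements `x` normalizing `K` with `[x, M] ≤ K` -/
def commInto (M K : Subgroup G) : Subgroup G where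
  carrier := {x | x ∈ Subgroup.normalizer (K : Set G) ∧ ∀ m ∈ M, ⁅x, m⁆ ∈ K}
  one_mem' := ⟨Subgroup.one_mem _, fun m _ => by simp⟩
  mul_mem' := by
    rintro x y ⟨hx, hx'⟩ ⟨hy, hy'⟩
    refine ⟨Subgroup.mul_mem _ hx hy, fun m hm => ?_⟩
    have : ⁅x * y, m⁆ = x * ⁅y, m⁆ * x⁻¹ * ⁅x, m⁆ := by simp only [commutatorElement_def]; group
    rw [this]
    exact K.mul_mem (conj_mem_of_norm hx (hy' m hm)) (hx' m hm)
  inv_mem' := by
    rintro x ⟨hx, hx'⟩
    refine ⟨Subgroup.inv_mem _ hx, fun m hm => ?_⟩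
    have : ⁅x⁻¹, m⁆ = x⁻¹ * ⁅x, m⁆⁻¹ * x⁻¹⁻¹ := by simp only [commutatorElement_def]; group
    rw [this]
    exact conj_mem_of_norm (Subgroup.inv_mem _ hx) (K.inv_mem (hx' m hm))

theorem le_commInto {L M K : Subgroup G} :
    L ≤ commInto M K ↔ L ≤ Subgroup.normalizer (K : Set G) ∧ ⁅L, M⁆ ≤ K := by
  rw [Subgroup.commutator_le]
  exact ⟨fun h => ⟨fun x hx => (h hx).1, fun x hx => (h hx).2⟩, fun h x hx => ⟨h.1 hx, h.2 x hx⟩⟩

theorem comm_sup_le_left {L L' M K : Subgroup G} (h1 : L ≤ Subgroup.normalizer (K : Set G))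
    (h2 : L' ≤ Subgroup.normalizer (K : Set G)) (e1 : ⁅L, M⁆ ≤ K) (e2 : ⁅L', M⁆ ≤ K) :
    ⁅L ⊔ L', M⁆ ≤ K :=
  (le_commInto.1 (sup_le (le_commInto.2 ⟨h1, e1⟩) (le_commInto.2 ⟨h2, e2⟩))).2

theorem comm_sup_le_right {L L' M K : Subgroup G} (h1 : L ≤ Subgroup.normalizer (K : Set G))
    (h2 : L' ≤ Subgroup.normalizer (K : Set G)) (e1 : ⁅M, L⁆ ≤ K) (e2 : ⁅M, L'⁆ ≤ K) :
    ⁅M, L ⊔ L'⁆ ≤ K := by
  rw [Subgroup.commutator_comm] at *
  exact comm_sup_le_left h1 h2 e1 e2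

theorem le_norm_of_comm_le {K R : Subgroup G} (h : ⁅R, R⁆ ≤ K) (hK : K ≤ R) :
    R ≤ Subgroup.normalizer (K : Set G) :=
  Subgroup.le_normalizer_iff_commutator_le_right.2 ((Subgroup.commutator_mono le_rfl hK).trans h)

theorem norm_sup {K K' : Subgroup G} {x : G} (h : x ∈ Subgroup.normalizer (K : Set G))
    (h' : x ∈ Subgroup.normalizer (K' : Set G)) : x ∈ Subgroup.normalizer ((K ⊔ K' : Subgroup G) : Set G) := by
  rw [← conjBy_eq_self_iff] at *
  rw [conjBy_sup, h, h']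

theorem norm_comm {K K' : Subgroup G} {x : G} (h : x ∈ Subgroup.normalizer (K : Set G))
    (h' : x ∈ Subgroup.normalizer (K' : Set G)) : x ∈ Subgroup.normalizer ((⁅K, K'⁆ : Subgroup G) : Set G) := by
  rw [← conjBy_eq_self_iff] at *
  rw [conjBy_commutator, h, h']

theorem derived_sup_le (hA : IsMulCommutative A) (hB : IsMulCommutative B) : ⁅A ⊔ B, A ⊔ B⁆ ≤ ⁅A, B⁆ := by
  have n1 := Subgroup.normalizer_commutator_ge_left A B
  have n2 := Subgroup.normalizer_commutator_ge_right A B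
  apply comm_sup_le_left n1 n2
  · exact comm_sup_le_right n1 n2 (by rw [cm_self hA]; exact bot_le) le_rfl
  · exact comm_sup_le_right n1 n2 (by rw [Subgroup.commutator_comm]) (by rw [cm_self hB]; exact bot_le)

theorem class_two (hA : IsMulCommutative A) (hB : IsMulCommutative B) (h : ⁅⁅A, B⁆, A ⊔ B⁆ = ⊥) :
    ⁅⁅A ⊔ B, A ⊔ B⁆, A ⊔ B⁆ = ⊥ := cm_mono h (derived_sup_le hA hB) le_rfl

theorem nilpotent_of_class_two {X : Subgroup G} (h : ⁅⁅X, X⁆, X⁆ = ⊥) : Group.IsNilpotent X :=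
  (Subgroup.isNilpotent_iff_lowerCentralSeries X).2 ⟨2, h⟩

theorem eq_bot_of_le_comm {N M : Subgroup G} (hM : Group.IsNilpotent M) (hN : N ≤ M)
    (h : N ≤ ⁅N, M⁆) : N = ⊥ := by
  obtain ⟨n, hn⟩ := (Subgroup.isNilpotent_iff_lowerCentralSeries M).1 hM
  have : ∀ k, N ≤ M.lowerCentralSeries k := by
    intro k
    induction k with
    | zero => exact hN
    | succ k ih => exact h.trans (Subgroup.commutator_mono ih le_rfl)
  exact eq_bot_iff.2 (hn ▸ this n)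

theorem conjBy_le_sup_comm {b : G} (hb : b ∈ B) : conjBy A b ≤ A ⊔ ⁅A, B⁆ := by
  intro x hx
  obtain ⟨a, ha, rfl⟩ := mem_conjBy'.1 hx
  have : b * a * b⁻¹ = ⁅a, b⁆⁻¹ * a := by simp only [commutatorElement_def]; group
  rw [this]
  exact Subgroup.mul_mem _ (Subgroup.mem_sup_right (Subgroup.inv_mem _
    (Subgroup.commutator_mem_commutator ha hb))) (Subgroup.mem_sup_left ha)

theorem le_norm_sup_comm : B ≤ Subgroup.normalizer ((A ⊔ ⁅A, B⁆ : Subgroup G) : Set G) := by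
  rw [Subgroup.le_normalizer_iff_commutator_le_left]
  apply comm_sup_le_left
  · exact le_sup_left.trans Subgroup.le_normalizer
  · exact le_sup_right.trans Subgroup.le_normalizer
  · exact le_sup_right
  · exact (Subgroup.le_normalizer_iff_commutator_le_left.1
      (Subgroup.normalizer_commutator_ge_right A B)).trans le_sup_right

end cm

section RC
variable {S : Set (Subgroup G)} {A B C D : Subgroup G}

theorem closure_comm_swap (a : G) (B : Subgroup G) :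
    Subgroup.closure ((fun b : G => b * a * b⁻¹ * a⁻¹) '' (B : Set G)) =
      Subgroup.closure ((fun b : G => a * b * a⁻¹ * b⁻¹) '' (B : Set G)) := by
  rw [← Subgroup.closure_inv]
  congr 1
  ext x
  simp only [Set.mem_inv, Set.mem_image]
  constructor
  · rintro ⟨b, hb, e⟩; exact ⟨b, hb, by rw [← inv_inv x, ← e]; group⟩
  · rintro ⟨b, hb, rfl⟩; exact ⟨b, hb, by group⟩

theorem RC_symm (h : RootCommutatorCase S A B) : RootCommutatorCase S B A := by
  obtain ⟨h1, h2, h3, h4⟩ := h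
  rw [Subgroup.commutator_comm] at h1 h2 h3 h4
  refine ⟨h1, by rwa [sup_comm], fun b hb b1 => ?_, fun a ha a1 => ?_⟩
  · rw [← closure_comm_swap]; exact h4 b hb b1
  · rw [closure_comm_swap]; exact h3 a ha a1

theorem RC_central (h : RootCommutatorCase S A B) : ⁅⁅A, B⁆, A ⊔ B⁆ = ⊥ := comm_bot_iff.2 h.2.1
theorem RC_left (h : RootCommutatorCase S A B) : ⁅A, ⁅A, B⁆⁆ = ⊥ :=
  cm_symm (cm_mono (RC_central h) le_rfl le_sup_left)
theorem RC_right (h : RootCommutatorCase S A B) : ⁅B, ⁅A, B⁆⁆ = ⊥ :=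
  cm_symm (cm_mono (RC_central h) le_rfl le_sup_right)

/-- surjectivity of `b ↦ [a, b]` -/
theorem RC_surj (h : RootCommutatorCase S A B) {a : G} (ha : a ∈ A) (a1 : a ≠ 1) {c : G}
    (hc : c ∈ ⁅A, B⁆) : ∃ b ∈ B, c = ⁅a, b⁆ := by
  rw [← h.2.2.1 a ha a1] at hc
  induction hc using Subgroup.closure_induction with
  | mem x hx => obtain ⟨b, hb, rfl⟩ := hx; exact ⟨b, hb, rfl⟩
  | one => exact ⟨1, B.one_mem, by simp⟩
  | mul x y _ _ hx hy =>
    obtain ⟨b, hb, rfl⟩ := hx; obtain ⟨b', hb', rfl⟩ := hy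
    refine ⟨b * b', B.mul_mem hb hb', ?_⟩
    have := cm_el (RC_right h) hb (Subgroup.commutator_mem_commutator ha hb')
    calc ⁅a, b⁆ * ⁅a, b'⁆ = ⁅a, b⁆ * (⁅a, b'⁆ * b) * b⁻¹ := by group
      _ = _ := by rw [← this]; simp only [commutatorElement_def]; group
  | inv x _ hx =>
    obtain ⟨b, hb, rfl⟩ := hx
    refine ⟨b⁻¹, B.inv_mem hb, ?_⟩
    have := cm_el (RC_right h) hb (Subgroup.commutator_mem_commutator ha (B.inv_mem hb))
    rw [inv_eq_iff_mul_eq_one]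
    calc ⁅a, b⁆ * ⁅a, b⁻¹⁆ = ⁅a, b⁆ * (⁅a, b⁻¹⁆ * b) * b⁻¹ := by group
      _ = _ := by rw [← this]; simp only [commutatorElement_def]; group

theorem RC_surj' (h : RootCommutatorCase S A B) {b : G} (hb : b ∈ B) (b1 : b ≠ 1) {c : G}
    (hc : c ∈ ⁅A, B⁆) : ∃ a ∈ A, c = ⁅b, a⁆ :=
  RC_surj (RC_symm h) hb b1 (by rwa [Subgroup.commutator_comm])

theorem RC_conj (hS : IsRootSubgroupSet S) (h : RootCommutatorCase S A B) (g : G) :
    RootCommutatorCase S (conjBy A g) (conjBy B g) := by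
  have key : ∀ {A B : Subgroup G}, RootCommutatorCase S A B → ∀ a ∈ conjBy A g, a ≠ 1 →
      Subgroup.closure ((fun b : G => a * b * a⁻¹ * b⁻¹) '' (conjBy B g : Set G)) =
        ⁅conjBy A g, conjBy B g⁆ := by
    intro A B h a ha a1
    apply le_antisymm
    · rw [Subgroup.closure_le]
      rintro _ ⟨b, hb, rfl⟩
      exact Subgroup.commutator_mem_commutator ha hb
    · rw [← conjBy_commutator]
      intro x hx
      obtain ⟨a', ha', rfl⟩ := mem_conjBy'.1 ha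
      obtain ⟨c, hc, rfl⟩ := mem_conjBy'.1 hx
      obtain ⟨b, hb, rfl⟩ := RC_surj h ha' (by rintro rfl; simp at a1) hc
      exact Subgroup.subset_closure ⟨_, conj_mem_conjBy hb g, by
        simp only [commutatorElement_def]; group⟩
  refine ⟨by rw [← conjBy_commutator]; exact hS.conj_mem _ h.1 g, ?_, key h, ?_⟩
  · rw [← comm_bot_iff, ← conjBy_commutator, ← conjBy_sup]
    exact cm_conj (RC_central h) g
  · intro b hb b1
    rw [closure_comm_swap, Subgroup.commutator_comm]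
    exact key (RC_symm h) b hb b1

theorem RC_class_two (hS : IsRootSubgroupSet S) (hA : A ∈ S) (hB : B ∈ S)
    (h : RootCommutatorCase S A B) : ⁅⁅A ⊔ B, A ⊔ B⁆, A ⊔ B⁆ = ⊥ :=
  class_two (hS.commutative A hA) (hS.commutative B hB) (RC_central h)

theorem RC_ne_bot (hS : IsRootSubgroupSet S) (h : RootCommutatorCase S A B) : ⁅A, B⁆ ≠ ⊥ :=
  hS.ne_bot _ h.1

theorem RC_ne_left (hS : IsRootSubgroupSet S) (h : RootCommutatorCase S A B) : A ≠ ⁅A, B⁆ := by
  intro e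
  apply RC_ne_bot hS h
  have := RC_right h
  rw [← e] at this
  exact cm_symm this

theorem class_two_of_not_r1 (hS : IsRootSubgroupSet S) (hA : A ∈ S) (hB : B ∈ S)
    (h : ¬ IsRankOnePair A B) : ⁅⁅A ⊔ B, A ⊔ B⁆, A ⊔ B⁆ = ⊥ := by
  rcases hS.pair A hA B hB with e | e | e
  · apply class_two (hS.commutative A hA) (hS.commutative B hB)
    rw [e, Subgroup.commutator_bot_left]
  · exact absurd e h
  · exact RC_class_two hS hA hB e

theorem r1_of_le (hS : IsRootSubgroupSet S) (hA : A ∈ S) (hB : B ∈ S) {U V : Subgroup G}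
    (h : IsRankOnePair U V) (hU : U ≤ A ⊔ B) (hV : V ≤ A ⊔ B) : IsRankOnePair A B := by
  by_contra hn
  exact r1_not_le_nilpotent h (nilpotent_of_class_two (class_two_of_not_r1 hS hA hB hn)) hU hV

theorem RC_not_r1 (hS : IsRootSubgroupSet S) (hA : A ∈ S) (hB : B ∈ S)
    (h : RootCommutatorCase S A B) : ¬ IsRankOnePair A B := fun h' =>
  r1_not_nilpotent h' (nilpotent_of_class_two (RC_class_two hS hA hB h))

theorem RC_of (hS : IsRootSubgroupSet S) (hA : A ∈ S) (hB : B ∈ S) (h1 : ⁅A, B⁆ ≠ ⊥)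
    (h2 : ¬ IsRankOnePair A B) : RootCommutatorCase S A B :=
  ((hS.pair A hA B hB).resolve_left h1).resolve_left h2

/-- if `(B, B^c)` has rank one then `(C, B)` has rank one and generates the same group -/
theorem r1_of_self_conj (hS : IsRootSubgroupSet S) (hB : B ∈ S) (hC : C ∈ S) {c : G} (hc : c ∈ C)
    (h : IsRankOnePair B (conjBy B c)) : IsRankOnePair C B ∧ C ⊔ B = B ⊔ conjBy B c := by
  have h1 : IsRankOnePair C B := r1_of_le hS hC hB h le_sup_right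
    (conjBy_le_of_mem le_sup_right (Subgroup.mem_sup_left hc))
  refine ⟨h1, (r1_self_conj h1 hc ?_).2.symm⟩
  rintro rfl
  exact h.ne (conjBy_one B).symm

theorem unip_mem (hS : IsRootSubgroupSet S) (hA : A ∈ S) {U : Subgroup G}
    (hU : U ∈ unipotentSubgroups A B) : U ∈ S := by
  obtain ⟨x, -, rfl⟩ := hU; exact hS.conj_mem A hA x

theorem unip_or_central (hS : IsRootSubgroupSet S) (hA : A ∈ S) (h : IsRankOnePair A B)
    {E : Subgroup G} (hE : E ∈ S) (hle : E ≤ A ⊔ B) :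
    E ∈ unipotentSubgroups A B ∨ ⁅E, A ⊔ B⁆ = ⊥ := by
  by_cases hc : ∀ e ∈ E, ∀ U ∈ unipotentSubgroups A B, conjBy U e = U
  · exact Or.inr (comm_bot_iff.2 fun e he => r1_comm_of_fix h (hc e he))
  · left
    push Not at hc
    obtain ⟨e, he, U, hU, hne⟩ := hc
    have h1 := r1_of_unip h hU (unip_conj hU (hle he)) hne.symm
    have h2 := r1_of_self_conj hS (unip_mem hS hA hU) hE he h1.1
    obtain ⟨x, hx, ex⟩ := r1_exists_conj (r1_symm h2.1)
    rw [← ex]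
    exact unip_conj hU (by rwa [sup_comm, h2.2, h1.2] at hx)

theorem RC_of_mem (hS : IsRootSubgroupSet S) (hA : A ∈ S) (hB : B ∈ S) (hC : ⁅A, B⁆ ∈ S) :
    RootCommutatorCase S A B := by
  refine RC_of hS hA hB (hS.ne_bot _ hC) (fun h => ?_)
  rcases unip_or_central hS hA h hC (Subgroup.commutator_le_sup A B) with e | e
  · obtain ⟨x, hx, ex⟩ := e
    obtain ⟨y, hy, ey⟩ := r1_exists_conj h
    have n : A ⊔ B ≤ Subgroup.normalizer ((⁅A, B⁆ : Subgroup G) : Set G) :=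
      sup_le (Subgroup.normalizer_commutator_ge_left A B) (Subgroup.normalizer_commutator_ge_right A B)
    have e1 : A = ⁅A, B⁆ := by
      have := conjBy_eq_self_iff.2 (n (Subgroup.inv_mem _ hx))
      rwa [ex, conjBy_inv_conjBy, ← ex] at this
    have e2 := conjBy_eq_self_iff.2 (n hy)
    rw [← e1, ey] at e2
    exact h.ne e2.symm
  · exact r1_not_nilpotent h (nilpotent_of_class_two
      (class_two (hS.commutative A hA) (hS.commutative B hB) e))

/-- S5025 -/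
theorem not_root_central_mul (hS : IsRootSubgroupSet S) (hA : A ∈ S) (hB : B ∈ S)
    (h : IsRankOnePair A B) {z : G} (hzA : ∀ a ∈ A, z * a = a * z) (hzB : ∀ b ∈ B, z * b = b * z)
    (z1 : z ≠ 1) {a : G} (ha : a ∈ A) (a1 : a ≠ 1) {C : Subgroup G} (hC : C ∈ S) : z * a ∉ C := by
  intro hc
  have e : conjBy B (z * a) = conjBy B a := by
    rw [hzA a ha, ← conjBy_conjBy, conjBy_of_comm hzB]
  have h1 := r1_self_conj h ha a1
  have h2 := r1_of_self_conj hS hB hC hc (e ▸ h1.1)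
  rw [e, h1.2] at h2
  have za1 : z * a ≠ 1 := by
    intro e1
    rw [e1, conjBy_one] at e
    exact h1.1.ne e
  rcases unip_or_central hS hA h hC (h2.2 ▸ le_sup_left) with u | u
  · have := r1_fix_eq h u left_mem_unip hc za1 (by
      rw [← conjBy_conjBy, conjBy_of_mem ha, conjBy_of_comm hzA])
    rw [this] at hc
    exact z1 (r1_eq_one_of_comm h ((A.mul_mem_cancel_right ha).1 hc) hzB)
  · exact r1_not_comm h2.1 (cm_mono u le_rfl le_sup_right)

/-- S5028 -/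
theorem ti_of_r1 (hS : IsRootSubgroupSet S) (hA : A ∈ S) (hD : D ∈ S) (h : IsRankOnePair A D)
    (hB : B ∈ S) {x : G} (hxA : x ∈ A) (hxB : x ∈ B) (x1 : x ≠ 1) : A = B := by
  have h1 := r1_self_conj h hxA x1
  have h2 := r1_of_self_conj hS hD hB hxB h1.1
  rw [h1.2] at h2
  rcases unip_or_central hS hA h hB (h2.2 ▸ le_sup_left) with u | u
  · exact (r1_fix_eq h u left_mem_unip hxB x1 (conjBy_of_mem hxA)).symm
  · exact absurd (cm_mono u le_rfl le_sup_right) (r1_not_comm h2.1)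

/-- `A` has a rank one partner in `S` -/
def NonIso (S : Set (Subgroup G)) (A : Subgroup G) : Prop := ∃ D ∈ S, IsRankOnePair A D

theorem nonIso_iff (hA : A ∈ S) : ¬ IsIsolatedIn (FAdj S) S A ↔ NonIso S A := by
  constructor
  · intro h
    by_contra hn
    exact h ⟨hA, fun B => ⟨fun e => hn ⟨B, e.2.1, e.2.2⟩, fun e => hn ⟨B, e.1, r1_symm e.2.2⟩⟩⟩
  · rintro ⟨D, hD, h⟩ hi
    exact (hi.2 D).1 ⟨hA, hD, h⟩

theorem NonIso.conj (hS : IsRootSubgroupSet S) (h : NonIso S A) (g : G) : NonIso S (conjBy A g) := by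
  obtain ⟨D, hD, h⟩ := h
  exact ⟨_, hS.conj_mem D hD g, r1_conj h g⟩

theorem NonIso.ti (hS : IsRootSubgroupSet S) (hA : A ∈ S) (h : NonIso S A) (hB : B ∈ S) {x : G}
    (hxA : x ∈ A) (hxB : x ∈ B) (x1 : x ≠ 1) : A = B := by
  obtain ⟨D, hD, h⟩ := h
  exact ti_of_r1 hS hA hD h hB hxA hxB x1

/-- injectivity in the commutator case -/
theorem RC_inj (hS : IsRootSubgroupSet S) (hA : A ∈ S) (hN : NonIso S A)
    (h : RootCommutatorCase S A B) {a b : G} (ha : a ∈ A) (hb : b ∈ B) (a1 : a ≠ 1)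
    (e : a * b = b * a) : b = 1 := by
  by_contra b1
  have e1 : A = conjBy A b := hN.ti hS hA (hS.conj_mem A hA b) ha
    (by rw [mem_conjBy, mul_assoc, e, inv_mul_cancel_left]; exact ha) a1
  obtain ⟨⟨c, hc⟩, c1⟩ := Subgroup.ne_bot_iff_exists_ne_one.1 (RC_ne_bot hS h)
  obtain ⟨a', ha', rfl⟩ := RC_surj' h hb b1 hc
  refine RC_ne_left hS h (hN.ti hS hA h.1 ?_ hc (fun e => c1 (Subtype.ext e)))
  rw [commutatorElement_def]
  exact A.mul_mem (e1 ▸ conj_mem_conjBy ha' b) (A.inv_mem ha')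

end RC

end Cfsg.Agent.H29
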