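import Mathlib
import Cfsg.Prelude.Def_RootSubgroups
import Cfsg.Agent.H29.Root1

/-! Abstract root subgroups, part 2: nilpotent triples, lines, components. -/

set_option autoImplicit false
open Cfsg
open scoped commutatorElement

namespace Cfsg.Agent.H29

variable {G : Type*} [Group G] {S : Set (Subgroup G)} {A B C D : Subgroup G}

theorem RC_sup_conjBy (h : RootCommutatorCase S A B) {b : G} (hb : b ∈ B) (b1 : b ≠ 1) :
    A ⊔ conjBy A b = A ⊔ ⁅A, B⁆ := by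
  apply le_antisymm (sup_le le_sup_left (conjBy_le_sup_comm hb)) (sup_le le_sup_left _)
  intro c hc
  obtain ⟨a, ha, rfl⟩ := RC_surj' h hb b1 hc
  rw [commutatorElement_def]
  exact Subgroup.mul_mem _ (Subgroup.mem_sup_right (conj_mem_conjBy ha b))
    (Subgroup.mem_sup_left (A.inv_mem ha))

theorem RC_line_comm (hS : IsRootSubgroupSet S) (hA : A ∈ S) (h : RootCommutatorCase S A B) :
    ⁅A ⊔ ⁅A, B⁆, A ⊔ ⁅A, B⁆⁆ = ⊥ :=
  cm_self (comm_of_sup (hS.commutative A hA) (hS.commutative _ h.1) (RC_left h))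

theorem triple_not_r1 (hS : IsRootSubgroupSet S) (hA : A ∈ S) (hC : C ∈ S)
    (h2 : RootCommutatorCase S C B) (hAC : ⁅A, C⁆ = ⊥) {b : G} (hb : b ∈ B) :
    ¬ IsRankOnePair A (conjBy C b) := by
  intro h
  by_cases b1 : b = 1
  · subst b1; rw [conjBy_one] at h; exact r1_not_comm h hAC
  obtain ⟨⟨e, he⟩, e1⟩ := Subgroup.ne_bot_iff_exists_ne_one.1 (RC_ne_bot hS h2)
  obtain ⟨c, hc, rfl⟩ := RC_surj' h2 hb b1 he
  have c1 : c ≠ 1 := by rintro rfl; apply e1; simp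
  have hcc := cm_mono (RC_line_comm hS hC h2) (conjBy_le_sup_comm hb) le_sup_left
  refine not_root_central_mul hS (hS.conj_mem C hC b) hA (r1_symm h) (z := c⁻¹)
    (fun x hx => (cm_el hcc hx (C.inv_mem hc)).symm) (fun x hx => (cm_el hAC hx (C.inv_mem hc)).symm)
    (inv_ne_one.2 c1) (conj_mem_conjBy hc b) (by simpa using c1) h2.1 ?_
  rw [← cm_el hcc (conj_mem_conjBy hc b) (C.inv_mem hc)]
  exact he

theorem triple_main (hS : IsRootSubgroupSet S) (hA : A ∈ S) (hB : B ∈ S) (hC : C ∈ S)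
    (h1 : RootCommutatorCase S A B) (h2 : RootCommutatorCase S C B) (hAC : ⁅A, C⁆ = ⊥)
    {b : G} (hb : b ∈ B) (b1 : b ≠ 1) :
    ⁅A ⊔ conjBy C b, conjBy A b ⊔ C⁆ = ⊥ ∧
    (A ⊔ conjBy C b) ⊔ (conjBy A b ⊔ C) = (A ⊔ ⁅A, B⁆) ⊔ (C ⊔ ⁅C, B⁆) ∧
    Group.IsNilpotent ↥(A ⊔ B ⊔ C) := by
  have c1 := RC_line_comm hS hA h1
  have c2 := RC_line_comm hS hC h2
  have k1 : ⁅A ⊔ conjBy C b, conjBy A b ⊔ C⁆ = ⊥ :=
    cm_sup_left (cm_sup_right (cm_mono c1 le_sup_left (conjBy_le_sup_comm hb)) hAC)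
      (cm_sup_right (cm_conj (cm_symm hAC) b) (cm_mono c2 (conjBy_le_sup_comm hb) le_sup_left))
  have k2 : (A ⊔ conjBy C b) ⊔ (conjBy A b ⊔ C) = (A ⊔ ⁅A, B⁆) ⊔ (C ⊔ ⁅C, B⁆) := by
    rw [← RC_sup_conjBy h1 hb b1, ← RC_sup_conjBy h2 hb b1]; ac_rfl
  refine ⟨k1, k2, ?_⟩
  have n1 := class_two_of_not_r1 hS hA (hS.conj_mem C hC b) (triple_not_r1 hS hA hC h2 hAC hb)
  have n2 := class_two_of_not_r1 hS (hS.conj_mem A hA b) hC
    (fun h => triple_not_r1 hS hC hA h1 (cm_symm hAC) hb (r1_symm h))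
  set X₁ := A ⊔ conjBy C b
  set X₂ := conjBy A b ⊔ C
  set D := ⁅A, B⁆
  set E := ⁅C, B⁆
  set R := (A ⊔ D) ⊔ (C ⊔ E) with hR
  -- `R' = X₁' X₂'` is central in `R`
  have z1 : ⁅⁅X₁, X₁⁆, R⁆ = ⊥ := k2 ▸ cm_sup_right n1 (cm_mono k1 (by simpa using Subgroup.commutator_le_sup X₁ X₁) le_rfl)
  have z2 : ⁅⁅X₂, X₂⁆, R⁆ = ⊥ := k2 ▸ cm_sup_right (cm_mono (cm_symm k1) (by simpa using Subgroup.commutator_le_sup X₂ X₂) le_rfl) n2
  have z3 : ⁅R, R⁆ ≤ ⁅X₁, X₁⁆ ⊔ ⁅X₂, X₂⁆ := by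
    have n : R ≤ Subgroup.normalizer ((⁅X₁, X₁⁆ ⊔ ⁅X₂, X₂⁆ : Subgroup G) : Set G) :=
      cm_le_norm (cm_symm (cm_sup_left z1 z2))
    have m1 : X₁ ≤ _ := (le_sup_left.trans k2.le).trans n
    have m2 : X₂ ≤ _ := (le_sup_right.trans k2.le).trans n
    rw [← k2]
    apply comm_sup_le_left m1 m2
    · exact comm_sup_le_right m1 m2 le_sup_left (by rw [k1]; exact bot_le)
    · exact comm_sup_le_right m1 m2 (by rw [cm_symm k1]; exact bot_le) le_sup_right
  have z4 : ⁅⁅R, R⁆, R⁆ = ⊥ := cm_mono (cm_sup_left z1 z2) z3 le_rfl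
  have hAR : A ≤ R := le_sup_left.trans le_sup_left
  have hDR : D ≤ R := le_sup_right.trans le_sup_left
  have hCR : C ≤ R := le_sup_left.trans le_sup_right
  have hER : E ≤ R := le_sup_right.trans le_sup_right
  have bD : ⁅B, D⁆ = ⊥ := RC_right h1
  have bE : ⁅B, E⁆ = ⊥ := RC_right h2
  have bR : B ≤ Subgroup.normalizer (R : Set G) := fun x hx =>
    norm_sup (le_norm_sup_comm hx) (le_norm_sup_comm hx)
  have hN : A ⊔ B ⊔ C ≤ R ⊔ B :=
    sup_le (sup_le (hAR.trans le_sup_left) le_sup_right) (hCR.trans le_sup_left)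
  suffices hs : Group.IsNilpotent ↥(R ⊔ B) from
    Group.nilpotent_of_mulEquiv (Subgroup.subgroupOfEquivOfLe hN)
  set K₃ := ⁅D, E⁆
  have K3c : ⁅K₃, R ⊔ B⁆ = ⊥ := by
    refine cm_sup_right (cm_mono z4 (Subgroup.commutator_mono hDR hER) le_rfl) ?_
    exact cm_mono (cm_sup_left (cm_symm bD) (cm_symm bE)) (Subgroup.commutator_le_sup D E) le_rfl
  have K3n : R ⊔ B ≤ Subgroup.normalizer (K₃ : Set G) := cm_le_norm (cm_symm K3c)
  have RRn : R ⊔ B ≤ Subgroup.normalizer ((⁅R, R⁆ : Subgroup G) : Set G) :=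
    sup_le (Subgroup.normalizer_commutator_ge_left R R) (fun x hx => norm_comm (bR hx) (bR hx))
  have RRle : ⁅R, R⁆ ≤ R := by simpa using Subgroup.commutator_le_sup R R
  -- step: `[R', N] ≤ K₃`
  have key : ∀ {A C : Subgroup G}, A ≤ R → ⁅A, B⁆ ≤ R → C ≤ R → ⁅B, C⁆ = ⊥ → ⁅⁅A, B⁆, C⁆ ≤ K₃ →
      ⁅⁅A, C⁆, B⁆ ≤ K₃ := by
    intro A C hA hD hC bC hK
    have : ⁅A, C⁆ ≤ commInto B K₃ := by
      rw [Subgroup.commutator_le]
      intro a ha e he
      refine ⟨K3n (Subgroup.mem_sup_left (RRle (Subgroup.commutator_mem_commutator (hA ha) (hC he)))),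
        fun m hm => ?_⟩
      have q1 := cm_el bC hm he
      have q2 := cm_el z4 (Subgroup.commutator_mem_commutator (hA ha) (hC he))
        (hD (Subgroup.inv_mem _ (Subgroup.commutator_mem_commutator ha hm)))
      have q3 := hK (Subgroup.commutator_mem_commutator
        (Subgroup.inv_mem _ (Subgroup.commutator_mem_commutator ha hm)) he)
      have : ⁅⁅a, e⁆, m⁆ = ⁅⁅a, m⁆⁻¹, e⁆⁻¹ := by
        have q4 : m * ⁅a, e⁆ * m⁻¹ = ⁅a, m⁆⁻¹ * ⁅a, e⁆ * ⁅a, m⁆ * ⁅⁅a, m⁆⁻¹, e⁆ := by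
          have q5 : m * e * m⁻¹ = e := by rw [q1]; group
          calc m * ⁅a, e⁆ * m⁻¹ = ⁅m * a * m⁻¹, m * e * m⁻¹⁆ := by
                simp only [commutatorElement_def]; group
            _ = _ := by rw [q5]; simp only [commutatorElement_def]; group
        rw [← q2, inv_mul_cancel_right] at q4
        have q6 := cm_el K3c q3 (Subgroup.mem_sup_left (RRle
          (Subgroup.commutator_mem_commutator (hA ha) (hC he))))
        rw [← q6] at q4
        calc ⁅⁅a, e⁆, m⁆ = ⁅a, e⁆ * (m * ⁅a, e⁆ * m⁻¹)⁻¹ := by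
              rw [commutatorElement_def ⁅a, e⁆ m]; group
          _ = _ := by rw [q4]; group
      rw [this]; exact K₃.inv_mem q3
    exact (le_commInto.1 this).2
  have s3 : ⁅⁅R, R⁆, R ⊔ B⁆ ≤ K₃ := by
    refine comm_sup_le_right (le_sup_left.trans K3n) (le_sup_right.trans K3n) (by rw [z4]; exact bot_le) ?_
    have w : ⁅R, R⁆ ≤ (⁅A, E⁆ ⊔ ⁅C, D⁆) ⊔ K₃ := by
      have n : R ≤ Subgroup.normalizer (((⁅A, E⁆ ⊔ ⁅C, D⁆) ⊔ K₃ : Subgroup G) : Set G) :=
        cm_le_norm (cm_symm (cm_mono z4 (sup_le (sup_le (Subgroup.commutator_mono hAR hER)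
          (Subgroup.commutator_mono hCR hDR)) (Subgroup.commutator_mono hDR hER)) le_rfl))
      have w1 : ⁅A ⊔ D, C ⊔ E⁆ ≤ (⁅A, E⁆ ⊔ ⁅C, D⁆) ⊔ K₃ := by
        apply comm_sup_le_left (hAR.trans n) (hDR.trans n)
        · exact comm_sup_le_right (hCR.trans n) (hER.trans n) (by rw [hAC]; exact bot_le)
            (le_sup_left.trans le_sup_left)
        · exact comm_sup_le_right (hCR.trans n) (hER.trans n)
            (by rw [Subgroup.commutator_comm]; exact le_sup_right.trans le_sup_left) le_sup_right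
      have m1 : A ⊔ D ≤ _ := le_sup_left.trans n
      have m2 : C ⊔ E ≤ _ := le_sup_right.trans n
      apply comm_sup_le_left m1 m2
      · exact comm_sup_le_right m1 m2 (by rw [c1]; exact bot_le) w1
      · exact comm_sup_le_right m1 m2 (by rw [Subgroup.commutator_comm]; exact w1) (by rw [c2]; exact bot_le)
    refine (Subgroup.commutator_mono w le_rfl).trans ?_
    have m : ∀ {U V : Subgroup G}, U ≤ R → V ≤ R → ⁅U, V⁆ ≤ Subgroup.normalizer (K₃ : Set G) :=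
      fun hU hV => ((Subgroup.commutator_mono hU hV).trans RRle).trans (le_sup_left.trans K3n)
    apply comm_sup_le_left (sup_le (m hAR hER) (m hCR hDR)) Subgroup.le_normalizer
    · apply comm_sup_le_left (m hAR hER) (m hCR hDR) (key hAR hDR hER bE le_rfl)
      exact key hCR hER hDR bD (by rw [Subgroup.commutator_comm])
    · rw [cm_mono K3c le_rfl le_sup_right]; exact bot_le
  set K₁ := (D ⊔ E) ⊔ ⁅R, R⁆
  have K1R : K₁ ≤ R := sup_le (sup_le hDR hER) RRle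
  have K1n : R ⊔ B ≤ Subgroup.normalizer (K₁ : Set G) :=
    sup_le (le_norm_of_comm_le le_sup_right K1R) (fun x hx =>
      norm_sup (cm_le_norm (cm_sup_right bD bE) hx) (RRn (Subgroup.mem_sup_right hx)))
  have s2 : ⁅K₁, R ⊔ B⁆ ≤ ⁅R, R⁆ := by
    refine comm_sup_le_right (le_sup_left.trans RRn) (le_sup_right.trans RRn)
      (Subgroup.commutator_mono K1R le_rfl) ?_
    refine comm_sup_le_left ((sup_le hDR hER).trans (le_sup_left.trans RRn)) Subgroup.le_normalizer ?_ ?_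
    · rw [cm_symm (cm_sup_right bD bE)]; exact bot_le
    · exact Subgroup.le_normalizer_iff_commutator_le_left.1 (le_sup_right.trans RRn)
  have s1 : ⁅R ⊔ B, R ⊔ B⁆ ≤ K₁ := by
    have m1 : R ≤ _ := le_sup_left.trans K1n
    have m2 : B ≤ _ := le_sup_right.trans K1n
    have w : ⁅R, B⁆ ≤ K₁ := by
      apply comm_sup_le_left (le_sup_left.trans m1) (le_sup_right.trans m1)
      · exact comm_sup_le_left (hAR.trans m1) (hDR.trans m1) (le_sup_left.trans le_sup_left)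
          (by rw [cm_symm bD]; exact bot_le)
      · exact comm_sup_le_left (hCR.trans m1) (hER.trans m1) (le_sup_right.trans le_sup_left)
          (by rw [cm_symm bE]; exact bot_le)
    apply comm_sup_le_left m1 m2
    · exact comm_sup_le_right m1 m2 le_sup_right w
    · exact comm_sup_le_right m1 m2 (by rw [Subgroup.commutator_comm]; exact w)
        (by rw [cm_self (hS.commutative B hB)]; exact bot_le)
  refine (Subgroup.isNilpotent_iff_lowerCentralSeries _).2 ⟨4, ?_⟩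
  change ⁅⁅⁅⁅R ⊔ B, R ⊔ B⁆, R ⊔ B⁆, R ⊔ B⁆, R ⊔ B⁆ = ⊥
  exact cm_mono K3c ((Subgroup.commutator_mono ((Subgroup.commutator_mono s1 le_rfl).trans s2)
    le_rfl).trans s3) le_rfl

theorem nilpotent_sup_central {P M : Subgroup G} (hP : IsMulCommutative P) (hPM : ⁅P, M⁆ = ⊥)
    (hM : ⁅⁅M, M⁆, M⁆ = ⊥) : Group.IsNilpotent ↥(P ⊔ M) := by
  apply nilpotent_of_class_two
  have hMM : ⁅M, M⁆ ≤ M := by simpa using Subgroup.commutator_le_sup M M
  have c : ⁅⁅M, M⁆, P ⊔ M⁆ = ⊥ := cm_sup_right (cm_mono (cm_symm hPM) hMM le_rfl) hM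
  have n := cm_le_norm (cm_symm c)
  refine cm_mono c ?_ le_rfl
  have m1 : P ≤ _ := le_sup_left.trans n
  have m2 : M ≤ _ := le_sup_right.trans n
  apply comm_sup_le_left m1 m2
  · rw [cm_sup_right (cm_self hP) hPM]; exact bot_le
  · exact comm_sup_le_right m1 m2 (by rw [cm_symm hPM]; exact bot_le) le_rfl

/-- a member not opposite to two commuting members generates a nilpotent group with them -/
theorem nilpotent_triple (hS : IsRootSubgroupSet S) {P Q : Subgroup G} (hP : P ∈ S) (hQ : Q ∈ S)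
    (hB : B ∈ S) (hPQ : ⁅P, Q⁆ = ⊥) (h1 : ¬ IsRankOnePair P B) (h2 : ¬ IsRankOnePair Q B) :
    Group.IsNilpotent ↥(P ⊔ B ⊔ Q) := by
  by_cases c1 : ⁅P, B⁆ = ⊥
  · rw [sup_assoc]
    exact nilpotent_sup_central (hS.commutative P hP) (cm_sup_right c1 hPQ)
      (class_two_of_not_r1 hS hB hQ (fun h => h2 (r1_symm h)))
  by_cases c2 : ⁅Q, B⁆ = ⊥
  · rw [sup_comm]
    exact nilpotent_sup_central (hS.commutative Q hQ) (cm_sup_right (cm_symm hPQ) c2)
      (class_two_of_not_r1 hS hP hB h1)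
  obtain ⟨⟨b, hb⟩, b1⟩ := Subgroup.ne_bot_iff_exists_ne_one.1 (hS.ne_bot B hB)
  exact (triple_main hS hP hB hQ (RC_of hS hP hB c1 h1) (RC_of hS hQ hB c2 h2) hPQ hb
    (fun e => b1 (Subtype.ext e))).2.2

/-- if `(B, B^x)` has rank one with `x ∈ PQ` then `B` is opposite to `P` or to `Q` -/
theorem r1_or_r1 (hS : IsRootSubgroupSet S) {P Q : Subgroup G} (hP : P ∈ S) (hQ : Q ∈ S)
    (hB : B ∈ S) (hPQ : ⁅P, Q⁆ = ⊥) {x : G} (hx : x ∈ P ⊔ Q) (h : IsRankOnePair B (conjBy B x)) :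
    IsRankOnePair P B ∨ IsRankOnePair Q B := by
  by_contra hn
  push Not at hn
  refine r1_not_le_nilpotent h (nilpotent_triple hS hP hQ hB hPQ hn.1 hn.2)
    (le_sup_right.trans le_sup_left) (conjBy_le_of_mem (le_sup_right.trans le_sup_left) ?_)
  exact (sup_le (le_sup_left.trans le_sup_left) le_sup_right : P ⊔ Q ≤ P ⊔ B ⊔ Q) hx

theorem RC_mem_conj (h : RootCommutatorCase S A B) {a c : G} (ha : a ∈ A) (a1 : a ≠ 1)
    (hc : c ∈ ⁅A, B⁆) : ∃ b ∈ B, a * c = b * a * b⁻¹ := by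
  obtain ⟨b, hb, e⟩ := RC_surj h ha a1 (Subgroup.inv_mem _ hc)
  refine ⟨b, hb, ?_⟩
  rw [cm_el (RC_left h) ha hc, ← inv_inv c, e, commutatorElement_def]; group

/-- the members of the line `A [A, B]` -/
theorem line_members (hS : IsRootSubgroupSet S) (hA : A ∈ S) (hN : NonIso S A)
    (h : RootCommutatorCase S A B) {E : Subgroup G} (hE : E ∈ S) (hle : E ≤ A ⊔ ⁅A, B⁆) :
    (∃ b ∈ B, conjBy A b = E) ∨ E = ⁅A, B⁆ := by
  by_cases hc : E ≤ ⁅A, B⁆
  · right
    obtain ⟨D, hD, hAD⟩ := hN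
    have hND : NonIso S D := ⟨A, hA, r1_symm hAD⟩
    set C := ⁅A, B⁆ with hCdef
    obtain ⟨⟨e, he⟩, e1⟩ := Subgroup.ne_bot_iff_exists_ne_one.1 (hS.ne_bot E hE)
    have e1 : e ≠ 1 := fun h => e1 (Subtype.ext h)
    by_cases r : IsRankOnePair C D
    · exact (ti_of_r1 hS h.1 hD r hE (hc he) he e1).symm
    have nc : ⁅D, C⁆ ≠ ⊥ := by
      intro k
      obtain ⟨a, ha, a1⟩ := r1_exists_ne_one hAD
      obtain ⟨b, hb, eb⟩ := RC_mem_conj h ha a1 (hc he)
      refine not_root_central_mul hS hA hD hAD (z := e) (fun x hx => (cm_el (RC_left h) hx (hc he)).symm)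
        (fun x hx => (cm_el k hx (hc he)).symm) e1 ha a1 (hS.conj_mem A hA b) ?_
      rw [← cm_el (RC_left h) ha (hc he), eb]; exact conj_mem_conjBy ha b
    have rc := RC_of hS hD h.1 nc (fun k => r (r1_symm k))
    obtain ⟨d, hd, d1⟩ := r1_exists_ne_one (r1_symm hAD)
    have rc' : RootCommutatorCase S D E := by
      refine RC_of hS hD hE (fun k => e1 (RC_inj hS hD hND rc hd (hc he) d1 (cm_el k hd he))) (fun k => ?_)
      exact RC_not_r1 hS hD h.1 rc (r1_of_le hS hD h.1 k le_sup_left (hc.trans le_sup_right))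
    have ee : ⁅D, E⁆ = ⁅D, C⁆ := by rw [← rc'.2.2.2 e he e1, rc.2.2.2 e (hc he) e1]
    apply le_antisymm hc
    intro c hcC
    obtain ⟨e', he', k⟩ := RC_surj rc' hd d1 (ee ▸ Subgroup.commutator_mem_commutator hd hcC)
    have := RC_inj hS hD hND rc hd (C.mul_mem (C.inv_mem (hc he')) hcC) d1 (by
      simp only [commutatorElement_def] at k
      calc d * (e'⁻¹ * c) = d * e'⁻¹ * d⁻¹ * (d * c * d⁻¹ * c⁻¹) * c * d := by group
        _ = _ := by rw [k]; group)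
    rw [inv_mul_eq_one] at this
    exact this ▸ he'
  · left
    obtain ⟨x, hx, hx'⟩ := SetLike.not_le_iff_exists.1 hc
    obtain ⟨a, ha, c, hc, rfl⟩ := mem_sup_of_cm (RC_left h) (hle hx)
    have a1 : a ≠ 1 := by rintro rfl; exact hx' (by simpa using hc)
    obtain ⟨b, hb, eb⟩ := RC_mem_conj h ha a1 hc
    refine ⟨b, hb, (hN.conj hS b).ti hS (hS.conj_mem A hA b) hE (eb ▸ conj_mem_conjBy ha b) hx ?_⟩
    rw [eb]; simpa using a1

theorem line_partition (hS : IsRootSubgroupSet S) (hA : A ∈ S) (hN : NonIso S A)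
    (h : RootCommutatorCase S A B) :
    IsSubgroupPartition (A ⊔ ⁅A, B⁆) (membersIn S (A ⊔ ⁅A, B⁆)) := by
  refine ⟨fun C hC => hC.2, fun x hx x1 => ?_, fun C hC D hD hne => ?_⟩
  · obtain ⟨a, ha, c, hc, rfl⟩ := mem_sup_of_cm (RC_left h) hx
    by_cases a1 : a = 1
    · subst a1; exact ⟨_, ⟨h.1, le_sup_right⟩, by simpa using hc⟩
    · obtain ⟨b, hb, eb⟩ := RC_mem_conj h ha a1 hc
      exact ⟨_, ⟨hS.conj_mem A hA b, conjBy_le_sup_comm hb⟩, eb ▸ conj_mem_conjBy ha b⟩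
  · rw [eq_bot_iff]
    intro x hx
    by_contra x1
    apply hne
    rcases line_members hS hA hN h hC.1 hC.2 with ⟨b, -, rfl⟩ | e
    · exact (hN.conj hS b).ti hS hC.1 hD.1 hx.1 hx.2 x1
    · rcases line_members hS hA hN h hD.1 hD.2 with ⟨b, -, rfl⟩ | e'
      · exact ((hN.conj hS b).ti hS hD.1 hC.1 hx.2 hx.1 x1).symm
      · rw [e, e']

theorem line_partner (hS : IsRootSubgroupSet S) (hA : A ∈ S) (hN : NonIso S A)
    (h : RootCommutatorCase S A B) : A ∈ linePartners S ⁅A, B⁆ :=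
  ⟨⟨hA, RC_ne_left hS h, cm_symm (RC_left h)⟩, by rw [sup_comm]; exact line_partition hS hA hN h⟩

theorem linePartners_symm (hA : A ∈ S) (h : B ∈ linePartners S A) : A ∈ linePartners S B :=
  ⟨⟨hA, h.1.2.1.symm, cm_symm h.1.2.2⟩, by rw [sup_comm]; exact h.2⟩

/-! ### components of the graph `F` -/

theorem path_mem {A E : Subgroup G} (hA : A ∈ S) (h : Relation.ReflTransGen (FAdj S) A E) : E ∈ S := by
  induction h with
  | refl => exact hA
  | tail _ h _ => exact h.2.1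

theorem path_nonIso {A E : Subgroup G} (hN : NonIso S A) (h : Relation.ReflTransGen (FAdj S) A E) :
    NonIso S E := by
  induction h with
  | refl => exact hN
  | tail _ h _ => exact ⟨_, h.1, r1_symm h.2.2⟩

theorem path_symm {A E : Subgroup G} (h : Relation.ReflTransGen (FAdj S) A E) :
    Relation.ReflTransGen (FAdj S) E A := by
  induction h with
  | refl => exact Relation.ReflTransGen.refl
  | tail _ h ih => exact Relation.ReflTransGen.head ⟨h.2.1, h.1, r1_symm h.2.2⟩ ih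

theorem path_conj_root (hS : IsRootSubgroupSet S) (hA : A ∈ S) (hN : NonIso S A) (hC : C ∈ S) {c : G}
    (hc : c ∈ C) : Relation.ReflTransGen (FAdj S) A (conjBy A c) := by
  by_cases c1 : c = 1
  · subst c1; rw [conjBy_one]
  have hAc := hS.conj_mem A hA c
  rcases hS.pair A hA C hC with e | e | e
  · rw [cm_conjBy (cm_symm e) hc]
  · exact Relation.ReflTransGen.single ⟨hA, hAc, (r1_self_conj (r1_symm e) hc c1).1⟩
  obtain ⟨B, hB, hAB⟩ := hN
  obtain ⟨a, ha, a1⟩ := r1_exists_ne_one hAB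
  have s1 : FAdj S A B := ⟨hA, hB, hAB⟩
  rcases r1_or_r1 hS hAc e.1 hB
    (cm_mono (RC_line_comm hS hA e) (conjBy_le_sup_comm hc) le_sup_right) (x := a) (by
      have := RC_sup_conjBy (RC_conj hS e c) (b := c⁻¹) (by rw [conjBy_of_mem hc]; exact C.inv_mem hc)
        (inv_ne_one.2 c1)
      rw [conjBy_inv_conjBy, ← conjBy_commutator, cm_conjBy (RC_right e) hc] at this
      rw [← this]; exact Subgroup.mem_sup_right ha) (r1_self_conj hAB ha a1).1 with k | k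
  · exact (Relation.ReflTransGen.single s1).tail ⟨hB, hAc, r1_symm k⟩
  · have k' := r1_conj k c
    rw [cm_conjBy (RC_right e) hc] at k'
    have hBc := hS.conj_mem B hB c
    exact (((Relation.ReflTransGen.single s1).tail ⟨hB, e.1, r1_symm k⟩).tail ⟨e.1, hBc, k'⟩).tail
      ⟨hBc, hAc, r1_symm (r1_conj hAB c)⟩

theorem root_induction (hS : IsRootSubgroupSet S) {P : G → Prop} (h1 : P 1)
    (hm : ∀ C ∈ S, ∀ c ∈ C, P c) (hmul : ∀ x y, P x → P y → P (x * y)) (g : G) : P g := by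
  have hg : g ∈ ⨆ C : S, (C : Subgroup G) := by
    rw [iSup_subtype]; exact hS.generates.symm ▸ Subgroup.mem_top g
  exact Subgroup.iSup_induction (C := P) _ hg (fun C => hm C C.2) h1 hmul

theorem path_conj (hS : IsRootSubgroupSet S) (g : G) : ∀ A ∈ S, NonIso S A →
    Relation.ReflTransGen (FAdj S) A (conjBy A g) := by
  refine root_induction hS (P := fun g => ∀ A ∈ S, NonIso S A →
    Relation.ReflTransGen (FAdj S) A (conjBy A g)) ?_ ?_ ?_ g
  · intro A _ _; rw [conjBy_one]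
  · intro C hC c hc A hA hN; exact path_conj_root hS hA hN hC hc
  · intro x y hx hy A hA hN
    rw [← conjBy_conjBy]
    exact (hy A hA hN).trans (hx _ (hS.conj_mem A hA y) (hN.conj hS y))

theorem path_isConj {A E : Subgroup G} (h : Relation.ReflTransGen (FAdj S) A E) :
    ∃ g, E = conjBy A g := by
  induction h with
  | refl => exact ⟨1, (conjBy_one _).symm⟩
  | tail _ h ih =>
    obtain ⟨g, rfl⟩ := ih
    obtain ⟨x, -, e⟩ := r1_exists_conj h.2.2
    exact ⟨x * g, by rw [← conjBy_conjBy, e]⟩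

theorem class_nonIso (hS : IsRootSubgroupClass S) (h : ∃ A ∈ S, ∃ B ∈ S, IsRankOnePair A B) :
    ∀ A ∈ S, NonIso S A := by
  obtain ⟨A, hA, B, hB, h⟩ := h
  intro E hE
  obtain ⟨g, rfl⟩ := hS.2.2 A hA E hE
  exact NonIso.conj hS.1 ⟨B, hB, h⟩ g

theorem class_connected (hS : IsRootSubgroupClass S) (hN : ∀ A ∈ S, NonIso S A) :
    IsConnectedFamily (FAdj S) S := by
  intro A hA B hB
  obtain ⟨g, rfl⟩ := hS.2.2 A hA B hB
  exact path_conj hS.1 g A hA (hN A hA)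

end Cfsg.Agent.H29
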