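import Mathlib
import Cfsg.Prelude.Def_RootSubgroups
import Cfsg.Agent.H29.Root2

/-! Abstract root subgroups, part 3: homomorphic images, lines. -/

set_option autoImplicit false
open Cfsg
open scoped commutatorElement

namespace Cfsg.Agent.H29

variable {G : Type*} [Group G] {S : Set (Subgroup G)} {A B C D : Subgroup G}

theorem map_conjBy {H : Type*} [Group H] (f : G →* H) (A : Subgroup G) (g : G) :
    (conjBy A g).map f = conjBy (A.map f) (f g) := by
  rw [conjBy, conjBy, Subgroup.map_map, Subgroup.map_map]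
  congr 1
  ext x; simp

theorem nilpotent_map {H : Type*} [Group H] (f : G →* H) (h : Group.IsNilpotent A) :
    Group.IsNilpotent (A.map f) :=
  Group.nilpotent_of_surjective (f.subgroupMap A) (f.subgroupMap_surjective A)

theorem r1_map {H : Type*} [Group H] (f : G →* H) (h : IsRankOnePair A B) :
    A.map f = B.map f ∨ IsRankOnePair (A.map f) (B.map f) := by
  rcases r1_normal_dichotomy h (N := f.ker ⊓ (A ⊔ B)) inf_le_right (fun x hx => by
    rw [conjBy_inf, conjBy_normal, conjBy_of_mem hx]) with e | e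
  · left
    obtain ⟨x, hx, ex⟩ := r1_exists_conj h
    have : f x ∈ A.map f := by
      have h1 : (A ⊔ B).map f ≤ A.map f := by
        rw [← e, Subgroup.map_sup]
        refine sup_le ?_ le_rfl
        rintro _ ⟨y, hy, rfl⟩
        rw [MonoidHom.mem_ker.1 hy.1]; exact Subgroup.one_mem _
      exact h1 ⟨x, hx, rfl⟩
    rw [← ex, map_conjBy, conjBy_of_mem this]
  · right
    have key : ∀ {A B : Subgroup G}, IsRankOnePair A B →
        (∀ n ∈ f.ker ⊓ (A ⊔ B), ∀ x ∈ A ⊔ B, n * x = x * n) → ∀ a ∈ A.map f, a ≠ 1 →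
        ∃ b ∈ B.map f, b ≠ 1 ∧ conjBy (A.map f) b = conjBy (B.map f) a := by
      rintro A B h e _ ⟨a, ha, rfl⟩ a1
      obtain ⟨b, hb, b1, eb⟩ := r1_cond h ha (by rintro rfl; simp at a1)
      refine ⟨f b, ⟨b, hb, rfl⟩, fun k => b1 (r1_eq_one_of_comm (r1_symm h) hb fun x hx =>
        e b ⟨k, Subgroup.mem_sup_right hb⟩ x (Subgroup.mem_sup_left hx)), ?_⟩
      rw [← map_conjBy, ← map_conjBy, eb]
    refine r1_mk ?_ (nilpotent_map f h.nilpotent_left) (nilpotent_map f h.nilpotent_right) (key h e)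
      (key (r1_symm h) (by rwa [sup_comm B A]))
    intro k
    obtain ⟨b, hb, b1⟩ := r1_exists_ne_one (r1_symm h)
    obtain ⟨a, ha, ea⟩ : f b ∈ A.map f := k ▸ ⟨b, hb, rfl⟩
    have hn := e (a⁻¹ * b) ⟨by simp [MonoidHom.mem_ker, ea], Subgroup.mul_mem _
      (Subgroup.mem_sup_left (A.inv_mem ha)) (Subgroup.mem_sup_right hb)⟩
    apply b1 (r1_eq_one (r1_symm h) hb _)
    rw [show b = a * (a⁻¹ * b) by group, ← conjBy_conjBy,
      conjBy_of_comm (fun x hx => hn x (Subgroup.mem_sup_left hx)), conjBy_of_mem ha]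

theorem r1_of_map {H : Type*} [Group H] {f : G →* H} (hf : Function.Injective f)
    (h : IsRankOnePair (A.map f) (B.map f)) : IsRankOnePair A B := by
  have key : ∀ {A B : Subgroup G}, IsRankOnePair (A.map f) (B.map f) → ∀ a ∈ A, a ≠ 1 →
      ∃ b ∈ B, b ≠ 1 ∧ conjBy A b = conjBy B a := by
    intro A B h a ha a1
    obtain ⟨_, ⟨b, hb, rfl⟩, b1, e⟩ := r1_cond h ⟨a, ha, rfl⟩ (fun k => a1 (hf (by simpa using k)))
    refine ⟨b, hb, by rintro rfl; simp at b1, Subgroup.map_injective hf ?_⟩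
    rwa [map_conjBy, map_conjBy]
  refine r1_mk (by rintro rfl; exact h.ne rfl) ?_ ?_ (key h) (key (r1_symm h))
  · haveI := h.nilpotent_left
    exact Group.nilpotent_of_mulEquiv (A.equivMapOfInjective f hf).symm
  · haveI := h.nilpotent_right
    exact Group.nilpotent_of_mulEquiv (B.equivMapOfInjective f hf).symm

theorem special_map {H : Type*} [Group H] {f : G →* H} (hf : Function.Injective f)
    (h : IsSpecialRankOnePair A B) : IsSpecialRankOnePair (A.map f) (B.map f) := by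
  refine ⟨(r1_map f h.1).resolve_left (fun e => h.1.ne (Subgroup.map_injective hf e)), ?_⟩
  rintro _ ⟨a, ha, rfl⟩ a1 _ ⟨b, hb, rfl⟩ b1 e
  rw [← map_inv, ← map_inv, ← map_conjBy, ← map_conjBy] at e
  have := h.2 a ha (by rintro rfl; simp at a1) b hb (by rintro rfl; simp at b1)
    (Subgroup.map_injective hf e)
  simpa using congrArg f this

/-- conjugation action on a normalized abelian subgroup -/
@[reducible] def conjAct (X N : Subgroup G) (hX : X ≤ Subgroup.normalizer (N : Set G)) :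
    DistribMulAction X (Additive N) where
  smul x n := Additive.ofMul ⟨x * (n.toMul : N) * (x : G)⁻¹, conj_mem_of_norm (hX x.2) n.toMul.2⟩
  one_smul n := by
    apply Additive.toMul.injective; apply Subtype.ext
    change ((1 : X) : G) * _ * ((1 : X) : G)⁻¹ = _
    simp
  mul_smul x y n := by
    apply Additive.toMul.injective; apply Subtype.ext
    change ((x * y : X) : G) * _ * ((x * y : X) : G)⁻¹ = (x : G) * ((y : G) * _ * (y : G)⁻¹) * (x : G)⁻¹
    simp [mul_assoc]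
  smul_zero x := by
    apply Additive.toMul.injective; apply Subtype.ext
    change (x : G) * 1 * (x : G)⁻¹ = 1
    simp
  smul_add x m n := by
    apply Additive.toMul.injective; apply Subtype.ext
    change (x : G) * ((m.toMul : G) * (n.toMul : G)) * (x : G)⁻¹ =
      ((x : G) * (m.toMul : G) * (x : G)⁻¹) * ((x : G) * (n.toMul : G) * (x : G)⁻¹)
    group

theorem r1_special_of_conj (h : IsRankOnePair A B) {N : Subgroup G} (hN : IsMulCommutative N)
    (hX : A ⊔ B ≤ Subgroup.normalizer (N : Set G)) (hq : ⁅⁅A, N⁆, A⁆ = ⊥)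
    (hn : ⁅⁅A, N⁆, B⁆ ≠ ⊥) : IsSpecialRankOnePair A B := by
  letI inst : CommGroup N := { (inferInstance : Group N) with mul_comm := hN.is_comm.comm }
  letI : DistribMulAction ↥(A ⊔ B) (Additive N) := conjAct (A ⊔ B) N hX
  have e1 : (A.subgroupOf (A ⊔ B)).map (A ⊔ B).subtype = A := Subgroup.map_subgroupOf_eq_of_le le_sup_left
  have e2 : (B.subgroupOf (A ⊔ B)).map (A ⊔ B).subtype = B := Subgroup.map_subgroupOf_eq_of_le le_sup_right
  have h' : IsRankOnePair (A.subgroupOf (A ⊔ B)) (B.subgroupOf (A ⊔ B)) :=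
    r1_of_map (A ⊔ B).subtype_injective (by rwa [e1, e2])
  have hs : ∀ (x : ↥(A ⊔ B)) (n : Additive N), ((x • n - n).toMul : G) = ⁅(x : G), (n.toMul : G)⁆ :=
    fun x n => by rw [sub_eq_add_neg]; rfl
  have hs' : ∀ (x : ↥(A ⊔ B)) (n : Additive N), x • n = n ↔ (x : G) * (n.toMul : G) = (n.toMul : G) * x := by
    intro x n
    rw [← mul_inv_eq_iff_eq_mul]
    exact ⟨fun k => congrArg (fun m : Additive N => (m.toMul : G)) k,
      fun k => Additive.toMul.injective (Subtype.ext k)⟩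
  have := r1_special_of_quad (N := Additive N) h' (by
    intro a ha n a' ha'
    rw [hs', hs]
    exact (cm_el hq (Subgroup.commutator_mem_commutator ha n.toMul.2) ha').symm) (by
    by_contra hc
    push Not at hc
    apply hn
    rw [Subgroup.commutator_eq_bot_iff_le_centralizer, Subgroup.commutator_le]
    intro a ha n hn b hb
    have := hc ⟨a, Subgroup.mem_sup_left ha⟩ (Subgroup.mem_sup_left ha) (Additive.ofMul ⟨n, hn⟩)
      ⟨b, Subgroup.mem_sup_right hb⟩ (Subgroup.mem_sup_right hb)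
    rw [hs', hs] at this
    exact this)
  have := special_map (A ⊔ B).subtype_injective this
  rwa [e1, e2] at this

/-! ### lines -/

theorem RC_swap (hS : IsRootSubgroupSet S) (h : IsRankOnePair A C) {P : Subgroup G}
    (hAP : ⁅A, P⁆ = ⊥) (hPC : RootCommutatorCase S P C) {c : G} (hc : c ∈ C) (c1 : c ≠ 1) :
    ∃ a ∈ A, RootCommutatorCase S A (conjBy P c) ∧ ⁅A, conjBy P c⁆ = conjBy ⁅P, C⁆ (c * a) ∧
      conjBy C (c * a) = A := by
  obtain ⟨a, ha, -, e⟩ := r1_cond (r1_symm h) (C.inv_mem hc) (inv_ne_one.2 c1)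
  have e1 : conjBy C (c * a) = A := by rw [← conjBy_conjBy, e, conjBy_conjBy_inv]
  have e2 : conjBy P (c * a) = conjBy P c := by rw [← conjBy_conjBy, cm_conjBy hAP ha]
  have := RC_conj hS (RC_symm hPC) (c * a)
  rw [e1, e2] at this
  exact ⟨a, ha, this, by rw [conjBy_commutator, e1, e2, Subgroup.commutator_comm], e1⟩

/-- `[A, [P, C]] = P` for a point `P` on a line through `A` which is special to `C ∈ Ω_A` -/
theorem line_step (hS : IsRootSubgroupSet S) (hF : ∀ A ∈ S, NonIso S A) (hA : A ∈ S) (hC : C ∈ S)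
    (h : IsRankOnePair A C) {P : Subgroup G} (hP : P ∈ S) (hAP : ⁅A, P⁆ = ⊥)
    (hPC : RootCommutatorCase S P C) (hL : ∀ a ∈ A, ∀ p ∈ P, a ≠ 1 → ∃ Q ∈ S, p * a ∈ Q) :
    RootCommutatorCase S A ⁅P, C⁆ ∧ ⁅A, ⁅P, C⁆⁆ = P := by
  obtain ⟨c, hc, c1⟩ := r1_exists_ne_one (r1_symm h)
  obtain ⟨a, ha, k1, k2, k3⟩ := RC_swap hS h hAP hPC hc c1
  set D := ⁅P, C⁆ with hD
  have hDS : D ∈ S := hPC.1
  have hPc := hS.conj_mem P hP c
  have sup1 := RC_sup_conjBy hPC hc c1
  have rAD : RootCommutatorCase S A D := by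
    refine RC_of hS hA hDS (fun k => RC_ne_bot hS k1 (cm_mono (cm_sup_right hAP k) le_rfl
      (conjBy_le_sup_comm hc))) (fun k => ?_)
    refine r1_not_le_nilpotent k (nilpotent_triple hS hP hPc hA
      (cm_mono (RC_line_comm hS hP hPC) le_sup_left (conjBy_le_sup_comm hc))
      (fun k => r1_not_comm k (cm_symm hAP)) (fun k => RC_not_r1 hS hA hPc k1 (r1_symm k)))
      (le_sup_right.trans le_sup_left) ?_
    exact (le_sup_right.trans sup1.ge).trans (sup_le (le_sup_left.trans le_sup_left) le_sup_right)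
  refine ⟨rAD, ?_⟩
  set E := ⁅A, D⁆ with hE
  have hES : E ∈ S := rAD.1
  have PE : ⁅P, E⁆ = ⊥ := cm_mono (cm_sup_right (cm_symm hAP) (RC_left hPC)) le_rfl
    (Subgroup.commutator_le_sup A D)
  have e1 : ⁅A, conjBy P c⁆ = E := by
    obtain ⟨⟨x, hx⟩, x1⟩ := Subgroup.ne_bot_iff_exists_ne_one.1 (RC_ne_bot hS k1)
    refine (hF _ k1.1).ti hS k1.1 hES hx ?_ (fun e => x1 (Subtype.ext e))
    have : ⁅A, conjBy P c⁆ ≤ E := by
      refine (Subgroup.commutator_mono le_rfl (conjBy_le_sup_comm hc)).trans ?_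
      exact comm_sup_le_right (cm_le_norm PE) (Subgroup.normalizer_commutator_ge_right A D)
        (by rw [hAP]; exact bot_le) le_rfl
    exact this hx
  rw [e1] at k2
  -- `RC(E, C)` and `[E, C] = D`
  have a1 : a ≠ 1 := by
    rintro rfl
    rw [mul_one, conjBy_of_mem hc] at k3; exact h.ne k3.symm
  have rEC : RootCommutatorCase S E C := by
    obtain ⟨c', hc', -, e⟩ := r1_cond h (A.inv_mem ha) (inv_ne_one.2 a1)
    have := RC_conj hS (RC_conj hS (RC_symm rAD) c') (c * a)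
    rw [cm_conjBy (RC_right hPC) hc', ← k2, e, conjBy_conjBy, mul_inv_cancel_right,
      conjBy_of_mem hc] at this
    exact this
  have e2 : ⁅E, C⁆ = D := by
    obtain ⟨⟨x, hx⟩, x1⟩ := Subgroup.ne_bot_iff_exists_ne_one.1 (RC_ne_bot hS rEC)
    have x1 : x ≠ 1 := fun e => x1 (Subtype.ext e)
    refine (hF _ rEC.1).ti hS rEC.1 hDS hx ?_ x1
    obtain ⟨g, hg, eg⟩ := RC_surj' rEC (C.inv_mem hc) (inv_ne_one.2 c1) hx
    have m1 : c⁻¹ * g * c ∈ D ⊔ ⁅D, A⁆ := by
      apply conjBy_le_sup_comm ha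
      rw [← mem_conjBy, conjBy_conjBy, ← k2]; exact hg
    have m2 : x ∈ D ⊔ E := by
      rw [eg, commutatorElement_def, inv_inv]
      rw [Subgroup.commutator_comm] at m1
      exact Subgroup.mul_mem _ m1 (Subgroup.mem_sup_right (E.inv_mem hg))
    obtain ⟨d, hd, g', hg', rfl⟩ := mem_sup_of_cm (RC_right rAD) m2
    have q1 := cm_el (RC_right rEC) hc hx
    have q2 := cm_el (RC_right hPC) hc hd
    have : g' = 1 := RC_inj hS hC (hF C hC) (RC_symm rEC) hc hg' c1 (by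
      apply mul_left_cancel (a := d)
      rw [← mul_assoc, ← q2, mul_assoc, q1, mul_assoc])
    rw [this, mul_one]; exact hd
  obtain ⟨⟨p, hp⟩, p1⟩ := Subgroup.ne_bot_iff_exists_ne_one.1 (hS.ne_bot P hP)
  have p1 : p ≠ 1 := fun e => p1 (Subtype.ext e)
  obtain ⟨g, hg, eg⟩ := RC_surj' rEC hc c1 (c := ⁅c, p⁆) (by
    rw [e2, hD, Subgroup.commutator_comm]; exact Subgroup.commutator_mem_commutator hc hp)
  by_cases u1 : g⁻¹ * p = 1
  · rw [inv_mul_eq_one] at u1
    exact (hF E hES).ti hS hES hP (u1 ▸ hg) hp p1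
  exfalso
  have uA : ∀ x ∈ A, g⁻¹ * p * x = x * (g⁻¹ * p) := fun x hx =>
    (Commute.mul_right (cm_el (RC_left rAD) hx (E.inv_mem hg)) (cm_el hAP hx hp)).symm
  have uc : g⁻¹ * p * c = c * (g⁻¹ * p) := by
    simp only [commutatorElement_def] at eg
    calc g⁻¹ * p * c = c * g⁻¹ * c⁻¹ * (c * g * c⁻¹ * g⁻¹) * p * c := by group
      _ = _ := by rw [← eg]; group
  have uC : ∀ x ∈ C, g⁻¹ * p * x = x * (g⁻¹ * p) := by
    have := (r1_self_conj (r1_symm h) hc c1).2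
    intro x hx
    refine comm_sup uA (B := conjBy A c) (fun y hy => ?_) x (this ▸ Subgroup.mem_sup_left hx)
    obtain ⟨y', hy', rfl⟩ := mem_conjBy'.1 hy
    exact Commute.mul_right (Commute.mul_right uc (uA y' hy')) (Commute.inv_right uc)
  obtain ⟨Q, hQ, hq⟩ := hL a ha p hp a1
  obtain ⟨d, hd, ed⟩ := RC_mem_conj rAD ha a1 (E.inv_mem hg)
  refine not_root_central_mul hS hA hC h uA uC u1 ha a1 (hS.conj_mem Q hQ d) ?_
  have : g⁻¹ * p * a = d * (p * a) * d⁻¹ := by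
    rw [← mul_assoc d, ← cm_el (RC_left hPC) hp hd, mul_assoc p, mul_assoc p, ← ed,
      ← cm_el PE hp (E.inv_mem hg), mul_assoc, cm_el (RC_left rAD) ha (E.inv_mem hg)]
  rw [this]; exact conj_mem_conjBy hq d

theorem line_inf (hS : IsRootSubgroupSet S) (hF : ∀ A ∈ S, NonIso S A) (hA : A ∈ S) (hB : B ∈ S)
    (hne : A ≠ B) {x : G} (h1 : x ∈ A) (h2 : x ∈ B) : x = 1 := by
  by_contra x1; exact hne ((hF A hA).ti hS hA hB h1 h2 x1)

/-- the point of a line `AB` which is not opposite to `C ∈ Ω_A` -/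
theorem line_point (hS : IsRootSubgroupSet S) (hF : ∀ A ∈ S, NonIso S A) (hA : A ∈ S)
    (hB : B ∈ linePartners S A) (hC : C ∈ S) (h : IsRankOnePair A C) :
    ∃ R ∈ S, RootCommutatorCase S R C ∧ RootCommutatorCase S A ⁅R, C⁆ ∧ ⁅A, ⁅R, C⁆⁆ = R ∧
      A ⊔ R = A ⊔ B := by
  have hBS := hB.1.1
  have hc := hB.1.2.2
  have hL' := cm_self (comm_of_sup (hS.commutative A hA) (hS.commutative B hBS) hc)
  have main : ∀ R ∈ S, R ≤ A ⊔ B → ¬ IsRankOnePair R C →
      RootCommutatorCase S R C ∧ RootCommutatorCase S A ⁅R, C⁆ ∧ ⁅A, ⁅R, C⁆⁆ = R := by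
    intro R hR hle hn
    have hne : A ≠ R := by rintro rfl; exact hn h
    have hAR : ⁅A, R⁆ = ⊥ := cm_mono hL' le_sup_left hle
    have hL : ∀ a ∈ A, ∀ p ∈ R, a ≠ 1 → ∃ Q ∈ S, p * a ∈ Q := by
      intro a ha p hp a1
      obtain ⟨Q, hQ, hq⟩ := hB.2.2.1 (p * a) (Subgroup.mul_mem _ (hle hp) (Subgroup.mem_sup_left ha))
        (fun e => a1 (line_inf hS hF hA hR hne ha (by
          rw [eq_inv_of_mul_eq_one_right e]; exact R.inv_mem hp)))
      exact ⟨Q, hQ.1, hq⟩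
    have rc : RootCommutatorCase S R C := by
      refine RC_of hS hR hC (fun k => ?_) hn
      obtain ⟨⟨p, hp⟩, p1⟩ := Subgroup.ne_bot_iff_exists_ne_one.1 (hS.ne_bot R hR)
      obtain ⟨a, ha, a1⟩ := r1_exists_ne_one h
      obtain ⟨Q, hQ, hq⟩ := hL a ha p hp a1
      exact not_root_central_mul hS hA hC h (fun x hx => (cm_el hAR hx hp).symm)
        (fun x hx => cm_el k hp hx) (fun e => p1 (Subtype.ext e)) ha a1 hQ hq
    exact ⟨rc, line_step hS hF hA hC h hR hAR rc hL⟩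
  by_cases hBC : IsRankOnePair B C
  · obtain ⟨c, hc', c1⟩ := r1_exists_ne_one (r1_symm h)
    obtain ⟨a, ha, a1, ea⟩ := r1_cond (r1_symm h) hc' c1
    obtain ⟨b, hb, b1, eb⟩ := r1_cond (r1_symm hBC) hc' c1
    have ab1 : a⁻¹ * b ≠ 1 := fun e =>
      b1 (line_inf hS hF hA hBS hB.1.2.1.symm (by rw [← inv_mul_eq_one.1 e]; exact ha) hb)
    obtain ⟨R, hR, hr⟩ := hB.2.2.1 (a⁻¹ * b)
      (Subgroup.mul_mem _ (Subgroup.mem_sup_left (A.inv_mem ha)) (Subgroup.mem_sup_right hb)) ab1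
    have hn : ¬ IsRankOnePair R C := by
      intro k
      apply r1_not_comm (r1_self_conj k hr ab1).1
      rw [← cm_conj_iff (g := a), conjBy_conjBy, mul_inv_cancel_left, ea, eb]
      exact cm_conj hc c
    obtain ⟨m1, m2, m3⟩ := main R hR.1 hR.2 hn
    refine ⟨R, hR.1, m1, m2, m3, le_antisymm (sup_le le_sup_left hR.2) (sup_le le_sup_left ?_)⟩
    obtain ⟨d, hd, ed⟩ := RC_mem_conj m2 ha a1 (m3.symm ▸ hr)
    rw [mul_inv_cancel_left] at ed
    rw [(hF B hBS).ti hS hBS (hS.conj_mem A hA d) hb (ed ▸ conj_mem_conjBy ha d) b1]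
    conv_rhs => rw [← m3]
    exact conjBy_le_sup_comm hd
  · obtain ⟨m1, m2, m3⟩ := main B hBS le_sup_right hBC
    exact ⟨B, hBS, m1, m2, m3, rfl⟩

/-- for every point `P` of a line there is a member of `S` on a line with `P`, normalizing the line
and transitive on the remaining points -/
theorem line_fixer (hS : IsRootSubgroupSet S) (hF : ∀ A ∈ S, NonIso S A) (hA : A ∈ S)
    (hB : B ∈ linePartners S A) {P : Subgroup G} (hP : P ∈ membersIn S (A ⊔ B)) :
    ∃ D ∈ S, ∃ Q ∈ S, RootCommutatorCase S Q D ∧ ⁅Q, D⁆ = P ∧ Q ⊔ P = A ⊔ B := by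
  obtain ⟨C, hC, h⟩ := hF A hA
  obtain ⟨R, hR, m1, m2, m3, m4⟩ := line_point hS hF hA hB hC h
  set D := ⁅R, C⁆
  have nD : D ≤ Subgroup.normalizer ((A ⊔ B : Subgroup G) : Set G) := by
    rw [← m4, ← m3]; exact le_norm_sup_comm
  have hAR : A ∈ linePartners S R := m3 ▸ line_partner hS hA (hF A hA) m2
  obtain ⟨C', hC', h'⟩ := hF R hR
  obtain ⟨R', hR', n1, n2, n3, n4⟩ := line_point hS hF hR hAR hC' h'
  set D' := ⁅R', C'⁆
  have key : ∀ d ∈ D, ∀ {P Q E : Subgroup G}, E ∈ S → Q ∈ S → RootCommutatorCase S Q E → ⁅Q, E⁆ = P →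
      Q ⊔ P = A ⊔ B → ∃ D ∈ S, ∃ Q ∈ S, RootCommutatorCase S Q D ∧ ⁅Q, D⁆ = conjBy P d ∧
        Q ⊔ conjBy P d = A ⊔ B := by
    intro d hd P Q E hE hQ k1 k2 k3
    exact ⟨_, hS.conj_mem E hE d, _, hS.conj_mem Q hQ d, RC_conj hS k1 d,
      by rw [← conjBy_commutator, k2], by rw [← conjBy_sup, k3, conjBy_eq_self_iff.2 (nD hd)]⟩
  rcases line_members hS hA (hF A hA) m2 hP.1 (by rw [m3, m4]; exact hP.2) with ⟨d, hd, rfl⟩ | e
  · rcases line_members hS hA (hF A hA) m2 hR' (by rw [m3, sup_comm, ← n4]; exact le_sup_right)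
      with ⟨d', hd', e'⟩ | e'
    · have := key (d * d'⁻¹) (D.mul_mem hd (D.inv_mem hd')) n1.1 hR n2 n3 (by rw [n4, sup_comm, m4])
      rwa [← e', conjBy_conjBy, inv_mul_cancel_right] at this
    · exact absurd (n3.trans (e'.trans m3)).symm (RC_ne_left hS n2)
  · rw [e, m3]; exact ⟨D, m1.1, A, hA, m2, m3, m4⟩

/-- strong transitivity on the points of a line -/
theorem line_trans (hS : IsRootSubgroupSet S) (hF : ∀ A ∈ S, NonIso S A) (hA : A ∈ S)
    (hB : B ∈ linePartners S A) {P : Subgroup G} (hP : P ∈ membersIn S (A ⊔ B)) :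
    ∃ D ∈ linePartners S P, D ≤ Subgroup.normalizer ((A ⊔ B : Subgroup G) : Set G) ∧
      ∀ Q ∈ membersIn S (A ⊔ B), Q ≠ P → (RootCommutatorCase S Q D ∧ ⁅Q, D⁆ = P) ∧
        ∀ Q' ∈ membersIn S (A ⊔ B), Q' ≠ P → ∃ d ∈ D, conjBy Q d = Q' := by
  obtain ⟨D, hD, Q, hQ, k1, k2, k3⟩ := line_fixer hS hF hA hB hP
  have mem : ∀ T ∈ membersIn S (A ⊔ B), T ≠ P → ∃ d ∈ D, conjBy Q d = T := fun T hT hne =>
    (line_members hS hQ (hF Q hQ) k1 hT.1 (by rw [k2, k3]; exact hT.2)).resolve_right (k2 ▸ hne)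
  refine ⟨D, ?_, ?_, fun T hT hne => ⟨?_, fun T' hT' hne' => ?_⟩⟩
  · have := line_partner hS hD (hF D hD) (RC_symm k1)
    rwa [Subgroup.commutator_comm, k2] at this
  · rw [← k3, ← k2]; exact le_norm_sup_comm
  · obtain ⟨d, hd, rfl⟩ := mem T hT hne
    have := RC_conj hS k1 d
    rw [conjBy_of_mem hd] at this
    refine ⟨this, ?_⟩
    conv_lhs => rw [← conjBy_of_mem hd]
    rw [← conjBy_commutator, cm_conjBy (RC_right k1) hd, k2]
  · obtain ⟨d, hd, rfl⟩ := mem T hT hne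
    obtain ⟨d', hd', rfl⟩ := mem T' hT' hne'
    exact ⟨d' * d⁻¹, D.mul_mem hd' (D.inv_mem hd), by rw [conjBy_conjBy, inv_mul_cancel_right]⟩

theorem line_third (hS : IsRootSubgroupSet S) (hF : ∀ A ∈ S, NonIso S A) (hA : A ∈ S)
    (hB : B ∈ linePartners S A) : ∃ T ∈ membersIn S (A ⊔ B), T ≠ A ∧ T ≠ B := by
  obtain ⟨⟨a, ha⟩, a1⟩ := Subgroup.ne_bot_iff_exists_ne_one.1 (hS.ne_bot A hA)
  obtain ⟨⟨b, hb⟩, b1⟩ := Subgroup.ne_bot_iff_exists_ne_one.1 (hS.ne_bot B hB.1.1)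
  have a1 : a ≠ 1 := fun e => a1 (Subtype.ext e)
  have b1 : b ≠ 1 := fun e => b1 (Subtype.ext e)
  have hne := hB.1.2.1.symm
  obtain ⟨T, hT, ht⟩ := hB.2.2.1 (a * b)
    (Subgroup.mul_mem _ (Subgroup.mem_sup_left ha) (Subgroup.mem_sup_right hb))
    (fun e => a1 (line_inf hS hF hA hB.1.1 hne ha (by rw [eq_inv_of_mul_eq_one_left e]; exact B.inv_mem hb)))
  refine ⟨T, hT, ?_, ?_⟩
  · rintro rfl; exact b1 (line_inf hS hF hA hB.1.1 hne ((T.mul_mem_cancel_left ha).1 ht) hb)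
  · rintro rfl; exact a1 (line_inf hS hF hA hB.1.1 hne ha ((T.mul_mem_cancel_right hb).1 ht))

end Cfsg.Agent.H29
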