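import Mathlib
import Cfsg.Agent.H29.Quad5
import Cfsg.Agent.H29.Root3

/-! Quadratic pairs VI: the commutator case. -/

set_option autoImplicit false
open Cfsg Module Polynomial
open scoped MatrixGroups commutatorElement

namespace Cfsg.Agent.H29

variable {k : Type*} [Field k] {M : Type*} [AddCommGroup M] [Module k M] {G : Subgroup (End k M)ˣ}

theorem range_sub_le (x y : End k M) : LinearMap.range (x - y) ≤ LinearMap.range x ⊔ LinearMap.range y := by
  rintro _ ⟨v, rfl⟩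
  exact Submodule.sub_mem _ (Submodule.mem_sup_left ⟨v, rfl⟩) (Submodule.mem_sup_right ⟨v, rfl⟩)

theorem inf_ker_le_sub (x y : End k M) : LinearMap.ker x ⊓ LinearMap.ker y ≤ LinearMap.ker (x - y) := by
  rintro v ⟨h1, h2⟩
  simp_all

variable [FiniteDimensional k M]

theorem rk_mul_add (a b : End k M) :
    rk (b * a) + finrank k ↥(LinearMap.range a ⊓ LinearMap.ker b) = rk a := by
  have := LinearMap.finrank_range_add_finrank_ker (b.domRestrict (LinearMap.range a))
  rw [LinearMap.range_domRestrict, LinearMap.ker_domRestrict,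
    ← Submodule.finrank_map_subtype_eq (LinearMap.range a), Submodule.map_comap_subtype] at this
  rw [rk, rk, ← this, End.mul_eq_comp, LinearMap.range_comp]

variable (h2 : (2 : k) ≠ 0) (h3 : Nat.card k ≠ 3)
include h2 h3

theorem comm_struct {a b : End k M} (ha : a ∈ QTd G) (hb : b ∈ QTd G) (h : a * b * a = 0)
    (hc : a * b - b * a ≠ 0) : a * b - b * a ∈ QTd G ∧
      LinearMap.range (a * b) = LinearMap.range a ⊓ LinearMap.ker b ∧
      LinearMap.ker (a * b) = LinearMap.range a ⊔ LinearMap.ker b ∧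
      LinearMap.range (a * b) ⊓ LinearMap.range (b * a) = ⊥ ∧
      LinearMap.range (a * b - b * a) = LinearMap.range (a * b) ⊔ LinearMap.range (b * a) ∧
      LinearMap.ker (a * b - b * a) = LinearMap.ker (a * b) ⊓ LinearMap.ker (b * a) := by
  have h' := nopp_symm h2 h3 ha hb h
  have l1 : LinearMap.range (a * b) ≤ LinearMap.range a ⊓ LinearMap.ker b :=
    le_inf (range_mul_le _ _) (mul_eq_zero_iff_range_le.1 (by rw [← mul_assoc, h']))
  have l2 : LinearMap.range a ⊔ LinearMap.ker b ≤ LinearMap.ker (a * b) :=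
    sup_le (mul_eq_zero_iff_range_le.1 h) (ker_le_mul _ _)
  have e1 := rk_mul_add a b
  have e2 : rk (a * b) ≤ _ := Submodule.finrank_mono l1
  have hT := QT.comm ha.1 hb.1 h h'
  have e3 := ha.2.2 _ hT hc
  have e4 : rk (a * b - b * a) ≤ _ := Submodule.finrank_mono (range_sub_le (a * b) (b * a))
  have e5 := Submodule.finrank_sup_add_finrank_inf_eq (LinearMap.range (a * b)) (LinearMap.range (b * a))
  change _ = rk (a * b) + rk (b * a) at e5
  have e6 := Submodule.finrank_sup_add_finrank_inf_eq (LinearMap.range a) (LinearMap.ker b)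
  change _ = rk a + _ at e6
  have e7 := rk_add_ker b
  have e8 := rk_add_ker (a * b)
  have e9 := rk_add_ker (b * a)
  have e10 := rk_add_ker (a * b - b * a)
  have e11 := QTd.rk_eq ha hb
  have e12 := Submodule.finrank_sup_add_finrank_inf_eq (LinearMap.ker (a * b)) (LinearMap.ker (b * a))
  have e13 := Submodule.finrank_le (LinearMap.ker (a * b) ⊔ LinearMap.ker (b * a))
  refine ⟨QTd.of_le ha hT hc (by omega), Submodule.eq_of_le_of_finrank_le l1 (by change _ ≤ rk _; omega),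
    (Submodule.eq_of_le_of_finrank_le l2 (by omega)).symm, Submodule.finrank_eq_zero.1 (by omega),
    Submodule.eq_of_le_of_finrank_le (range_sub_le _ _) (by change _ ≤ rk _; omega),
    (Submodule.eq_of_le_of_finrank_le (inf_ker_le_sub _ _) (by omega)).symm⟩

theorem comm_mem_EE {a b x y : End k M} (ha : a ∈ QTd G) (hb : b ∈ QTd G) (h : a * b * a = 0)
    (hc : a * b - b * a ≠ 0) (hx : x ∈ EE G a) (hy : y ∈ EE G b) : x * y - y * x ∈ EE G (a * b - b * a) := by
  have h' := nopp_symm h2 h3 ha hb h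
  obtain ⟨c1, c2, c3, -, c5, c6⟩ := comm_struct h2 h3 ha hb h hc
  obtain ⟨-, d2, d3, -, -, -⟩ := comm_struct h2 h3 hb ha h' (fun e => hc (by rw [sub_eq_zero] at *; exact e.symm))
  have key : ∀ {a b x y : End k M}, a ∈ QTd G → b ∈ QTd G → a * b * a = 0 → x ∈ EE G a → y ∈ EE G b →
      LinearMap.range (x * y) ≤ LinearMap.range a ⊓ LinearMap.ker b ∧
      LinearMap.range a ⊔ LinearMap.ker b ≤ LinearMap.ker (x * y) := by
    intro a b x y ha hb h hx hy
    refine ⟨le_inf ((range_mul_le _ _).trans hx.2.2.1) (mul_eq_zero_iff_range_le.1 ?_),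
      sup_le (mul_eq_zero_iff_range_le.1 (nopp_all h2 h3 ha hb h hx (EE.self ha.1) hy))
        (hy.2.1.trans (ker_le_mul _ _))⟩
    rw [← mul_assoc]; exact nopp_all h2 h3 hb ha (nopp_symm h2 h3 ha hb h) (EE.self hb.1) hy hx
  obtain ⟨k1, k2⟩ := key ha hb h hx hy
  obtain ⟨k3, k4⟩ := key hb ha h' hy hx
  refine EE.mk c1.1.1 (QT.comm hx.1 hy.1 (nopp_all h2 h3 ha hb h hx hx hy) (nopp_all h2 h3 hb ha h' hy hy hx))
    ?_ ?_
  · rw [c6, c3, d3]; exact (inf_le_inf k2 k4).trans (inf_ker_le_sub _ _)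
  · rw [c5, c2, d2]; exact (range_sub_le _ _).trans (sup_le_sup k1 k3)

/-- commuting elements annihilate each other -/
theorem comm_ne_zero {a b x y : End k M} (ha : a ∈ QTd G) (hb : b ∈ QTd G) (h : a * b * a = 0)
    (hc : a * b - b * a ≠ 0) (hx : x ∈ EE G a) (x0 : x ≠ 0) (hy : y ∈ EE G b) (y0 : y ≠ 0) :
    x * y - y * x ≠ 0 := by
  intro e
  have h' := nopp_symm h2 h3 ha hb h
  obtain ⟨-, c2, -, c4, -, -⟩ := comm_struct h2 h3 ha hb h hc
  obtain ⟨-, d2, -, -, -, -⟩ := comm_struct h2 h3 hb ha h' (fun e => hc (by rw [sub_eq_zero] at *; exact e.symm))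
  rw [sub_eq_zero] at e
  have e1 : LinearMap.range (x * y) ≤ ⊥ := by
    rw [← c4, c2, d2]
    refine le_inf (le_inf ((range_mul_le _ _).trans hx.2.2.1) (mul_eq_zero_iff_range_le.1 ?_))
      (e ▸ le_inf ((range_mul_le _ _).trans hy.2.2.1) (mul_eq_zero_iff_range_le.1 ?_))
    · rw [← mul_assoc]; exact nopp_all h2 h3 hb ha h' (EE.self hb.1) hy hx
    · rw [← mul_assoc]; exact nopp_all h2 h3 ha hb h (EE.self ha.1) hx hy
  rw [le_bot_iff, LinearMap.range_eq_bot] at e1
  have a' := EE.self' ha hx x0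
  have b' := EE.self' hb hy y0
  exact hc (by rw [EE.right b' (EE.left a' e1), EE.right a' (EE.left b' (e ▸ e1)), sub_self])

omit h2 h3 in
theorem finrank_EE_conj (a : End k M) {g : (End k M)ˣ} (hg : g ∈ G) :
    finrank k (EE G ((g : End k M) * a * ((g⁻¹ : (End k M)ˣ) : End k M))) = finrank k (EE G a) := by
  have key : ∀ (a : End k M) {g : (End k M)ˣ}, g ∈ G →
      finrank k (EE G a) ≤ finrank k (EE G ((g : End k M) * a * ((g⁻¹ : (End k M)ˣ) : End k M))) := by
    intro a g hg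
    let f : End k M →ₗ[k] End k M := (LinearMap.mulRight k ((g⁻¹ : (End k M)ˣ) : End k M)).comp
      (LinearMap.mulLeft k (g : End k M))
    refine LinearMap.finrank_le_finrank_of_injective (f := f.restrict (fun x hx => EE_conj_le hg hx)) ?_
    intro x y e
    have : (g : End k M) * x * ((g⁻¹ : (End k M)ˣ) : End k M) = g * y * ((g⁻¹ : (End k M)ˣ) : End k M) :=
      congrArg Subtype.val e
    simpa using this
  refine le_antisymm ?_ (key a hg)
  have := key ((g : End k M) * a * ((g⁻¹ : (End k M)ˣ) : End k M)) (G.inv_mem hg)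
  rwa [show ((g⁻¹ : (End k M)ˣ) : End k M) * ((g : End k M) * a * ((g⁻¹ : (End k M)ˣ) : End k M)) *
    ((g⁻¹⁻¹ : (End k M)ˣ) : End k M) = a by simp [mul_assoc]] at this

theorem finrank_EE_opp {a b : End k M} (ha : a ∈ QTd G) (hb : b ∈ QTd G) (h : a * b * a ≠ 0) :
    finrank k (EE G a) = finrank k (EE G b) := by
  obtain ⟨g, hg, e⟩ := r1_exists_conj (opp_r1 h2 h3 ha hb h)
  have hg' : g ∈ G := sup_le (EG_le a) (EG_le b) hg
  rw [conjBy_EG hg', EG_eq_iff] at e
  rw [← e, finrank_EE_conj a hg']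

theorem exists_opp (hG : NU k G) {a : End k M} (ha : a ∈ QTd G) : ∃ b ∈ QTd G, a * b * a ≠ 0 := by
  by_contra hc
  push Not at hc
  refine EG_ne_bot ha (hG.family (W := {B | ∃ a ∈ QTd G, (∀ b ∈ QTd G, a * b * a = 0) ∧ B = EG G a}) ?_ ?_ ?_
    ⟨a, ha, hc, rfl⟩)
  · rintro _ ⟨a, -, -, rfl⟩; exact EG_le a
  · rintro _ ⟨a, ha, h, rfl⟩ _ ⟨b, hb, -, rfl⟩; exact nopp_unip h2 h3 ha hb (h b hb)
  · rintro _ ⟨a, ha, h, rfl⟩ g hg
    refine ⟨_, QTd.conj ha hg, fun b hb => ?_, conjBy_EG hg⟩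
    have := h _ (QTd.conj hb (G.inv_mem hg))
    rw [inv_inv] at this
    calc _ = g * (a * (((g⁻¹ : (End k M)ˣ) : End k M) * b * g) * a) * ((g⁻¹ : (End k M)ˣ) : End k M) := by
          simp only [mul_assoc]
      _ = 0 := by rw [this]; simp

omit h2 h3 in
theorem conj_nopp {a b : End k M} (h : b * a * b = 0) : (1 + b) * a * (1 - b) = a - (a * b - b * a) := by
  calc _ = a - (a * b - b * a) - b * a * b := by noncomm_ring
    _ = _ := by rw [h, sub_zero]

theorem finrank_EE_comm (hG : NU k G) {a b : End k M} (ha : a ∈ QTd G) (hb : b ∈ QTd G) (h : a * b * a = 0)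
    (hc : a * b - b * a ≠ 0) : finrank k (EE G (a * b - b * a)) = finrank k (EE G a) := by
  have c1 := (comm_struct h2 h3 ha hb h hc).1
  obtain ⟨c', hc', e⟩ := exists_opp h2 h3 hG c1
  rw [finrank_EE_opp h2 h3 c1 hc' e]
  by_cases e1 : c' * a * c' = 0
  · have e2 := conj_nopp (nopp_symm h2 h3 ha hb h)
    rw [← finrank_EE_conj a (QT.U1_mem hb.1)]
    refine finrank_EE_opp h2 h3 hc' (QTd.conj ha (QT.U1_mem hb.1)) ?_
    rw [U1_val, U1_inv, e2, mul_sub, sub_mul, e1, zero_sub, neg_ne_zero]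
    exact opp_symm h2 h3 c1 hc' e
  · exact finrank_EE_opp h2 h3 hc' ha e1

theorem comm_surj (hG : NU k G) {a b x t : End k M} (ha : a ∈ QTd G) (hb : b ∈ QTd G) (h : a * b * a = 0)
    (hc : a * b - b * a ≠ 0) (hx : x ∈ EE G a) (x0 : x ≠ 0) (ht : t ∈ EE G (a * b - b * a)) :
    ∃ y ∈ EE G b, t = x * y - y * x := by
  let f : End k M →ₗ[k] End k M := LinearMap.mulLeft k x - LinearMap.mulRight k x
  let f' : EE G b →ₗ[k] EE G (a * b - b * a) := f.restrict (fun y hy => comm_mem_EE h2 h3 ha hb h hc hx hy)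
  have hinj : Function.Injective f' := by
    rw [injective_iff_map_eq_zero]
    intro y hy
    by_contra y0
    exact comm_ne_zero h2 h3 ha hb h hc hx x0 y.2 (fun e => y0 (Subtype.ext e)) (congrArg Subtype.val hy)
  have e : finrank k (EE G b) = finrank k (EE G (a * b - b * a)) := by
    have h' := nopp_symm h2 h3 ha hb h
    have hc' : b * a - a * b ≠ 0 := fun e => hc (by rw [sub_eq_zero] at *; exact e.symm)
    rw [← finrank_EE_comm h2 h3 hG hb ha h' hc', ← neg_sub, EE.eq (comm_struct h2 h3 ha hb h hc).1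
      ((EE G _).neg_mem (EE.self (comm_struct h2 h3 ha hb h hc).1.1)) (neg_ne_zero.2 hc)]
  obtain ⟨y, hy⟩ := (LinearMap.injective_iff_surjective_of_finrank_eq_finrank e).1 hinj ⟨t, ht⟩
  exact ⟨y, y.2, (congrArg Subtype.val hy).symm⟩

theorem comm_U1 {a b x y : End k M} (ha : a ∈ QTd G) (hb : b ∈ QTd G) (h : a * b * a = 0)
    (hx : x ∈ EE G a) (hy : y ∈ EE G b) :
    ((U1 x hx.1.1 * U1 y hy.1.1 * (U1 x hx.1.1)⁻¹ * (U1 y hy.1.1)⁻¹ : (End k M)ˣ) : End k M) =
      1 + (x * y - y * x) := by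
  simp only [Units.val_mul, U1_val, U1_inv]
  exact comm_val hx.1.1 hy.1.1 (nopp_all h2 h3 ha hb h hx hx hy)
    (nopp_all h2 h3 hb ha (nopp_symm h2 h3 ha hb h) hy hy hx)

theorem comm_le {a b : End k M} (ha : a ∈ QTd G) (hb : b ∈ QTd G) (h : a * b * a = 0)
    (hc : a * b - b * a ≠ 0) : ⁅EG G a, EG G b⁆ ≤ EG G (a * b - b * a) := by
  rw [Subgroup.commutator_le]
  intro g hg f hf
  obtain ⟨x, hx, rfl⟩ := EG_ex hg
  obtain ⟨y, hy, rfl⟩ := EG_ex hf
  rw [mem_EG, commutatorElement_def, comm_U1 h2 h3 ha hb h hx hy, add_sub_cancel_left]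
  exact comm_mem_EE h2 h3 ha hb h hc hx hy

theorem comm_closure (hG : NU k G) {a b : End k M} (ha : a ∈ QTd G) (hb : b ∈ QTd G) (h : a * b * a = 0)
    (hc : a * b - b * a ≠ 0) {e : (End k M)ˣ} (he : e ∈ EG G a) (e1 : e ≠ 1) :
    Subgroup.closure ((fun f : (End k M)ˣ => e * f * e⁻¹ * f⁻¹) '' (EG G b : Set (End k M)ˣ)) =
      EG G (a * b - b * a) := by
  apply le_antisymm
  · rw [Subgroup.closure_le]
    rintro _ ⟨f, hf, rfl⟩
    exact comm_le h2 h3 ha hb h hc (Subgroup.commutator_mem_commutator he hf)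
  · intro g hg
    obtain ⟨x, hx, rfl⟩ := EG_ex he
    obtain ⟨y, hy, e⟩ := comm_surj h2 h3 hG ha hb h hc hx (fun e => e1 ((U1_eq_one _).2 e)) hg
    refine Subgroup.subset_closure ⟨_, U1_mem_EG hy, Units.ext ?_⟩
    rw [comm_U1 h2 h3 ha hb h hx hy, ← e]; simp

theorem comm_eq (hG : NU k G) {a b : End k M} (ha : a ∈ QTd G) (hb : b ∈ QTd G) (h : a * b * a = 0)
    (hc : a * b - b * a ≠ 0) : ⁅EG G a, EG G b⁆ = EG G (a * b - b * a) := by
  refine le_antisymm (comm_le h2 h3 ha hb h hc) ?_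
  rw [← comm_closure h2 h3 hG ha hb h hc (U1_mem_EG (EE.self ha.1)) (fun e => ha.2.1 ((U1_eq_one _).1 e)),
    Subgroup.closure_le]
  rintro _ ⟨f, hf, rfl⟩
  exact Subgroup.commutator_mem_commutator (U1_mem_EG (EE.self ha.1)) hf

theorem comm_bot_of {a b : End k M} (ha : a ∈ QTd G) (hb : b ∈ QTd G) (hc : a * b = b * a) :
    ⁅EG G a, EG G b⁆ = ⊥ := by
  have h : a * b * a = 0 := by rw [hc, mul_assoc, ha.1.1, mul_zero]
  rw [comm_bot_iff]
  intro g hg f hf
  obtain ⟨x, hx, rfl⟩ := EG_ex hg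
  obtain ⟨y, hy, rfl⟩ := EG_ex hf
  have : x * y = y * x := by
    by_contra e
    have x0 : x ≠ 0 := by rintro rfl; simp at e
    have y0 : y ≠ 0 := by rintro rfl; simp at e
    exact comm_ne_zero h2 h3 (EE.mem_QTd ha hx x0) (EE.mem_QTd hb hy y0) (nopp_all h2 h3 ha hb h hx hx hy)
      (sub_ne_zero.2 e) (EE.self' ha hx x0) ha.2.1 (EE.self' hb hy y0) hb.2.1 (sub_eq_zero.2 hc)
  ext1
  simp only [Units.val_mul, U1_val]
  calc _ = 1 + x + y + x * y := by noncomm_ring
    _ = _ := by rw [this]; noncomm_ring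

end Cfsg.Agent.H29
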