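import Mathlib
import Cfsg.Agent.H29.Quad6

/-! Quadratic pairs VII: root subgroups and components. -/

set_option autoImplicit false
open Cfsg Module Polynomial
open scoped MatrixGroups commutatorElement

namespace Cfsg.Agent.H29

/-- transport of a set of root subgroups into the subgroup it generates -/
theorem rootSet_subgroupOf {Γ : Type*} [Group Γ] {S : Set (Subgroup Γ)}
    (h1 : ∀ A ∈ S, IsMulCommutative A) (h2 : ∀ A ∈ S, A ≠ ⊥) (h4 : ∀ A ∈ S, ∀ g ∈ ⨆ B ∈ S, B, conjBy A g ∈ S)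
    (h5 : ∀ A ∈ S, ∀ B ∈ S, ⁅A, B⁆ = ⊥ ∨ IsRankOnePair A B ∨ RootCommutatorCase S A B) :
    IsRootSubgroupSet ((fun A : Subgroup Γ => A.subgroupOf (⨆ B ∈ S, B)) '' S) := by
  set H := ⨆ B ∈ S, B with hH
  have hle : ∀ A ∈ S, A ≤ H := fun A hA => le_iSup₂_of_le A hA le_rfl
  have inj := Subgroup.map_injective H.subtype_injective
  have mp : ∀ A ∈ S, (A.subgroupOf H).map H.subtype = A := fun A hA => Subgroup.map_subgroupOf_eq_of_le (hle A hA)
  have mem : ∀ C : Subgroup H, C.map H.subtype ∈ S → C ∈ (fun A : Subgroup Γ => A.subgroupOf H) '' S :=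
    fun C hC => ⟨_, hC, inj (mp _ hC)⟩
  refine ⟨?_, ?_, ?_, ?_, ?_⟩
  · rintro _ ⟨A, hA, rfl⟩
    exact isMulCommutative_of_comm fun a ha b hb => Subtype.ext (comm_of_isMulCommutative (h1 A hA) ha hb)
  · rintro _ ⟨A, hA, rfl⟩ e
    exact h2 A hA (by rw [← mp A hA]; simp only at e; rw [e, Subgroup.map_bot])
  · apply inj
    rw [iSup_image, ← MonoidHom.range_eq_map, H.range_subtype]
    simp only [Subgroup.map_iSup]
    exact biSup_congr mp
  · rintro _ ⟨A, hA, rfl⟩ g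
    exact mem _ (by rw [map_conjBy, mp A hA]; exact h4 A hA g g.2)
  · rintro _ ⟨A, hA, rfl⟩ _ ⟨B, hB, rfl⟩
    have mc : (⁅A.subgroupOf H, B.subgroupOf H⁆).map H.subtype = ⁅A, B⁆ := by
      rw [Subgroup.map_commutator, mp A hA, mp B hB]
    rcases h5 A hA B hB with e | e | ⟨e1, e2, e3, e4⟩
    · exact Or.inl (inj (by rw [mc, e, Subgroup.map_bot]))
    · exact Or.inr (Or.inl (r1_of_map H.subtype_injective (by rwa [mp A hA, mp B hB])))
    · refine Or.inr (Or.inr ⟨mem _ (mc ▸ e1), fun c hc x hx => Subtype.ext (e2 _ (mc ▸ ⟨c, hc, rfl⟩) _ ?_),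
        fun a ha a1 => inj ?_, fun a ha a1 => inj ?_⟩)
      · rw [← mp A hA, ← mp B hB, ← Subgroup.map_sup]; exact ⟨x, hx, rfl⟩
      · rw [mc, ← e3 a ha (fun e => a1 (Subtype.ext e)), MonoidHom.map_closure, Set.image_image]
        conv_rhs => rw [← mp B hB, Subgroup.coe_map, Set.image_image]
        rfl
      · rw [mc, ← e4 a ha (fun e => a1 (Subtype.ext e)), MonoidHom.map_closure, Set.image_image]
        conv_rhs => rw [← mp A hA, Subgroup.coe_map, Set.image_image]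
        rfl

variable {k : Type*} [Field k] {M : Type*} [AddCommGroup M] [Module k M] {G : Subgroup (End k M)ˣ}

theorem fixed_EG {a : End k M} (ha : a ∈ QT G) : fixedSubmodule (EG G a) = LinearMap.ker a := by
  refine le_antisymm ((iInf₂_le _ (U1_mem_EG (EE.self ha))).trans (by simp)) (le_iInf₂ fun g hg => hg.2.1)

theorem commutator_EG {a : End k M} (ha : a ∈ QT G) : commutatorSubmodule (EG G a) = LinearMap.range a := by
  refine le_antisymm (iSup₂_le fun g hg => hg.2.2.1) (le_iSup₂_of_le _ (U1_mem_EG (EE.self ha)) (by simp))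

theorem EG_neg (a : End k M) : EG G (-a) = EG G a := by
  ext g; simp only [mem_EG, EE, Submodule.mem_mk, AddSubmonoid.mem_mk, AddSubsemigroup.mem_mk, Set.mem_setOf_eq,
    LinearMap.ker_neg, LinearMap.range_neg, neg_mul, neg_eq_zero]

variable [FiniteDimensional k M]
variable (h2 : (2 : k) ≠ 0) (h3 : Nat.card k ≠ 3)
include h2 h3

theorem comm_core {a b : End k M} (ha : a ∈ QTd G) (hb : b ∈ QTd G) (h : a * b * a = 0)
    (hc : a * b - b * a ≠ 0) {g : (End k M)ˣ} (hg : g ∈ EG G a ⊔ EG G b) :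
    (a * b - b * a) * ((g : End k M) - 1) = 0 ∧ ((g : End k M) - 1) * (a * b - b * a) = 0 ∧
      ∀ m ∈ LinearMap.ker (a * b - b * a), ((g : End k M) - 1) m ∈ LinearMap.range (a * b - b * a) := by
  let L : End k M → Submodule k (End k M) := fun c =>
    { carrier := {u | c * u = 0 ∧ u * c = 0 ∧ ∀ m ∈ LinearMap.ker c, u m ∈ LinearMap.range c}
      add_mem' := fun {u v} hu hv => ⟨by rw [mul_add, hu.1, hv.1, add_zero], by rw [add_mul, hu.2.1, hv.2.1, add_zero],
        fun m hm => Submodule.add_mem _ (hu.2.2 m hm) (hv.2.2 m hm)⟩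
      zero_mem' := ⟨by simp, by simp, fun _ _ => Submodule.zero_mem _⟩
      smul_mem' := fun t u hu => ⟨by rw [mul_smul_comm, hu.1, smul_zero], by rw [smul_mul_assoc, hu.2.1, smul_zero],
        fun m hm => Submodule.smul_mem _ t (hu.2.2 m hm)⟩ }
  have key : ∀ {a b : End k M}, a ∈ QTd G → b ∈ QTd G → a * b * a = 0 → a * b - b * a ≠ 0 →
      EE G a ≤ L (a * b - b * a) := by
    intro a b ha hb h hc x hx
    have h' := nopp_symm h2 h3 ha hb h
    obtain ⟨-, c2, -, -, c5, c6⟩ := comm_struct h2 h3 ha hb h hc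
    obtain ⟨-, -, d3, -, -, -⟩ := comm_struct h2 h3 hb ha h' (fun e => hc (by rw [sub_eq_zero] at *; exact e.symm))
    have a' := EE.self ha.1
    have b' := EE.self hb.1
    refine ⟨by rw [sub_mul, nopp_all h2 h3 ha hb h a' hx b', mul_assoc, EE.mul a' hx]; simp,
      by rw [mul_sub, ← mul_assoc, ← mul_assoc, nopp_all h2 h3 ha hb h hx a' b', EE.mul hx a']; simp, fun m hm => ?_⟩
    rw [c6, d3] at hm
    obtain ⟨_, ⟨m1, rfl⟩, m2, h4, rfl⟩ := Submodule.mem_sup.1 hm.2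
    rw [map_add, hx.2.1 h4, add_zero, c5, c2]
    refine Submodule.mem_sup_left ⟨hx.2.2.1 ⟨_, rfl⟩, ?_⟩
    change (b * x * b) m1 = 0
    rw [nopp_all h2 h3 hb ha h' b' b' hx]; rfl
  have hneg : ∀ c, L (-c) = L c := fun c => by
    ext u
    simp only [L, Submodule.mem_mk, AddSubmonoid.mem_mk, AddSubsemigroup.mem_mk, Set.mem_setOf_eq,
      LinearMap.ker_neg, LinearMap.range_neg, neg_mul, mul_neg, neg_eq_zero]
  refine Lsp_sup_le (L := L _) (Submodule.mul_le.2 fun u hu v hv => ⟨by rw [← mul_assoc, hu.1, zero_mul],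
    by rw [mul_assoc, hv.2.1, mul_zero], fun m hm => ?_⟩) ((Lsp_EG_le a).trans (key ha hb h hc))
    ((Lsp_EG_le b).trans ?_) (sub_one_mem_Lsp hg)
  · obtain ⟨m', e⟩ := hv.2.2 m hm
    rw [End.mul_apply, ← e, ← End.mul_apply, hu.2.1]; simp
  · rw [← hneg, neg_sub]
    exact key hb ha (nopp_symm h2 h3 ha hb h) (fun e => hc (by rw [sub_eq_zero] at *; exact e.symm))

theorem comm_central {a b : End k M} (ha : a ∈ QTd G) (hb : b ∈ QTd G) (h : a * b * a = 0)
    (hc : a * b - b * a ≠ 0) : ∀ z ∈ EG G (a * b - b * a), ∀ g ∈ EG G a ⊔ EG G b, z * g = g * z := by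
  intro z hz g hg
  obtain ⟨e1, e2, -⟩ := comm_core h2 h3 ha hb h hc hg
  have e3 := EE.left hz e1
  have e4 := EE.right hz e2
  ext1
  simp only [Units.val_mul]
  calc _ = ((z : End k M) - 1) * ((g : End k M) - 1) + z + g - 1 := by noncomm_ring
    _ = ((g : End k M) - 1) * ((z : End k M) - 1) + z + g - 1 := by rw [e3, e4]
    _ = _ := by noncomm_ring

theorem RC_of_nopp (hG : NU k G) {a b : End k M} (ha : a ∈ QTd G) (hb : b ∈ QTd G) (h : a * b * a = 0)
    (hc : a * b - b * a ≠ 0) {S : Set (Subgroup (End k M)ˣ)} (hS : EG G (a * b - b * a) ∈ S) :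
    RootCommutatorCase S (EG G a) (EG G b) := by
  rw [RootCommutatorCase, comm_eq h2 h3 hG ha hb h hc]
  refine ⟨hS, comm_central h2 h3 ha hb h hc, fun e he e1 => comm_closure h2 h3 hG ha hb h hc he e1,
    fun f hf f1 => ?_⟩
  rw [closure_comm_swap, comm_closure h2 h3 hG hb ha (nopp_symm h2 h3 ha hb h)
    (fun e => hc (by rw [sub_eq_zero] at *; exact e.symm)) hf f1, ← EG_neg, neg_sub]

theorem sub_core (hG : NU k G) {a b : End k M} (ha : a ∈ QTd G) (hb : b ∈ QTd G) (h : a * b * a = 0)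
    (hc : a * b - b * a ≠ 0) : ((EG G a ⊔ EG G b : Subgroup (End k M)ˣ) : Set (End k M)ˣ) ⊆
      quadraticUnipotentCore G ⁅EG G a, EG G b⁆ := by
  intro g hg
  have c1 := (comm_struct h2 h3 ha hb h hc).1.1
  obtain ⟨e1, e2, e3⟩ := comm_core h2 h3 ha hb h hc hg
  rw [comm_eq h2 h3 hG ha hb h hc, quadraticUnipotentCore, fixed_EG c1, commutator_EG c1]
  refine ⟨sup_le (EG_le a) (EG_le b) hg, conjBy_eq_self_iff.1 (conjBy_of_comm fun z hz =>
    (comm_central h2 h3 ha hb h hc z hz g hg).symm), fun m => ?_, e3, ?_⟩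
  · exact mul_eq_zero_iff_range_le.1 e1 ⟨m, rfl⟩
  · rintro _ ⟨m, rfl⟩
    have := LinearMap.congr_fun e2 m
    rwa [End.mul_apply, LinearMap.sub_apply, LinearMap.zero_apply, sub_eq_zero] at this

theorem s5068 (hG : NU k G) {a b : End k M} (ha : a ∈ QTd G) (hb : b ∈ QTd G) (h : a * b * a = 0) :
    ⁅EG G a, EG G b⁆ = ⊥ ∨ (RootCommutatorCase (quadraticRootSubgroups G) (EG G a) (EG G b) ∧
      ((EG G a ⊔ EG G b : Subgroup (End k M)ˣ) : Set (End k M)ˣ) ⊆ quadraticUnipotentCore G ⁅EG G a, EG G b⁆) := by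
  by_cases hc : a * b - b * a = 0
  · exact Or.inl (comm_bot_of h2 h3 ha hb (sub_eq_zero.1 hc))
  · exact Or.inr ⟨RC_of_nopp h2 h3 hG ha hb h hc (mem_quadRoot.2 ⟨_, (comm_struct h2 h3 ha hb h hc).1, rfl⟩),
      sub_core h2 h3 hG ha hb h hc⟩

theorem s5073 {a b : End k M} (ha : a ∈ QTd G) (hb : b ∈ QTd G)
    (h : (∃ e ∈ EG G a, e ≠ 1 ∧ ∃ f ∈ EG G b, f ≠ 1 ∧ e * f = f * e) ∨
      EG G a ⊓ Subgroup.normalizer (EG G b : Set (End k M)ˣ) ≠ ⊥) : ⁅EG G a, EG G b⁆ = ⊥ := by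
  have key : ∀ x ∈ EE G a, x ≠ 0 → ∀ y ∈ EE G b, y ≠ 0 → x * y = y * x → ⁅EG G a, EG G b⁆ = ⊥ := by
    intro x hx x0 y hy y0 e
    rw [← EG.eq ha hx x0, ← EG.eq hb hy y0]
    exact comm_bot_of h2 h3 (EE.mem_QTd ha hx x0) (EE.mem_QTd hb hy y0) e
  rcases h with ⟨e, he, e1, f, hf, f1, h⟩ | h
  · obtain ⟨x, hx, rfl⟩ := EG_ex he
    obtain ⟨y, hy, rfl⟩ := EG_ex hf
    refine key x hx (fun e => e1 ((U1_eq_one _).2 e)) y hy (fun e => f1 ((U1_eq_one _).2 e)) ?_
    have := congrArg Units.val h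
    simp only [Units.val_mul, U1_val] at this
    calc _ = (1 + x) * (1 + y) - 1 - x - y := by noncomm_ring
      _ = _ := by rw [this]; noncomm_ring
  · obtain ⟨⟨e, he, hn⟩, e1⟩ := Subgroup.ne_bot_iff_exists_ne_one.1 h
    have e1 : e ≠ 1 := fun h => e1 (Subtype.ext h)
    have hn := conjBy_eq_self_iff.2 hn
    have hab : a * b * a = 0 := by
      by_contra h; exact e1 (r1_eq_one (opp_r1 h2 h3 ha hb h) he hn)
    obtain ⟨x, hx, rfl⟩ := EG_ex he
    have x0 : x ≠ 0 := fun e => e1 ((U1_eq_one _).2 e)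
    have hx' := EE.mem_QTd ha hx x0
    have b' := EE.self hb.1
    have hxb := nopp_all h2 h3 ha hb hab hx hx b'
    refine key x hx x0 b b' hb.2.1 ?_
    by_contra hc
    rw [← sub_eq_zero] at hc
    rw [conjBy_EG (QT.U1_mem hx.1), U1_val, U1_inv, conj_nopp hxb, EG_eq_iff] at hn
    have h4 : b - (b * x - x * b) ∈ EE G b := by
      rw [← hn]; refine EE.self ?_
      rw [← conj_nopp hxb]; exact QT.conj' hb.1 hx.1
    have h5 : x * b - b * x ∈ EE G b := by simpa using Submodule.sub_mem _ h4 b'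
    obtain ⟨-, -, -, -, c5, c6⟩ := comm_struct h2 h3 hx' hb hxb hc
    have e1 : x * (x * b - b * x) = 0 := by rw [mul_sub, ← mul_assoc, ← mul_assoc, hxb, hx.1.1]; simp
    have e2 : (x * b - b * x) * x = 0 := by rw [sub_mul, hxb, mul_assoc, hx.1.1]; simp
    have b'' := EE.self' hb h5 hc
    exact hc (by rw [EE.right b'' e1, EE.left b'' e2, sub_self])

end Cfsg.Agent.H29
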