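import Mathlib
import Cfsg.Agent.H29.Quad7

/-! Quadratic pairs VIII: components. -/

set_option autoImplicit false
open Cfsg Module Polynomial
open scoped MatrixGroups commutatorElement

namespace Cfsg.Agent.H29

universe u
variable {k : Type u} [Field k] {M : Type*} [AddCommGroup M] [Module k M] {G : Subgroup (End k M)ˣ}

variable (G) in
/-- reachability in the opposition graph -/
abbrev QRch (A B : Subgroup (End k M)ˣ) : Prop := Relation.ReflTransGen (FAdj (quadraticRootSubgroups G)) A B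

variable (G) in
/-- component -/
abbrev QCmp (A : Subgroup (End k M)ˣ) : Set (Subgroup (End k M)ˣ) :=
  componentOf (FAdj (quadraticRootSubgroups G)) (quadraticRootSubgroups G) A

theorem QRch.symm' {A B : Subgroup (End k M)ˣ} (h : QRch G A B) : QRch G B A := by
  induction h with
  | refl => exact .refl
  | tail _ h ih => exact .head ⟨h.2.1, h.1, r1_symm h.2.2⟩ ih

theorem QCmp_eq {A B : Subgroup (End k M)ˣ} (h : QRch G A B) : QCmp G A = QCmp G B := by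
  ext C; exact ⟨fun h' => ⟨h'.1, (QRch.symm' h).trans h'.2⟩, fun h' => ⟨h'.1, h.trans h'.2⟩⟩

variable [FiniteDimensional k M]

theorem EG_mem {a : End k M} (ha : a ∈ QTd G) : EG G a ∈ quadraticRootSubgroups G := mem_quadRoot.2 ⟨a, ha, rfl⟩

theorem quad_le {A : Subgroup (End k M)ˣ} (hA : A ∈ quadraticRootSubgroups G) : A ≤ G := by
  obtain ⟨a, -, rfl⟩ := mem_quadRoot.1 hA; exact EG_le a

theorem quad_conj {A : Subgroup (End k M)ˣ} (hA : A ∈ quadraticRootSubgroups G) {g : (End k M)ˣ} (hg : g ∈ G) :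
    conjBy A g ∈ quadraticRootSubgroups G := by
  obtain ⟨a, ha, rfl⟩ := mem_quadRoot.1 hA
  rw [conjBy_EG hg]; exact EG_mem (QTd.conj ha hg)

theorem quad_comm {A : Subgroup (End k M)ˣ} (hA : A ∈ quadraticRootSubgroups G) : IsMulCommutative A := by
  obtain ⟨a, -, rfl⟩ := mem_quadRoot.1 hA; exact EG_comm a

theorem quad_ne_bot {A : Subgroup (End k M)ˣ} (hA : A ∈ quadraticRootSubgroups G) : A ≠ ⊥ := by
  obtain ⟨a, ha, rfl⟩ := mem_quadRoot.1 hA; exact EG_ne_bot ha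

theorem QRch.conj {A B : Subgroup (End k M)ˣ} (h : QRch G A B) {g : (End k M)ˣ} (hg : g ∈ G) :
    QRch G (conjBy A g) (conjBy B g) := by
  induction h with
  | refl => exact .refl
  | tail _ h ih => exact ih.tail ⟨quad_conj h.1 hg, quad_conj h.2.1 hg, r1_conj h.2.2 g⟩

theorem G0_le : (⨆ A ∈ quadraticRootSubgroups G, A) ≤ G := iSup₂_le fun _ hA => quad_le hA

theorem G0_conj {g : (End k M)ˣ} (hg : g ∈ G) :
    conjBy (⨆ A ∈ quadraticRootSubgroups G, A) g = ⨆ A ∈ quadraticRootSubgroups G, A :=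
  conjBy_biSup (fun _ h => quad_conj h hg) (fun _ h => quad_conj h (G.inv_mem hg))

theorem Gi_le (A : Subgroup (End k M)ˣ) : (⨆ B ∈ QCmp G A, B) ≤ ⨆ A ∈ quadraticRootSubgroups G, A :=
  iSup₂_le fun B hB => le_iSup₂_of_le B hB.1 le_rfl

theorem cmp_class {A C : Subgroup (End k M)ˣ} (hA : A ∈ quadraticRootSubgroups G) (h : QRch G A C) :
    ∃ g ∈ ⨆ B ∈ QCmp G A, B, C = conjBy A g := by
  induction h with
  | refl => exact ⟨1, Subgroup.one_mem _, (conjBy_one _).symm⟩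
  | @tail C D h1 h2 ih =>
    obtain ⟨g, hg, rfl⟩ := ih
    obtain ⟨x, hx, e⟩ := r1_exists_conj h2.2.2
    have : conjBy A g ⊔ D ≤ ⨆ B ∈ QCmp G A, B := sup_le (le_iSup₂_of_le _ ⟨h2.1, h1⟩ le_rfl)
      (le_iSup₂_of_le _ ⟨h2.2.1, h1.tail h2⟩ le_rfl)
    exact ⟨x * g, Subgroup.mul_mem _ (this hx) hg, by rw [← conjBy_conjBy, e]⟩

variable (h2 : (2 : k) ≠ 0) (h3 : Nat.card k ≠ 3)
include h2 h3

theorem rch_of_opp {a b : End k M} (ha : a ∈ QTd G) (hb : b ∈ QTd G) (h : a * b * a ≠ 0) :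
    QRch G (EG G a) (EG G b) := .single ⟨EG_mem ha, EG_mem hb, opp_r1 h2 h3 ha hb h⟩

theorem psl2_of_r1 {A B : Subgroup (End k M)ˣ} (hA : A ∈ quadraticRootSubgroups G)
    (hB : B ∈ quadraticRootSubgroups G) (h : IsRankOnePair A B) : ∃ A₀ B₀ : Subgroup (End k M)ˣ, A₀ ≤ A ∧ B₀ ≤ B ∧
      ∃ (k₁ : Type u) (_ : Field k₁), 3 < ENat.card k₁ ∧ IsPSL2PairOver k₁ A₀ B₀ := by
  obtain ⟨a, ha, rfl⟩ := mem_quadRoot.1 hA
  obtain ⟨b, hb, rfl⟩ := mem_quadRoot.1 hB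
  obtain ⟨A₀, B₀, e1, e2, -, π, _, e3⟩ := exists_psl2 h2 h3 ha hb (opp_of_r1 h2 h3 ha hb h)
  exact ⟨A₀, B₀, e1, e2, _, inferInstance, three_lt_card h2 h3 _, e3⟩

theorem le_comm_of_r1 {A B : Subgroup (End k M)ˣ} (hA : A ∈ quadraticRootSubgroups G)
    (hB : B ∈ quadraticRootSubgroups G) (h : IsRankOnePair A B) : A ≤ ⁅A ⊔ B, A ⊔ B⁆ := by
  obtain ⟨a, ha, rfl⟩ := mem_quadRoot.1 hA
  obtain ⟨b, hb, rfl⟩ := mem_quadRoot.1 hB
  intro g hg
  obtain ⟨x, hx, rfl⟩ := EG_ex hg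
  by_cases x0 : x = 0
  · rw [(U1_eq_one _).2 x0]; exact Subgroup.one_mem _
  obtain ⟨A₀, B₀, e1, e2, e3, -⟩ := exists_psl2 h2 h3 (EE.mem_QTd ha hx x0) hb
    (opp_class h2 h3 ha hb (opp_of_r1 h2 h3 ha hb h) hx x0 (EE.self hb.1) hb.2.1)
  rw [EG.eq ha hx x0] at e1
  exact Subgroup.commutator_mono (sup_le_sup e1 e2) (sup_le_sup e1 e2) e3

variable (hG : NU k G)
include hG

theorem exists_r1 {A : Subgroup (End k M)ˣ} (hA : A ∈ quadraticRootSubgroups G) :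
    ∃ B ∈ quadraticRootSubgroups G, IsRankOnePair A B := by
  obtain ⟨a, ha, rfl⟩ := mem_quadRoot.1 hA
  obtain ⟨b, hb, h⟩ := exists_opp h2 h3 hG ha
  exact ⟨_, EG_mem hb, opp_r1 h2 h3 ha hb h⟩

theorem rch_comm {a b : End k M} (ha : a ∈ QTd G) (hb : b ∈ QTd G) (h : a * b * a = 0)
    (hc : a * b - b * a ≠ 0) : QRch G (EG G a) (EG G (a * b - b * a)) := by
  have c1 := (comm_struct h2 h3 ha hb h hc).1
  obtain ⟨c', hc', e⟩ := exists_opp h2 h3 hG c1
  have e := opp_symm h2 h3 c1 hc' e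
  obtain ⟨a', ha', f⟩ := exists_opp h2 h3 hG ha
  have f' := opp_symm h2 h3 ha ha' f
  have d1 : a - (a * b - b * a) ∈ QTd G := conj_nopp (nopp_symm h2 h3 ha hb h) ▸ QTd.conj' ha hb.1
  by_cases e1 : c' * a * c' = 0
  · by_cases e2 : a' * (a * b - b * a) * a' = 0
    · have r1 := rch_of_opp h2 h3 hc' d1 (by rwa [mul_sub, sub_mul, e1, zero_sub, neg_ne_zero])
      have r2 := rch_of_opp h2 h3 ha' d1 (by rwa [mul_sub a', sub_mul, e2, sub_zero])
      exact (rch_of_opp h2 h3 ha ha' f).trans (r2.trans (r1.symm'.trans (rch_of_opp h2 h3 hc' c1 e)))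
    · exact (rch_of_opp h2 h3 ha ha' f).trans (rch_of_opp h2 h3 ha' c1 e2)
  · exact (rch_of_opp h2 h3 hc' ha e1).symm'.trans (rch_of_opp h2 h3 hc' c1 e)

theorem comm_of_not_rch' {a b : End k M} (ha : a ∈ QTd G) (hb : b ∈ QTd G) (h : ¬ QRch G (EG G a) (EG G b)) :
    a * b = b * a := by
  by_contra hc
  rw [← sub_eq_zero] at hc
  have e : a * b * a = 0 := by by_contra e; exact h (rch_of_opp h2 h3 ha hb e)
  have := rch_comm h2 h3 hG hb ha (nopp_symm h2 h3 ha hb e) (fun e => hc (by rw [sub_eq_zero] at *; exact e.symm))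
  rw [← EG_neg (b * a - a * b), neg_sub] at this
  exact h ((rch_comm h2 h3 hG ha hb e hc).trans this.symm')

theorem comm_of_not_rch {A B : Subgroup (End k M)ˣ} (hA : A ∈ quadraticRootSubgroups G)
    (hB : B ∈ quadraticRootSubgroups G) (h : ¬ QRch G A B) : ⁅A, B⁆ = ⊥ := by
  obtain ⟨a, ha, rfl⟩ := mem_quadRoot.1 hA
  obtain ⟨b, hb, rfl⟩ := mem_quadRoot.1 hB
  exact comm_bot_of h2 h3 ha hb (comm_of_not_rch' h2 h3 hG ha hb h)

theorem rch_conj {g : (End k M)ˣ} (hg : g ∈ ⨆ A ∈ quadraticRootSubgroups G, A) :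
    ∀ A ∈ quadraticRootSubgroups G, QRch G A (conjBy A g) := by
  rw [iSup_subtype'] at hg
  induction hg using Subgroup.iSup_induction' with
  | hp B g hg =>
    intro A hA
    by_cases h : QRch G B A
    · have := h.conj (quad_le B.2 hg)
      rw [conjBy_of_mem hg] at this
      exact h.symm'.trans this
    · rw [cm_conjBy (comm_of_not_rch h2 h3 hG B.2 hA h) hg]
  | h1 => intro A _; rw [conjBy_one]
  | hmul g h hg _ ih1 ih2 =>
    intro A hA
    rw [← conjBy_conjBy]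
    exact (ih2 A hA).trans (ih1 _ (quad_conj hA (G0_le (by rwa [iSup_subtype']))))

theorem cmp_conj {A C : Subgroup (End k M)ˣ} (hC : C ∈ QCmp G A) {g : (End k M)ˣ}
    (hg : g ∈ ⨆ A ∈ quadraticRootSubgroups G, A) : conjBy C g ∈ QCmp G A :=
  ⟨quad_conj hC.1 (G0_le hg), hC.2.trans (rch_conj h2 h3 hG hg C hC.1)⟩

theorem Gi_conj (A : Subgroup (End k M)ˣ) {g : (End k M)ˣ} (hg : g ∈ ⨆ A ∈ quadraticRootSubgroups G, A) :
    conjBy (⨆ B ∈ QCmp G A, B) g = ⨆ B ∈ QCmp G A, B :=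
  conjBy_biSup (fun _ h => cmp_conj h2 h3 hG h hg) (fun _ h => cmp_conj h2 h3 hG h (Subgroup.inv_mem _ hg))

theorem quad_pair {S : Set (Subgroup (End k M)ˣ)} {A B : Subgroup (End k M)ˣ} (hA : A ∈ quadraticRootSubgroups G)
    (hB : B ∈ quadraticRootSubgroups G) (hS : QCmp G A ⊆ S) :
    ⁅A, B⁆ = ⊥ ∨ IsRankOnePair A B ∨ RootCommutatorCase S A B := by
  obtain ⟨a, ha, rfl⟩ := mem_quadRoot.1 hA
  obtain ⟨b, hb, rfl⟩ := mem_quadRoot.1 hB
  by_cases h : a * b * a = 0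
  · by_cases hc : a * b - b * a = 0
    · exact Or.inl (comm_bot_of h2 h3 ha hb (sub_eq_zero.1 hc))
    · exact Or.inr (Or.inr (RC_of_nopp h2 h3 hG ha hb h hc
        (hS ⟨EG_mem (comm_struct h2 h3 ha hb h hc).1, rch_comm h2 h3 hG ha hb h hc⟩)))
  · exact Or.inr (Or.inl (opp_r1 h2 h3 ha hb h))

theorem quad_rootSet : IsRootSubgroupSet ((fun A : Subgroup (End k M)ˣ =>
    A.subgroupOf (⨆ B ∈ quadraticRootSubgroups G, B)) '' quadraticRootSubgroups G) :=
  rootSet_subgroupOf (fun _ => quad_comm) (fun _ => quad_ne_bot) (fun _ hA _ hg => quad_conj hA (G0_le hg))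
    (fun _ hA _ hB => quad_pair h2 h3 hG hA hB fun _ h => h.1)

theorem cmp_rootClass {A : Subgroup (End k M)ˣ} (hA : A ∈ quadraticRootSubgroups G) :
    IsRootSubgroupClass ((fun C : Subgroup (End k M)ˣ => C.subgroupOf (⨆ B ∈ QCmp G A, B)) '' QCmp G A) := by
  refine ⟨rootSet_subgroupOf (fun _ h => quad_comm h.1) (fun _ h => quad_ne_bot h.1)
    (fun _ hC _ hg => cmp_conj h2 h3 hG hC (Gi_le A hg))
    (fun _ hC _ hD => quad_pair h2 h3 hG hC.1 hD.1 (QCmp_eq hC.2).ge), ⟨_, A, ⟨hA, .refl⟩, rfl⟩, ?_⟩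
  rintro _ ⟨C, hC, rfl⟩ _ ⟨D, hD, rfl⟩
  obtain ⟨g, hg, rfl⟩ := cmp_class hC.1 ((QRch.symm' hC.2).trans hD.2)
  rw [← QCmp_eq hC.2] at hg
  refine ⟨⟨g, hg⟩, Subgroup.map_injective (Subgroup.subtype_injective _) ?_⟩
  rw [map_conjBy, Subgroup.map_subgroupOf_eq_of_le (le_iSup₂_of_le _ hD le_rfl),
    Subgroup.map_subgroupOf_eq_of_le (le_iSup₂_of_le _ hC le_rfl)]
  rfl

theorem Gi_comm {A B : Subgroup (End k M)ˣ} (h : ¬ QRch G A B) :
    ⁅(⨆ C ∈ QCmp G A, C), (⨆ C ∈ QCmp G B, C)⁆ = ⊥ := by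
  rw [Subgroup.commutator_eq_bot_iff_le_centralizer]
  refine iSup₂_le fun C hC => ?_
  rw [Subgroup.le_centralizer_iff]
  refine iSup₂_le fun D hD => ?_
  rw [← Subgroup.commutator_eq_bot_iff_le_centralizer]
  exact comm_of_not_rch h2 h3 hG hD.1 hC.1 fun e => h (hC.2.trans ((QRch.symm' e).trans (QRch.symm' hD.2)))

theorem cmp_finite : (QCmp G '' quadraticRootSubgroups G).Finite := by
  have : ∀ P : QCmp G '' quadraticRootSubgroups G, ∃ a ∈ QTd G, QCmp G (EG G a) = P := by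
    rintro ⟨_, A, hA, rfl⟩
    obtain ⟨a, ha, rfl⟩ := mem_quadRoot.1 hA
    exact ⟨a, ha, rfl⟩
  choose a ha e using this
  have : LinearIndependent k a := by
    rw [linearIndependent_iff']
    intro s g hs j hj
    obtain ⟨b, hb, h⟩ := exists_opp h2 h3 hG (ha j)
    have := congrArg (LinearMap.mulRight k b - LinearMap.mulLeft k b) hs
    rw [map_sum, map_zero, Finset.sum_eq_single j] at this
    · rw [map_smul, smul_eq_zero] at this
      refine this.resolve_right fun e => h ?_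
      have e : a j * b = b * a j := sub_eq_zero.1 e
      rw [e, mul_assoc, (ha j).1.1, mul_zero]
    · intro i _ hij
      have : a i * b = b * a i := comm_of_not_rch' h2 h3 hG (ha i) hb fun r => hij (Subtype.ext (by
        rw [← e, ← e, QCmp_eq r, QCmp_eq (rch_of_opp h2 h3 (ha j) hb h)]))
      simp [this]
    · exact fun h => absurd hj h
  exact Set.finite_coe_iff.1 this.finite

theorem Gi_normal {A N : Subgroup (End k M)ˣ} (hA : A ∈ quadraticRootSubgroups G) (hN : N ≤ ⨆ B ∈ QCmp G A, B)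
    (hn : ∀ g ∈ ⨆ B ∈ QCmp G A, B, conjBy N g = N) :
    N = ⨆ B ∈ QCmp G A, B ∨ ⁅N, ⨆ B ∈ QCmp G A, B⁆ = ⊥ := by
  have hNG : N ≤ G := hN.trans ((Gi_le A).trans G0_le)
  have hle : ∀ C ∈ QCmp G A, C ≤ ⨆ B ∈ QCmp G A, B := fun C hC => le_iSup₂_of_le C hC le_rfl
  by_cases hc : ∃ C ∈ QCmp G A, ∃ n ∈ N, IsRankOnePair C (conjBy C n)
  · left
    obtain ⟨C, hC, n, hn', h⟩ := hc
    have nC : C ≤ Subgroup.normalizer (N : Set (End k M)ˣ) := fun g hg => conjBy_eq_self_iff.1 (hn g (hle C hC hg))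
    have e1 : C ⊔ conjBy C n ≤ C ⊔ N := sup_le le_sup_left (conjBy_le_of_mem le_sup_left (Subgroup.mem_sup_right hn'))
    have e2 : ⁅C ⊔ N, C ⊔ N⁆ ≤ N := by
      have e3 : ⁅C, N⁆ ≤ N := Subgroup.le_normalizer_iff_commutator_le_right.1 nC
      refine comm_sup_le_left nC Subgroup.le_normalizer (comm_sup_le_right nC Subgroup.le_normalizer
        (by rw [cm_self (quad_comm hC.1)]; exact bot_le) e3) (comm_sup_le_right nC Subgroup.le_normalizer
        (by rwa [Subgroup.commutator_comm]) (Subgroup.commutator_le_self N))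
    have e4 : C ≤ N := (le_comm_of_r1 h2 h3 hC.1 (quad_conj hC.1 (hNG hn')) h).trans
      ((Subgroup.commutator_mono e1 e1).trans e2)
    refine le_antisymm hN (iSup₂_le fun D hD => ?_)
    obtain ⟨g, hg, rfl⟩ := cmp_class hC.1 ((QRch.symm' hC.2).trans hD.2)
    rw [← QCmp_eq hC.2] at hg
    rw [← hn g hg]; exact conjBy_mono e4 g
  · right
    push Not at hc
    have nuN : NU k N := ((hG.normal G0_le fun _ => G0_conj).normal (Gi_le A)
      fun _ => Gi_conj h2 h3 hG A).normal hN hn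
    rw [Subgroup.commutator_comm, Subgroup.commutator_eq_bot_iff_le_centralizer]
    refine iSup₂_le fun C hC => ?_
    let W : Set (Subgroup (End k M)ˣ) := {B | ∃ n ∈ N, B = conjBy C n}
    have hW : ∀ B ∈ W, ∀ g ∈ C ⊔ N, conjBy B g ∈ W := by
      rintro _ ⟨n, hn', rfl⟩ g hg
      have hg' : g ∈ ((C ⊔ N : Subgroup (End k M)ˣ) : Set (End k M)ˣ) := hg
      rw [Subgroup.coe_mul_of_left_le_normalizer_right _ _
        (fun g hg => conjBy_eq_self_iff.1 (hn g (hle C hC hg)))] at hg'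
      obtain ⟨c, hc, m, hm, rfl⟩ := hg'
      refine ⟨c * (m * n) * c⁻¹, hn c (hle C hC hc) ▸ conj_mem_conjBy (N.mul_mem hm hn') c, ?_⟩
      conv_rhs => rw [← conjBy_conjBy, conjBy_of_mem (C.inv_mem hc)]
      rw [conjBy_conjBy, mul_assoc]
    have hU : Unip k (⨆ B ∈ W, B) := by
      refine unip_family (G := C ⊔ N) ?_ ?_ hW
      · rintro _ ⟨n, hn', rfl⟩; exact conjBy_le_of_mem le_sup_left (Subgroup.mem_sup_right hn')
      · rintro _ ⟨n, hn1, rfl⟩ _ ⟨m, hm, rfl⟩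
        have := hc C hC _ (N.mul_mem (N.inv_mem hn1) hm)
        obtain ⟨a, ha, rfl⟩ := mem_quadRoot.1 hC.1
        have hg := hNG (N.mul_mem (N.inv_mem hn1) hm)
        rw [conjBy_EG hg, r1_iff h2 h3 ha (QTd.conj ha hg), not_not] at this
        have := (nopp_unip h2 h3 ha (QTd.conj ha hg) this).conj n
        rwa [← conjBy_EG hg, conjBy_sup, conjBy_conjBy, mul_inv_cancel_left] at this
    have := nuN ((⨆ B ∈ W, B) ⊓ N) inf_le_right (fun g hg => by
      rw [conjBy_inf, conjBy_of_mem hg, conjBy_biSup (fun B hB => hW B hB g (Subgroup.mem_sup_right hg))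
        (fun B hB => hW B hB _ (Subgroup.mem_sup_right (N.inv_mem hg)))]) (hU.mono inf_le_left)
    intro c hc n hn'
    have h4 : n * c * n⁻¹ * c⁻¹ ∈ (⨆ B ∈ W, B) ⊓ N := by
      refine ⟨Subgroup.mul_mem _ ?_ ?_, ?_⟩
      · exact (le_iSup₂_of_le (f := fun B (_ : B ∈ W) => B) _ ⟨n, hn', rfl⟩ le_rfl) (conj_mem_conjBy hc n)
      · exact (le_iSup₂_of_le (f := fun B (_ : B ∈ W) => B) _ ⟨1, N.one_mem, (conjBy_one _).symm⟩ le_rfl)
          (C.inv_mem hc)
      · rw [mul_assoc, mul_assoc, ← mul_assoc c]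
        exact N.mul_mem hn' (hn c (hle C hC hc) ▸ conj_mem_conjBy (N.inv_mem hn') c)
    rw [this, Subgroup.mem_bot, mul_inv_eq_one, mul_inv_eq_iff_eq_mul] at h4
    exact h4

theorem Gi_perfect (A : Subgroup (End k M)ˣ) :
    ⁅(⨆ B ∈ QCmp G A, B), (⨆ B ∈ QCmp G A, B)⁆ = ⨆ B ∈ QCmp G A, B := by
  refine le_antisymm (Subgroup.commutator_le_self _) (iSup₂_le fun C hC => ?_)
  obtain ⟨D, hD, h⟩ := exists_r1 h2 h3 hG hC.1
  have : C ⊔ D ≤ ⨆ B ∈ QCmp G A, B := sup_le (le_iSup₂_of_le C hC le_rfl)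
    (le_iSup₂_of_le D ⟨hD, hC.2.tail ⟨hC.1, hD, h⟩⟩ le_rfl)
  exact (le_comm_of_r1 h2 h3 hC.1 hD h).trans (Subgroup.commutator_mono this this)

omit h2 h3 hG [FiniteDimensional k M] in
theorem quasisimple_of {Γ : Type*} [Group Γ] {H : Subgroup Γ} (h0 : H ≠ ⊥) (hp : ⁅H, H⁆ = H)
    (hn : ∀ N ≤ H, (∀ g ∈ H, conjBy N g = N) → N = H ∨ ⁅N, H⁆ = ⊥) : IsQuasisimple H := by
  have inj := Subgroup.map_injective H.subtype_injective
  have tp : (⊤ : Subgroup H).map H.subtype = H := by rw [← MonoidHom.range_eq_map, H.range_subtype]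
  have hp' : commutator H = ⊤ := inj (by rw [commutator_def, Subgroup.map_commutator, tp, hp])
  refine ⟨⟨hp'⟩, ?_⟩
  have : Nontrivial (H ⧸ Subgroup.center H) := by
    rw [QuotientGroup.nontrivial_iff]
    intro e
    apply h0
    rw [← hp, comm_bot_iff]
    intro a ha b hb
    have : (⟨b, hb⟩ : H) ∈ Subgroup.center H := by rw [e]; trivial
    exact congrArg Subtype.val (Subgroup.mem_center_iff.1 this ⟨a, ha⟩)
  refine ⟨fun K hK => ?_⟩
  have hK' := hK.comap (QuotientGroup.mk' (Subgroup.center H))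
  rcases hn ((K.comap (QuotientGroup.mk' _)).map H.subtype) (Subgroup.map_subtype_le _) (fun g hg => by
    have := map_conjBy H.subtype (K.comap (QuotientGroup.mk' _)) ⟨g, hg⟩
    rw [conjBy_normal] at this; exact this.symm) with e | e
  · right
    rw [← Subgroup.map_comap_eq_self_of_surjective (QuotientGroup.mk'_surjective _) K, inj (e.trans tp.symm),
      Subgroup.map_top_of_surjective _ (QuotientGroup.mk'_surjective _)]
  · left
    rw [eq_bot_iff]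
    intro x hx
    obtain ⟨x, rfl⟩ := QuotientGroup.mk'_surjective _ x
    rw [Subgroup.mem_bot, QuotientGroup.mk'_apply, QuotientGroup.eq_one_iff, Subgroup.mem_center_iff]
    exact fun g => Subtype.ext (comm_bot_iff.1 e _ ⟨x, hx, rfl⟩ g g.2).symm

theorem Gi_quasisimple {A : Subgroup (End k M)ˣ} (hA : A ∈ quadraticRootSubgroups G) :
    IsQuasisimple ↥(⨆ B ∈ QCmp G A, B) :=
  quasisimple_of (fun e => quad_ne_bot hA (le_bot_iff.1 (e ▸ le_iSup₂_of_le (f := fun B (_ : B ∈ QCmp G A) => B)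
    A ⟨hA, .refl⟩ le_rfl))) (Gi_perfect h2 h3 hG A) fun _ h1 h4 => Gi_normal h2 h3 hG hA h1 h4

theorem exists_parts : ∃ (r : ℕ) (A : Fin r → Subgroup (End k M)ˣ), (∀ i, A i ∈ quadraticRootSubgroups G) ∧
    (∀ i j, i ≠ j → ¬ QRch G (A i) (A j)) ∧ ∀ B ∈ quadraticRootSubgroups G, ∃ i, B ∈ QCmp G (A i) := by
  have := (cmp_finite h2 h3 hG).to_subtype
  obtain ⟨r, ⟨e⟩⟩ := Finite.exists_equiv_fin (QCmp G '' quadraticRootSubgroups G)
  choose A hA eA using fun i => (e.symm i).2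
  refine ⟨r, A, hA, fun i j hij h => hij (e.symm.injective (Subtype.ext (by rw [← eA, ← eA, QCmp_eq h]))),
    fun B hB => ⟨e ⟨_, B, hB, rfl⟩, ?_⟩⟩
  rw [eA, Equiv.symm_apply_apply]
  exact ⟨hB, .refl⟩

end Cfsg.Agent.H29
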