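import Mathlib
import Cfsg.Agent.H29.Quad8

/-! Quadratic pairs IX: the central product decomposition. -/

set_option autoImplicit false
open Cfsg Module Polynomial
open scoped MatrixGroups commutatorElement

namespace Cfsg.Agent.H29

universe u
variable {k : Type u} [Field k] {M : Type*} [AddCommGroup M] [Module k M] {G : Subgroup (End k M)ˣ}

theorem EE_mono {H : Subgroup (End k M)ˣ} {x x' : End k M} (h : x' ∈ EE G x) : EE H x' ≤ EE H x :=
  fun _ hy => ⟨hy.1, h.2.1.trans hy.2.1, hy.2.2.1.trans h.2.2.1, mul_eq_zero_of_range_le hy.2.2.1 h.2.2.2⟩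

theorem mem_biSup {Γ : Type*} [Group Γ] {S : Set (Subgroup Γ)} {A : Subgroup Γ} (hA : A ∈ S) {g : Γ}
    (hg : g ∈ A) : g ∈ ⨆ B ∈ S, B := (le_iSup₂_of_le A hA le_rfl : A ≤ ⨆ B ∈ S, B) hg

theorem U1_comm_iff {x : End k M} (hx : x * x = 0) (g : (End k M)ˣ) :
    g * U1 x hx = U1 x hx * g ↔ (g : End k M) * x = x * g := by
  rw [Units.ext_iff]; simp [mul_add, add_mul]

variable (G) in
/-- the group generated by the quadratic elements centralizing `H` -/
def GC (H : Subgroup (End k M)ˣ) : Subgroup (End k M)ˣ :=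
  Subgroup.closure (quadraticElements G ∩ Subgroup.centralizer (H : Set (End k M)ˣ))

variable [FiniteDimensional k M]

theorem GC_le (H : Subgroup (End k M)ˣ) : GC G H ≤ G ⊓ Subgroup.centralizer (H : Set (End k M)ˣ) := by
  rw [GC, Subgroup.closure_le]; exact fun g hg => ⟨hg.1.1, hg.2⟩

theorem mem_QT_GC {H : Subgroup (End k M)ˣ} {x : End k M} (hx : x ∈ QT G) (h : ∀ g ∈ H, (g : End k M) * x = x * g) :
    x ∈ QT (GC G H) := by
  refine ⟨hx.1, fun c => ⟨U1 _ (QT.smul hx c).1, ?_, rfl⟩⟩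
  by_cases h0 : c • x = 0
  · rw [(U1_eq_one _).2 h0]; exact Subgroup.one_mem _
  · exact Subgroup.subset_closure ⟨U1_mem_quad (QT.smul hx c) h0, fun g hg => (U1_comm_iff _ _).2 (by simp [h g hg])⟩

theorem quad_conj_mem {σ g : (End k M)ˣ} (h : σ ∈ quadraticElements G) (hg : g ∈ G) :
    g * σ * g⁻¹ ∈ quadraticElements G := by
  rw [sub_one_mem_QT] at h ⊢
  have e : ((g * σ * g⁻¹ : (End k M)ˣ) : End k M) - 1 =
    g * ((σ : End k M) - 1) * ((g⁻¹ : (End k M)ˣ) : End k M) := by simp [mul_sub, sub_mul]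
  rw [e]
  exact ⟨QT.conj h.1 hg, by simpa using h.2⟩

theorem GC_conj {H : Subgroup (End k M)ˣ} (hH : ∀ g ∈ G, conjBy H g = H) {g : (End k M)ˣ} (hg : g ∈ G) :
    conjBy (GC G H) g = GC G H := by
  have : ∀ g ∈ G, conjBy (GC G H) g ≤ GC G H := by
    intro g hg
    rw [GC, conjBy, MonoidHom.map_closure]
    refine Subgroup.closure_mono ?_
    rintro _ ⟨σ, ⟨h1, h2⟩, rfl⟩
    refine ⟨quad_conj_mem h1 hg, ?_⟩
    have := conj_mem_conjBy h2 g
    rwa [conjBy_centralizer, hH g hg] at this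
  refine le_antisymm (this g hg) ?_
  have h := conjBy_mono (this _ (G.inv_mem hg)) g
  rwa [conjBy_conjBy_inv] at h

variable (h2 : (2 : k) ≠ 0) (h3 : Nat.card k ≠ 3) (hG : NU k G)
include h2 h3 hG

theorem eq_zero_of_null {x a : End k M} (hx : x ∈ QT G) (hn : ∀ b ∈ QTd G, b * x * b = 0) (ha : a ∈ QTd G)
    (h : rk x ≤ rk a) : x = 0 := by
  by_contra x0
  have := QTd.of_le ha hx x0 h
  obtain ⟨b, hb, e⟩ := exists_opp h2 h3 hG this
  exact opp_symm h2 h3 this hb e (hn b hb)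

theorem lemmaN {x a : End k M} (hx : x ∈ QT G) (hn : ∀ b ∈ QTd G, b * x * b = 0) (ha : a ∈ QTd G) :
    a * x = x * a := by
  have cj : ∀ u : End k M, (∀ b ∈ QTd G, b * u * b = 0) → ∀ y ∈ QT G, ∀ b ∈ QTd G,
      b * ((1 + y) * u * (1 - y)) * b = 0 := by
    intro u hu y hy b hb
    have := hu _ (QTd.conj' hb (QT.neg hy))
    have e : (1 + y) * (1 - y) = 1 := by
      calc _ = 1 - y * y := by noncomm_ring
        _ = 1 := by rw [hy.1, sub_zero]
    calc _ = (1 + y) * (1 - y) * b * ((1 + y) * u * (1 - y)) * b * ((1 + y) * (1 - y)) := by rw [e]; simp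
      _ = (1 + y) * ((1 + -y) * b * (1 - -y) * u * ((1 + -y) * b * (1 - -y))) * (1 - y) := by noncomm_ring
      _ = 0 := by rw [this]; simp
  have axa := hn a ha
  have e1 : (1 + a) * x * (1 - a) = x - (x * a - a * x) := conj_nopp axa
  have n1 : ∀ b ∈ QTd G, b * (x * a - a * x) * b = 0 := fun b hb => by
    have := cj x hn a ha.1 b hb
    rwa [e1, mul_sub, sub_mul, hn b hb, zero_sub, neg_eq_zero] at this
  have xax : x * a * x = 0 := by
    have h4 : x - (x * a - a * x) ∈ QT G := e1 ▸ QT.conj' hx ha.1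
    have p1 : x * (x - (x * a - a * x)) = x * a * x := by
      calc _ = x * x - x * x * a + x * a * x := by noncomm_ring
        _ = _ := by rw [hx.1]; simp
    have p2 : (x - (x * a - a * x)) * x = -(x * a * x) := by
      calc _ = x * x - x * a * x + a * (x * x) := by noncomm_ring
        _ = _ := by rw [hx.1]; simp
    have h5 := QT.comm hx h4 (by rw [p1, mul_assoc, hx.1, mul_zero]) (by
      rw [p2, neg_mul, mul_assoc, p1, ← mul_assoc, ← mul_assoc, mul_assoc x a, mul_assoc x, axa]; simp)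
    rw [p1, p2, sub_neg_eq_add, ← two_smul k] at h5
    refine eq_zero_of_null h2 h3 hG (QT.of_smul h2 h5) (fun b hb => ?_) ha
      ((rk_mul_le_left _ _).trans (rk_mul_le_right _ _))
    have := cj _ n1 x hx b hb
    have e : (1 + x) * (x * a - a * x) * (1 - x) = (x * a - a * x) - (2 : k) • (x * a * x) := by
      calc _ = (x * a - a * x) - (x * a * x + x * a * x) + x * x * a + a * (x * x) - x * x * a * x +
          x * a * (x * x) := by noncomm_ring
        _ = _ := by rw [hx.1, two_smul]; simp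
    rw [e, mul_sub, sub_mul, n1 b hb, zero_sub, neg_eq_zero, mul_smul_comm, smul_mul_assoc, smul_eq_zero] at this
    exact this.resolve_left h2
  have l1 : LinearMap.range (a * x) ≤ LinearMap.range a ⊓ LinearMap.ker x :=
    le_inf (range_mul_le _ _) (mul_eq_zero_iff_range_le.1 (by rw [← mul_assoc, xax]))
  have e2 : rk (a * x) ≤ _ := Submodule.finrank_mono l1
  have e3 := rk_mul_add a x
  have e4 := rk_add_le (x * a) (-(a * x))
  rw [rk_neg, ← sub_eq_add_neg] at e4
  exact (sub_eq_zero.1 (eq_zero_of_null h2 h3 hG (QT.comm hx ha.1 xax axa) n1 ha (by omega))).symm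

/-- splitting off minimal elements -/
theorem quad_split (P : End k M → Submodule k (End k M)) (hP : ∀ x x', x' ∈ EE G x → P x' ≤ P x)
    (h4 : ∀ x ∈ QTd G, x ∈ P x) (h5 : ∀ x ∈ QT (GC G (⨆ A ∈ quadraticRootSubgroups G, A)), x ∈ P x) :
    ∀ x ∈ QT G, x ∈ P x := by
  suffices ∀ n, ∀ x ∈ QT G, rk x = n → x ∈ P x from fun x hx => this _ x hx rfl
  intro n
  induction n using Nat.strong_induction_on with
  | _ n ih =>
  intro x hx hn
  by_cases hc : ∀ b ∈ QTd G, b * x * b = 0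
  · refine h5 x (mem_QT_GC hx fun g hg => (U1_comm_iff hx.1 g).1 ?_)
    have : (⨆ A ∈ quadraticRootSubgroups G, A) ≤ Subgroup.centralizer {U1 x hx.1} := by
      refine iSup₂_le fun A hA g hg => ?_
      obtain ⟨a, ha, rfl⟩ := mem_quadRoot.1 hA
      obtain ⟨y, hy, rfl⟩ := EG_ex hg
      rw [Subgroup.mem_centralizer_singleton_iff, U1_comm_iff]
      by_cases y0 : y = 0
      · simp [y0]
      · simp [add_mul, mul_add, lemmaN h2 h3 hG hx hc (EE.mem_QTd ha hy y0)]
    exact Subgroup.mem_centralizer_singleton_iff.1 (this hg)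
  push Not at hc
  obtain ⟨b, hb, hc⟩ := hc
  obtain ⟨-, -, -, -, -, π4, u, hu⟩ := lemmaK h2 h3 hb hx (not_nil_of_ne h2 hb hx hc)
  have cb := ev_comm_a (k := k) (b := x) hb.1.1 (u * X)
  have cx := ev_comm_b (k := k) (a := b) hx.1 (u * X)
  set w := ev b x (u * X : k[X]) with hw
  have m1 : w * x ∈ EE G x := EE.mk' hx.1 (π4 u) rfl cx.eq
  have m2 : x - w * x ∈ EE G x := Submodule.sub_mem _ (EE.self hx) m1
  have d1 : w * x ∈ QTd G := by
    refine QTd.of_le hb (π4 u) (fun e => hc ?_) ?_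
    · rw [← hu, cb.eq, mul_assoc b, e]; simp
    · rw [hw, map_mul, aeval_X, mul_assoc, add_comm, z_mul_a hx.1]
      exact (rk_mul_le_right _ _).trans ((rk_mul_le_left _ _).trans (rk_mul_le_right _ _))
  have lt : rk (x - w * x) < n := by
    have : LinearMap.ker x < LinearMap.ker (x - w * x) := by
      refine lt_of_le_of_ne m2.2.1 fun e => hc ?_
      have : (x - w * x) * b = 0 := by rw [sub_mul, cx.eq, mul_assoc, hu, sub_self]
      rw [mul_assoc, mul_eq_zero_of_ker_le e.ge this, mul_zero]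
    have := Submodule.finrank_lt_finrank_of_lt this
    have := rk_add_ker x
    have := rk_add_ker (x - w * x)
    omega
  have := Submodule.add_mem _ (hP _ _ m1 (h4 _ d1)) (hP _ _ m2 (ih _ lt _ m2.1 rfl))
  simpa using this

theorem s5074 (hgen : Subgroup.closure (quadraticElements G) = G) :
    (⨆ A ∈ quadraticRootSubgroups G, A) ⊔ GC G (⨆ A ∈ quadraticRootSubgroups G, A) = G := by
  set G0 := ⨆ A ∈ quadraticRootSubgroups G, A
  have hle : G0 ⊔ GC G G0 ≤ G := sup_le G0_le ((GC_le _).trans inf_le_left)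
  refine le_antisymm hle (hgen.symm.le.trans ((Subgroup.closure_le _).2 fun σ hσ => ?_))
  have := quad_split h2 h3 hG (fun x => EE (G0 ⊔ GC G G0) x) (fun x x' h => EE_mono h)
    (fun x hx => EE.self ⟨hx.1.1, fun c => ⟨_, Subgroup.mem_sup_left (mem_biSup (EG_mem hx) (U1_mem_EG (Submodule.smul_mem _ c (EE.self hx.1)))), rfl⟩⟩)
    (fun x hx => EE.self (QT.mono le_sup_right hx)) _ (sub_one_mem_QT.1 hσ).1
  exact QT.mem_of_eq this.1 (by simp)

omit hG in
theorem central_product (m : ℕ) : ∀ G : Subgroup (End k M)ˣ, NU k G → Subgroup.closure (quadraticElements G) = G →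
    (∀ x ∈ QT G, x ≠ 0 → finrank k M < rk x + m) →
    ∃ (ι : Type) (_ : Finite ι) (Gi : ι → Subgroup (End k M)ˣ), (∀ i j, i ≠ j → ⁅Gi i, Gi j⁆ = ⊥) ∧ (⨆ i, Gi i) = G ∧
      (∀ i, IsQuasisimple ↥(Gi i) ∧ Subgroup.closure (quadraticElements (Gi i)) = Gi i) ∧
      ∀ x ∈ QT G, x ∈ ⨆ i, EE (Gi i) x := by
  have triv : ∀ G : Subgroup (End k M)ˣ, Subgroup.closure (quadraticElements G) = G → (∀ x ∈ QT G, x = 0) →
    ∃ (ι : Type) (_ : Finite ι) (Gi : ι → Subgroup (End k M)ˣ), (∀ i j, i ≠ j → ⁅Gi i, Gi j⁆ = ⊥) ∧ (⨆ i, Gi i) = G ∧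
      (∀ i, IsQuasisimple ↥(Gi i) ∧ Subgroup.closure (quadraticElements (Gi i)) = Gi i) ∧
      ∀ x ∈ QT G, x ∈ ⨆ i, EE (Gi i) x := by
    intro G hgen h
    refine ⟨Empty, inferInstance, Empty.elim, fun i => i.elim, ?_, fun i => i.elim, fun x hx => by simp [h x hx]⟩
    rw [iSup_of_empty, ← hgen, eq_comm, Subgroup.closure_eq_bot_iff]
    exact fun σ hσ => absurd (h _ (sub_one_mem_QT.1 hσ).1) (sub_one_mem_QT.1 hσ).2
  induction m with
  | zero =>
    intro G _ hgen h
    refine triv G hgen fun x hx => by_contra fun x0 => ?_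
    have := h x hx x0
    have := rk_add_ker x
    omega
  | succ m ih =>
    intro G hG hgen h
    by_cases h0 : ∀ x ∈ QT G, x = 0
    · exact triv G hgen h0
    obtain ⟨a, ha⟩ : ∃ a, a ∈ QTd G := by
      push Not at h0
      obtain ⟨a, ha, hm⟩ := WellFounded.has_min (measure rk).wf {x | x ∈ QT G ∧ x ≠ 0} h0
      exact ⟨a, ha.1, ha.2, fun y hy y0 => not_lt.1 (hm y ⟨hy, y0⟩)⟩
    set G0 := ⨆ A ∈ quadraticRootSubgroups G, A with hG0
    have hle := GC_le (G := G) G0
    obtain ⟨ι, _, Gi, c1, c2, c3, c4⟩ := ih (GC G G0) (hG.normal (hle.trans inf_le_left)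
      fun _ => GC_conj fun _ => G0_conj) (le_antisymm ((Subgroup.closure_le _).2 fun _ h => h.1)
      (Subgroup.closure_mono fun σ hσ => sub_one_mem_QT.2 ⟨mem_QT_GC (sub_one_mem_QT.1 hσ.1).1 fun g hg => by
        have := congrArg Units.val (hσ.2 g hg)
        simp only [Units.val_mul] at this
        rw [mul_sub, sub_mul, this]; simp, (sub_one_mem_QT.1 hσ.1).2⟩)) (fun x hx x0 => by
      have hx' := QT.mono (hle.trans inf_le_left) hx
      have e1 := h a ha.1 ha.2.1
      by_contra hc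
      have d := QTd.of_le ha hx' x0 (by omega)
      obtain ⟨b, hb, e⟩ := exists_opp h2 h3 hG d
      have := (U1_comm_iff _ _).1 ((hle (QT.U1_mem hx)).2 _ (mem_biSup (EG_mem hb) (U1_mem_EG (EE.self hb.1))))
      rw [U1_val, add_mul, mul_add, one_mul, mul_one, add_right_inj] at this
      exact e (by rw [← this, mul_assoc, hx.1, mul_zero]))
    obtain ⟨r, A, a1, a2, a3⟩ := exists_parts h2 h3 hG
    have cm : ∀ i j, ⁅(⨆ B ∈ QCmp G (A i), B), Gi j⁆ = ⊥ := fun i j => cm_symm (by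
      rw [Subgroup.commutator_eq_bot_iff_le_centralizer]
      exact (le_iSup Gi j).trans (c2.le.trans (hle.trans (inf_le_right.trans
        (Subgroup.centralizer_le (Gi_le (A i)))))))
    have mQ : ∀ i, ∀ b, EG G b ∈ QCmp G (A i) → ∀ x ∈ EE G b, x ∈ QT (⨆ B ∈ QCmp G (A i), B) :=
      fun i b hb x hx => ⟨hx.1.1, fun c => ⟨_, mem_biSup hb (U1_mem_EG (Submodule.smul_mem _ c hx)), rfl⟩⟩
    refine ⟨Fin r ⊕ ι, inferInstance, Sum.elim (fun i => ⨆ B ∈ QCmp G (A i), B) Gi, ?_, ?_, ?_, ?_⟩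
    · rintro (i | i) (j | j) hij
      · exact Gi_comm h2 h3 hG (a2 i j fun e => hij (e ▸ rfl))
      · exact cm i j
      · exact cm_symm (cm j i)
      · exact c1 i j fun e => hij (e ▸ rfl)
    · rw [iSup_sum]
      simp only [Sum.elim_inl, Sum.elim_inr]
      rw [c2]
      refine Eq.trans ?_ (s5074 h2 h3 hG hgen)
      congr 1
      refine le_antisymm (iSup_le fun i => Gi_le _) (iSup₂_le fun B hB => ?_)
      obtain ⟨i, hi⟩ := a3 B hB
      exact le_iSup_of_le i (le_iSup₂_of_le B hi le_rfl)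
    · rintro (i | i)
      · refine ⟨Gi_quasisimple h2 h3 hG (a1 i), le_antisymm ((Subgroup.closure_le _).2 fun _ h => h.1)
          (iSup₂_le fun B hB g hg => ?_)⟩
        obtain ⟨b, hb, rfl⟩ := mem_quadRoot.1 hB.1
        obtain ⟨x, hx, rfl⟩ := EG_ex hg
        by_cases x0 : x = 0
        · rw [(U1_eq_one _).2 x0]; exact Subgroup.one_mem _
        · exact Subgroup.subset_closure (U1_mem_quad (mQ i b hB x hx) x0)
      · exact c3 i
    · refine quad_split h2 h3 hG _ (fun x x' h => iSup_mono fun i => EE_mono h) (fun x hx => ?_) fun x hx => ?_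
      · obtain ⟨i, hi⟩ := a3 _ (EG_mem hx)
        exact Submodule.mem_iSup_of_mem (Sum.inl i) (EE.self (mQ i x hi x (EE.self hx.1)))
      · exact (iSup_le fun i => le_iSup_of_le (Sum.inr i) le_rfl : (⨆ i, EE (Gi i) x) ≤ _) (c4 x hx)

omit h2 h3 hG [FiniteDimensional k M] in
theorem single_component (hi : IsIrreducibleFor G) {ι : Type*} {Gi : ι → Subgroup (End k M)ˣ}
    (c1 : ∀ i j, i ≠ j → ⁅Gi i, Gi j⁆ = ⊥) (c2 : (⨆ i, Gi i) = G) {x : End k M} (x0 : x ≠ 0)
    (h : x ∈ ⨆ i, EE (Gi i) x) : ∃ i, x ∈ QT (Gi i) := by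
  obtain ⟨i, hi'⟩ : ∃ i, EE (Gi i) x ≠ ⊥ := by
    by_contra hc; push Not at hc
    simp [hc, x0] at h
  obtain ⟨y, hy, y0⟩ := Submodule.exists_mem_ne_zero_of_ne_bot hi'
  have cmv : ∀ {i j}, i ≠ j → ∀ g ∈ Gi i, ∀ z ∈ QT (Gi j), (g : End k M) * z = z * g := fun hij g hg z hz =>
    (U1_comm_iff hz.1 g).1 (cm_el (c1 _ _ hij) hg (QT.U1_mem hz))
  refine ⟨i, (iSup_le fun j z hz => ?_ : (⨆ i, EE (Gi i) x) ≤ EE (Gi i) x) h |>.1⟩
  by_cases hij : j = i
  · exact hij ▸ hz
  let V : Submodule k M := ⨅ g ∈ Gi j, LinearMap.ker (z * (g : End k M))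
  have memV : ∀ m, m ∈ V ↔ ∀ g ∈ Gi j, z ((g : End k M) m) = 0 := fun m => by simp [V]
  rcases hi.2 V (fun g hg => by
    rw [← c2] at hg
    induction hg using Subgroup.iSup_induction' with
    | hp l g hg =>
      intro m hm
      rw [memV] at hm ⊢
      intro f hf
      by_cases hl : l = j
      · exact hm (f * g) (Subgroup.mul_mem _ hf (hl ▸ hg))
      · have e := congrArg Units.val (cm_el (c1 _ _ hl) hg hf)
        simp only [Units.val_mul] at e
        rw [← End.mul_apply (f : End k M), ← e, ← End.mul_apply, ← mul_assoc, ← cmv hl g hg z hz.1, mul_assoc,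
          End.mul_apply, End.mul_apply, hm f hf, map_zero]
    | h1 => intro m hm; exact hm
    | hmul g h _ _ ih1 ih2 => intro m hm; exact ih1 _ (ih2 m hm)) with e | e
  · refine absurd (LinearMap.range_eq_bot.1 (le_bot_iff.1 (e ▸ ?_))) y0
    rintro _ ⟨m, rfl⟩
    rw [memV]
    intro g hg
    rw [← End.mul_apply (g : End k M), cmv hij g hg y hy.1, ← End.mul_apply, ← mul_assoc,
      mul_eq_zero_of_ker_le hz.2.1 hy.2.2.2]
    simp
  · have : z = 0 := by
      ext m
      simpa using (memV m).1 (e ▸ trivial) 1 (Subgroup.one_mem _)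
    rw [this]; exact Submodule.zero_mem _

end Cfsg.Agent.H29
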