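import Cfsg.Agent.H29.U6T

/-! The common neighbourhood of two non-commuting transpositions: certified search. -/

open Cfsg Subgroup Equiv Cfsg.Agent.H17

namespace Cfsg.Agent.H29.S22
open MU6

set_option maxRecDepth 100000
set_option Elab.async false
noncomputable def V : List (List ℕ) := [unp 8 8 (nat_lit 0x100020103020403),
  [nat_lit 2, nat_lit 3, nat_lit 1, nat_lit 2, nat_lit 0, nat_lit 1],
  unp 8 8 (nat_lit 0x100020103020703),
  [nat_lit 5, nat_lit 6, nat_lit 1, nat_lit 5, nat_lit 0, nat_lit 1],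
  [nat_lit 2, nat_lit 1, nat_lit 5, nat_lit 3, nat_lit 2, nat_lit 1]]
theorem src : srcB B u2 V 3 5 45 37 54 65 = true := by decide +kernel
noncomputable def Y0 : List (List ℕ) := [unp 8 8 (nat_lit 0x100020103020403),
  [nat_lit 2, nat_lit 3, nat_lit 1, nat_lit 2, nat_lit 0, nat_lit 1],
  unp 8 8 (nat_lit 0x100020103020703),
  [nat_lit 5, nat_lit 6, nat_lit 1, nat_lit 5, nat_lit 0, nat_lit 1],
  [nat_lit 2, nat_lit 1, nat_lit 5, nat_lit 3, nat_lit 2, nat_lit 1]]
noncomputable def C0 : ℕ := nat_lit 0x10000000000000400400000000000000000001000000000000000000400000000010000000000000018200000000000000001e40000000000c00001d0000040001e000780001e081c0220061040402000000000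
theorem q0 : qB B C0 Y0 2 5 45 = true := by decide +kernel
noncomputable def J0 : List (List ℕ × List ℕ × ℕ) := [([nat_lit 2, nat_lit 1], [nat_lit 0, nat_lit 6, nat_lit 3, nat_lit 1], 0),
  ([nat_lit 5, nat_lit 6, nat_lit 7, nat_lit 3, nat_lit 2, nat_lit 1], [nat_lit 0, nat_lit 5, nat_lit 2, nat_lit 1], 0)]
theorem rj0 : rjB B C0 Y0 J0 = true := by decide +kernel
theorem in0 : subB (ones B.T.n) (Nat.lor (Nat.lor B.N0 (B.fl Y0 4 (fsts J0))) (Nat.lor (bit 1) (bit 2))) = true := by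
  decide +kernel
noncomputable def Y1 : List (List ℕ) := [unp 8 8 (nat_lit 0x100020103020403),
  [nat_lit 2, nat_lit 3, nat_lit 1, nat_lit 2, nat_lit 0, nat_lit 1],
  [nat_lit 1, nat_lit 5, nat_lit 2, nat_lit 1],
  [nat_lit 5, nat_lit 6, nat_lit 1, nat_lit 5, nat_lit 0, nat_lit 1],
  [nat_lit 7, nat_lit 3, nat_lit 1, nat_lit 2, nat_lit 0, nat_lit 1]]
noncomputable def C1 : ℕ := nat_lit 0x1000000400000000000000200002000000000000080188000000000000843000004000c0000001010000400000120000080000080000c0002100062080804401a0082c0a440040000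
theorem q1 : qB B C1 Y1 2 5 45 = true := by decide +kernel
noncomputable def J1 : List (List ℕ × List ℕ × ℕ) := [([nat_lit 1], [nat_lit 0, nat_lit 4, nat_lit 5, nat_lit 3, nat_lit 4, nat_lit 1], 0)]
theorem rj1 : rjB B C1 Y1 J1 = true := by decide +kernel
noncomputable def S1a : ℕ := nat_lit 0x800002004001010000c0000401001410020000200000402800088018800000004001484305290400cc2000109010ce4600002922010086cca080090c12023a0e624808e4545a448ae8ad4044caf9
noncomputable def S1b : ℕ := S1a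
theorem acc1 : accB B C1 Y1 J1 5 4 4 ([nat_lit 2, nat_lit 1]) ([nat_lit 2, nat_lit 1]) ([]) 0 S1a S1b = true := by decide +kernel
noncomputable def Y2 : List (List ℕ) := [unp 8 8 (nat_lit 0x100020103020403),
  [nat_lit 2, nat_lit 3, nat_lit 1, nat_lit 2, nat_lit 0, nat_lit 1],
  [nat_lit 1, nat_lit 5, nat_lit 2, nat_lit 1],
  [nat_lit 5, nat_lit 6, nat_lit 1, nat_lit 5, nat_lit 0, nat_lit 1],
  [nat_lit 7, nat_lit 1, nat_lit 5, nat_lit 3, nat_lit 2, nat_lit 1]]
noncomputable def C2 : ℕ := nat_lit 0x80000010000000000010000140000000000200040004c00000000000600200e000000408060083800001e10600c20062182402440040000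
theorem q2 : qB B C2 Y2 2 5 45 = true := by decide +kernel
noncomputable def J2 : List (List ℕ × List ℕ × ℕ) := [([nat_lit 1], [nat_lit 0, nat_lit 4, nat_lit 5, nat_lit 3, nat_lit 4, nat_lit 1], 0)]
theorem rj2 : rjB B C2 Y2 J2 = true := by decide +kernel
noncomputable def S2a : ℕ := nat_lit 0x8020a8100000000400b1716140000000a8a2014cb414c00000830a89605320e0002124db060c93800101e94610d218721b352366956caf9
noncomputable def S2b : ℕ := S2a
theorem acc2 : accB B C2 Y2 J2 5 4 4 ([nat_lit 2, nat_lit 1]) ([nat_lit 2, nat_lit 1]) ([]) 0 S2a S2b = true := by decide +kernel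
noncomputable def Y3 : List (List ℕ) := [unp 8 8 (nat_lit 0x100020103020403),
  [nat_lit 2, nat_lit 3, nat_lit 1, nat_lit 2, nat_lit 0, nat_lit 1],
  [nat_lit 1, nat_lit 5, nat_lit 2, nat_lit 1],
  [nat_lit 5, nat_lit 6, nat_lit 1, nat_lit 5, nat_lit 0, nat_lit 1],
  unp 8 14 (nat_lit 0x102030405010203060507030206)]
noncomputable def C3 : ℕ := nat_lit 0x80010000000006000400000200000000018000000800040000000200000300000000000000000080000018000000000000000021e20000040000c00011600001000093000000008200000400020082402440040000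
theorem q3 : qB B C3 Y3 2 5 45 = true := by decide +kernel
noncomputable def J3 : List (List ℕ × List ℕ × ℕ) := [([nat_lit 2, nat_lit 1], [nat_lit 0, nat_lit 6, nat_lit 5, nat_lit 2, nat_lit 6, nat_lit 1], 0)]
theorem rj3 : rjB B C3 Y3 J3 = true := by decide +kernel
noncomputable def S3a : ℕ := nat_lit 0x11d09801801e2080076004400002f440000001c000000a006e800000020000038015080000040000028209401848240a0041308180a1ea0480340008d240116000030000930000000082000004002200864524d28d1107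
noncomputable def S3b : ℕ := S3a
theorem acc3 : accB B C3 Y3 J3 4 4 4 ([nat_lit 1]) ([nat_lit 1]) ([]) 0 S3a S3b = true := by decide +kernel

universe u
variable {K : Type u} [Group K] [Finite K] {E : Set K} {d c s : K} {e : ℕ → K}

/-- the possible shapes -/
def Goal (E : Set K) (d c s : K) : Prop := Half B E d c s C0 ∨ Half B E d c s C1 ∨ Half B E d c s C2 ∨ Half B E d c s C3

section
variable (hE : Tr3 E) (hS : Src B E d c s V 45 e)
include hE hS
theorem n0 (h : Fit B (Nb E d) s e [unp 8 8 (nat_lit 0x100020103020403), [nat_lit 2, nat_lit 3, nat_lit 1, nat_lit 2, nat_lit 0, nat_lit 1], [nat_lit 1, nat_lit 2, nat_lit 0, nat_lit 1]]) : Goal E d c s := by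
  obtain ⟨u, hu, h⟩ := Fit.step hE hS.fit h (W := []) (r := 0) (R := []) (by decide +kernel)
  exact absurd hu List.not_mem_nil
theorem n1 (h : Fit B (Nb E d) s e [unp 8 8 (nat_lit 0x100020103020403), [nat_lit 2, nat_lit 3, nat_lit 1, nat_lit 2, nat_lit 0, nat_lit 1], [nat_lit 1, nat_lit 5, nat_lit 2, nat_lit 1], [nat_lit 5, nat_lit 6, nat_lit 1, nat_lit 5, nat_lit 0, nat_lit 1], [nat_lit 7, nat_lit 3, nat_lit 1, nat_lit 2, nat_lit 0, nat_lit 1]]) : Goal E d c s :=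
  .inr (.inl (h.leaf hS q1 (w := []) (by decide +kernel)))
theorem n2 (h : Fit B (Nb E d) s e [unp 8 8 (nat_lit 0x100020103020403), [nat_lit 2, nat_lit 3, nat_lit 1, nat_lit 2, nat_lit 0, nat_lit 1], [nat_lit 1, nat_lit 5, nat_lit 2, nat_lit 1], [nat_lit 5, nat_lit 6, nat_lit 1, nat_lit 5, nat_lit 0, nat_lit 1], [nat_lit 1, nat_lit 5, nat_lit 4, nat_lit 3, nat_lit 2, nat_lit 1]]) : Goal E d c s :=
  (Fit.rej h hS.fit (w := [nat_lit 4, nat_lit 2]) (a := 1) (b := 0) (by decide +kernel)).elim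
theorem n3 (h : Fit B (Nb E d) s e [unp 8 8 (nat_lit 0x100020103020403), [nat_lit 2, nat_lit 3, nat_lit 1, nat_lit 2, nat_lit 0, nat_lit 1], [nat_lit 1, nat_lit 5, nat_lit 2, nat_lit 1], [nat_lit 5, nat_lit 6, nat_lit 1, nat_lit 5, nat_lit 0, nat_lit 1], [nat_lit 2, nat_lit 1, nat_lit 5, nat_lit 3, nat_lit 2, nat_lit 1]]) : Goal E d c s :=
  (Fit.rej h hS.fit (w := [nat_lit 3, nat_lit 4, nat_lit 3]) (a := 2) (b := 2) (by decide +kernel)).elim
theorem n4 (h : Fit B (Nb E d) s e [unp 8 8 (nat_lit 0x100020103020403), [nat_lit 2, nat_lit 3, nat_lit 1, nat_lit 2, nat_lit 0, nat_lit 1], [nat_lit 1, nat_lit 5, nat_lit 2, nat_lit 1], [nat_lit 5, nat_lit 6, nat_lit 1, nat_lit 5, nat_lit 0, nat_lit 1], [nat_lit 7, nat_lit 1, nat_lit 5, nat_lit 3, nat_lit 2, nat_lit 1]]) : Goal E d c s :=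
  .inr (.inr (.inl (h.leaf hS q2 (w := []) (by decide +kernel))))
theorem n5 (h : Fit B (Nb E d) s e [unp 8 8 (nat_lit 0x100020103020403), [nat_lit 2, nat_lit 3, nat_lit 1, nat_lit 2, nat_lit 0, nat_lit 1], [nat_lit 1, nat_lit 5, nat_lit 2, nat_lit 1], [nat_lit 5, nat_lit 6, nat_lit 1, nat_lit 5, nat_lit 0, nat_lit 1], unp 8 7 (nat_lit 0x1000201030706)]) : Goal E d c s :=
  (Fit.rej hS.fit h (w := [nat_lit 1, nat_lit 2, nat_lit 4, nat_lit 2, nat_lit 1]) (a := 0) (b := 0) (by decide +kernel)).elim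
theorem n6 (h : Fit B (Nb E d) s e [unp 8 8 (nat_lit 0x100020103020403), [nat_lit 2, nat_lit 3, nat_lit 1, nat_lit 2, nat_lit 0, nat_lit 1], [nat_lit 1, nat_lit 5, nat_lit 2, nat_lit 1], [nat_lit 5, nat_lit 6, nat_lit 1, nat_lit 5, nat_lit 0, nat_lit 1], unp 8 7 (nat_lit 0x1020305010706)]) : Goal E d c s :=
  (Fit.rej hS.fit h (w := [nat_lit 1, nat_lit 2, nat_lit 4, nat_lit 2, nat_lit 1]) (a := 0) (b := 0) (by decide +kernel)).elim
theorem n7 (h : Fit B (Nb E d) s e [unp 8 8 (nat_lit 0x100020103020403), [nat_lit 2, nat_lit 3, nat_lit 1, nat_lit 2, nat_lit 0, nat_lit 1], [nat_lit 1, nat_lit 5, nat_lit 2, nat_lit 1], [nat_lit 5, nat_lit 6, nat_lit 1, nat_lit 5, nat_lit 0, nat_lit 1], unp 8 8 (nat_lit 0x100020103020407)]) : Goal E d c s :=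
  .inr (.inr (.inl (h.leaf hS q2 (w := []) (by decide +kernel))))
theorem n8 (h : Fit B (Nb E d) s e [unp 8 8 (nat_lit 0x100020103020403), [nat_lit 2, nat_lit 3, nat_lit 1, nat_lit 2, nat_lit 0, nat_lit 1], [nat_lit 1, nat_lit 5, nat_lit 2, nat_lit 1], [nat_lit 5, nat_lit 6, nat_lit 1, nat_lit 5, nat_lit 0, nat_lit 1], unp 8 8 (nat_lit 0x102030405010207)]) : Goal E d c s :=
  .inr (.inl (h.leaf hS q1 (w := []) (by decide +kernel)))
theorem n9 (h : Fit B (Nb E d) s e [unp 8 8 (nat_lit 0x100020103020403), [nat_lit 2, nat_lit 3, nat_lit 1, nat_lit 2, nat_lit 0, nat_lit 1], [nat_lit 1, nat_lit 5, nat_lit 2, nat_lit 1], [nat_lit 5, nat_lit 6, nat_lit 1, nat_lit 5, nat_lit 0, nat_lit 1], unp 8 9 (nat_lit 0x10002010302040706)]) : Goal E d c s :=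
  (Fit.rej hS.fit h (w := [nat_lit 1, nat_lit 2, nat_lit 4, nat_lit 2, nat_lit 1]) (a := 0) (b := 0) (by decide +kernel)).elim
theorem n10 (h : Fit B (Nb E d) s e [unp 8 8 (nat_lit 0x100020103020403), [nat_lit 2, nat_lit 3, nat_lit 1, nat_lit 2, nat_lit 0, nat_lit 1], [nat_lit 1, nat_lit 5, nat_lit 2, nat_lit 1], [nat_lit 5, nat_lit 6, nat_lit 1, nat_lit 5, nat_lit 0, nat_lit 1], unp 8 9 (nat_lit 0x10203040501020706)]) : Goal E d c s :=
  (Fit.rej hS.fit h (w := [nat_lit 1, nat_lit 2, nat_lit 4, nat_lit 2, nat_lit 1]) (a := 0) (b := 0) (by decide +kernel)).elim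
theorem n11 (h : Fit B (Nb E d) s e [unp 8 8 (nat_lit 0x100020103020403), [nat_lit 2, nat_lit 3, nat_lit 1, nat_lit 2, nat_lit 0, nat_lit 1], [nat_lit 1, nat_lit 5, nat_lit 2, nat_lit 1], [nat_lit 5, nat_lit 6, nat_lit 1, nat_lit 5, nat_lit 0, nat_lit 1], unp 8 13 (nat_lit 0x1020304050102030605070302)]) : Goal E d c s :=
  (Fit.rej hS.fit h (w := [nat_lit 1, nat_lit 2, nat_lit 4, nat_lit 2, nat_lit 1]) (a := 0) (b := 0) (by decide +kernel)).elim
theorem n12 (h : Fit B (Nb E d) s e [unp 8 8 (nat_lit 0x100020103020403), [nat_lit 2, nat_lit 3, nat_lit 1, nat_lit 2, nat_lit 0, nat_lit 1], [nat_lit 1, nat_lit 5, nat_lit 2, nat_lit 1], [nat_lit 5, nat_lit 6, nat_lit 1, nat_lit 5, nat_lit 0, nat_lit 1], unp 8 13 (nat_lit 0x1020304050102030605070304)]) : Goal E d c s :=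
  (Fit.rej hS.fit h (w := [nat_lit 1, nat_lit 2, nat_lit 4, nat_lit 2, nat_lit 1]) (a := 0) (b := 0) (by decide +kernel)).elim
theorem n13 (h : Fit B (Nb E d) s e [unp 8 8 (nat_lit 0x100020103020403), [nat_lit 2, nat_lit 3, nat_lit 1, nat_lit 2, nat_lit 0, nat_lit 1], [nat_lit 1, nat_lit 5, nat_lit 2, nat_lit 1], [nat_lit 5, nat_lit 6, nat_lit 1, nat_lit 5, nat_lit 0, nat_lit 1], unp 8 13 (nat_lit 0x1020304050607030201000501)]) : Goal E d c s :=
  (Fit.rej hS.fit h (w := [nat_lit 1, nat_lit 2, nat_lit 4, nat_lit 2, nat_lit 1]) (a := 0) (b := 0) (by decide +kernel)).elim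
theorem n14 (h : Fit B (Nb E d) s e [unp 8 8 (nat_lit 0x100020103020403), [nat_lit 2, nat_lit 3, nat_lit 1, nat_lit 2, nat_lit 0, nat_lit 1], [nat_lit 1, nat_lit 5, nat_lit 2, nat_lit 1], [nat_lit 5, nat_lit 6, nat_lit 1, nat_lit 5, nat_lit 0, nat_lit 1], unp 8 13 (nat_lit 0x1020304070302010605070302)]) : Goal E d c s :=
  (Fit.rej hS.fit h (w := [nat_lit 1, nat_lit 2, nat_lit 4, nat_lit 2, nat_lit 1]) (a := 0) (b := 0) (by decide +kernel)).elim
theorem n15 (h : Fit B (Nb E d) s e [unp 8 8 (nat_lit 0x100020103020403), [nat_lit 2, nat_lit 3, nat_lit 1, nat_lit 2, nat_lit 0, nat_lit 1], [nat_lit 1, nat_lit 5, nat_lit 2, nat_lit 1], [nat_lit 5, nat_lit 6, nat_lit 1, nat_lit 5, nat_lit 0, nat_lit 1], unp 8 14 (nat_lit 0x102030405010203060507030206)]) : Goal E d c s :=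
  .inr (.inr (.inr (h.leaf hS q3 (w := []) (by decide +kernel))))
theorem n16 (h : Fit B (Nb E d) s e [unp 8 8 (nat_lit 0x100020103020403), [nat_lit 2, nat_lit 3, nat_lit 1, nat_lit 2, nat_lit 0, nat_lit 1], [nat_lit 1, nat_lit 5, nat_lit 2, nat_lit 1], [nat_lit 5, nat_lit 6, nat_lit 1, nat_lit 5, nat_lit 0, nat_lit 1], unp 8 14 (nat_lit 0x102030405010203060507030406)]) : Goal E d c s :=
  .inl (h.leaf hS q0 (w := unp 8 23 (nat_lit 0x105020100010205010304060105020100010205010302)) (by decide +kernel))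
theorem n17 (h : Fit B (Nb E d) s e [unp 8 8 (nat_lit 0x100020103020403), [nat_lit 2, nat_lit 3, nat_lit 1, nat_lit 2, nat_lit 0, nat_lit 1], [nat_lit 1, nat_lit 5, nat_lit 2, nat_lit 1], [nat_lit 5, nat_lit 6, nat_lit 1, nat_lit 5, nat_lit 0, nat_lit 1], unp 8 14 (nat_lit 0x102030405010203060507030607)]) : Goal E d c s :=
  (Fit.rej h hS.fit (w := [nat_lit 3, nat_lit 4, nat_lit 3]) (a := 2) (b := 2) (by decide +kernel)).elim
theorem n18 (h : Fit B (Nb E d) s e [unp 8 8 (nat_lit 0x100020103020403), [nat_lit 2, nat_lit 3, nat_lit 1, nat_lit 2, nat_lit 0, nat_lit 1], [nat_lit 1, nat_lit 5, nat_lit 2, nat_lit 1], [nat_lit 5, nat_lit 6, nat_lit 1, nat_lit 5, nat_lit 0, nat_lit 1], unp 8 14 (nat_lit 0x102030405010607030204030706)]) : Goal E d c s :=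
  (Fit.rej h hS.fit (w := [nat_lit 3, nat_lit 4, nat_lit 3]) (a := 2) (b := 2) (by decide +kernel)).elim
theorem n19 (h : Fit B (Nb E d) s e [unp 8 8 (nat_lit 0x100020103020403), [nat_lit 2, nat_lit 3, nat_lit 1, nat_lit 2, nat_lit 0, nat_lit 1], [nat_lit 1, nat_lit 5, nat_lit 2, nat_lit 1], [nat_lit 5, nat_lit 6, nat_lit 1, nat_lit 5, nat_lit 0, nat_lit 1], unp 8 14 (nat_lit 0x102030405060703020100050106)]) : Goal E d c s :=
  .inr (.inr (.inr (h.leaf hS q3 (w := []) (by decide +kernel))))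
theorem n20 (h : Fit B (Nb E d) s e [unp 8 8 (nat_lit 0x100020103020403), [nat_lit 2, nat_lit 3, nat_lit 1, nat_lit 2, nat_lit 0, nat_lit 1], [nat_lit 1, nat_lit 5, nat_lit 2, nat_lit 1], [nat_lit 5, nat_lit 6, nat_lit 1, nat_lit 5, nat_lit 0, nat_lit 1], unp 8 14 (nat_lit 0x102030407030201060507030206)]) : Goal E d c s :=
  .inl (h.leaf hS q0 (w := unp 8 23 (nat_lit 0x105020100010205010304060105020100010205010302)) (by decide +kernel))
theorem n21 (h : Fit B (Nb E d) s e [unp 8 8 (nat_lit 0x100020103020403), [nat_lit 2, nat_lit 3, nat_lit 1, nat_lit 2, nat_lit 0, nat_lit 1], [nat_lit 1, nat_lit 5, nat_lit 2, nat_lit 1], [nat_lit 5, nat_lit 6, nat_lit 1, nat_lit 5, nat_lit 0, nat_lit 1]]) : Goal E d c s := by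
  obtain ⟨u, hu, h⟩ := Fit.step hE hS.fit h (W := []) (r := 0) (R := [[nat_lit 7, nat_lit 3, nat_lit 1, nat_lit 2, nat_lit 0, nat_lit 1], [nat_lit 1, nat_lit 5, nat_lit 4, nat_lit 3, nat_lit 2, nat_lit 1], [nat_lit 2, nat_lit 1, nat_lit 5, nat_lit 3, nat_lit 2, nat_lit 1], [nat_lit 7, nat_lit 1, nat_lit 5, nat_lit 3, nat_lit 2, nat_lit 1], unp 8 7 (nat_lit 0x1000201030706), unp 8 7 (nat_lit 0x1020305010706), unp 8 8 (nat_lit 0x100020103020407), unp 8 8 (nat_lit 0x102030405010207), unp 8 9 (nat_lit 0x10002010302040706), unp 8 9 (nat_lit 0x10203040501020706), unp 8 13 (nat_lit 0x1020304050102030605070302), unp 8 13 (nat_lit 0x1020304050102030605070304), unp 8 13 (nat_lit 0x1020304050607030201000501), unp 8 13 (nat_lit 0x1020304070302010605070302), unp 8 14 (nat_lit 0x102030405010203060507030206), unp 8 14 (nat_lit 0x102030405010203060507030406), unp 8 14 (nat_lit 0x102030405010203060507030607), unp 8 14 (nat_lit 0x102030405010607030204030706),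 unp 8 14 (nat_lit 0x102030405060703020100050106), unp 8 14 (nat_lit 0x102030407030201060507030206)]) (by decide +kernel)
  simp only [List.mem_cons, List.not_mem_nil, or_false] at hu
  rcases hu with rfl | rfl | rfl | rfl | rfl | rfl | rfl | rfl | rfl | rfl | rfl | rfl | rfl | rfl | rfl | rfl | rfl | rfl | rfl | rfl
  exacts [n1 hE hS h, n2 hE hS h, n3 hE hS h, n4 hE hS h, n5 hE hS h, n6 hE hS h, n7 hE hS h, n8 hE hS h, n9 hE hS h, n10 hE hS h, n11 hE hS h, n12 hE hS h, n13 hE hS h, n14 hE hS h, n15 hE hS h, n16 hE hS h, n17 hE hS h, n18 hE hS h, n19 hE hS h, n20 hE hS h]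
theorem n22 (h : Fit B (Nb E d) s e [unp 8 8 (nat_lit 0x100020103020403), [nat_lit 2, nat_lit 3, nat_lit 1, nat_lit 2, nat_lit 0, nat_lit 1], [nat_lit 1, nat_lit 5, nat_lit 2, nat_lit 1]]) : Goal E d c s := by
  obtain ⟨u, hu, h⟩ := Fit.step hE hS.fit h (W := [[nat_lit 5], unp 8 17 (nat_lit 0x102030704030201000102030407030201), unp 8 21 (nat_lit 0x10203070504030200010001000203040507030201)]) (r := 1) (R := [[nat_lit 5, nat_lit 6, nat_lit 1, nat_lit 5, nat_lit 0, nat_lit 1]]) (by decide +kernel)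
  simp only [List.mem_cons, List.not_mem_nil, or_false] at hu
  rcases hu with rfl
  exacts [n21 hE hS h]
theorem n23 (h : Fit B (Nb E d) s e [unp 8 8 (nat_lit 0x100020103020403), [nat_lit 2, nat_lit 3, nat_lit 1, nat_lit 2, nat_lit 0, nat_lit 1], unp 8 8 (nat_lit 0x100020103020703), [nat_lit 5, nat_lit 6, nat_lit 1, nat_lit 5, nat_lit 0, nat_lit 1], [nat_lit 7, nat_lit 3, nat_lit 1, nat_lit 2, nat_lit 0, nat_lit 1]]) : Goal E d c s :=
  (Fit.rej h hS.fit (w := [nat_lit 3, nat_lit 4, nat_lit 3]) (a := 2) (b := 2) (by decide +kernel)).elim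
theorem n24 (h : Fit B (Nb E d) s e [unp 8 8 (nat_lit 0x100020103020403), [nat_lit 2, nat_lit 3, nat_lit 1, nat_lit 2, nat_lit 0, nat_lit 1], unp 8 8 (nat_lit 0x100020103020703), [nat_lit 5, nat_lit 6, nat_lit 1, nat_lit 5, nat_lit 0, nat_lit 1], [nat_lit 1, nat_lit 5, nat_lit 4, nat_lit 3, nat_lit 2, nat_lit 1]]) : Goal E d c s :=
  .inr (.inr (.inl (h.leaf hS q2 (w := []) (by decide +kernel))))
theorem n25 (h : Fit B (Nb E d) s e [unp 8 8 (nat_lit 0x100020103020403), [nat_lit 2, nat_lit 3, nat_lit 1, nat_lit 2, nat_lit 0, nat_lit 1], unp 8 8 (nat_lit 0x100020103020703), [nat_lit 5, nat_lit 6, nat_lit 1, nat_lit 5, nat_lit 0, nat_lit 1], [nat_lit 2, nat_lit 1, nat_lit 5, nat_lit 3, nat_lit 2, nat_lit 1]]) : Goal E d c s :=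
  .inl (h.leaf hS q0 (w := []) (by decide +kernel))
theorem n26 (h : Fit B (Nb E d) s e [unp 8 8 (nat_lit 0x100020103020403), [nat_lit 2, nat_lit 3, nat_lit 1, nat_lit 2, nat_lit 0, nat_lit 1], unp 8 8 (nat_lit 0x100020103020703), [nat_lit 5, nat_lit 6, nat_lit 1, nat_lit 5, nat_lit 0, nat_lit 1], [nat_lit 7, nat_lit 1, nat_lit 5, nat_lit 3, nat_lit 2, nat_lit 1]]) : Goal E d c s :=
  .inr (.inr (.inl (h.leaf hS q2 (w := []) (by decide +kernel))))
theorem n27 (h : Fit B (Nb E d) s e [unp 8 8 (nat_lit 0x100020103020403), [nat_lit 2, nat_lit 3, nat_lit 1, nat_lit 2, nat_lit 0, nat_lit 1], unp 8 8 (nat_lit 0x100020103020703), [nat_lit 5, nat_lit 6, nat_lit 1, nat_lit 5, nat_lit 0, nat_lit 1], unp 8 7 (nat_lit 0x1020304050106)]) : Goal E d c s :=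
  (Fit.rej hS.fit h (w := [nat_lit 1, nat_lit 2, nat_lit 4, nat_lit 2, nat_lit 1]) (a := 0) (b := 0) (by decide +kernel)).elim
theorem n28 (h : Fit B (Nb E d) s e [unp 8 8 (nat_lit 0x100020103020403), [nat_lit 2, nat_lit 3, nat_lit 1, nat_lit 2, nat_lit 0, nat_lit 1], unp 8 8 (nat_lit 0x100020103020703), [nat_lit 5, nat_lit 6, nat_lit 1, nat_lit 5, nat_lit 0, nat_lit 1], unp 8 7 (nat_lit 0x1020305010206)]) : Goal E d c s :=
  (Fit.rej hS.fit h (w := [nat_lit 1, nat_lit 2, nat_lit 4, nat_lit 2, nat_lit 1]) (a := 0) (b := 0) (by decide +kernel)).elim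
theorem n29 (h : Fit B (Nb E d) s e [unp 8 8 (nat_lit 0x100020103020403), [nat_lit 2, nat_lit 3, nat_lit 1, nat_lit 2, nat_lit 0, nat_lit 1], unp 8 8 (nat_lit 0x100020103020703), [nat_lit 5, nat_lit 6, nat_lit 1, nat_lit 5, nat_lit 0, nat_lit 1], unp 8 7 (nat_lit 0x1020305010706)]) : Goal E d c s :=
  (Fit.rej hS.fit h (w := [nat_lit 1, nat_lit 2, nat_lit 4, nat_lit 2, nat_lit 1]) (a := 0) (b := 0) (by decide +kernel)).elim
theorem n30 (h : Fit B (Nb E d) s e [unp 8 8 (nat_lit 0x100020103020403), [nat_lit 2, nat_lit 3, nat_lit 1, nat_lit 2, nat_lit 0, nat_lit 1], unp 8 8 (nat_lit 0x100020103020703), [nat_lit 5, nat_lit 6, nat_lit 1, nat_lit 5, nat_lit 0, nat_lit 1], unp 8 8 (nat_lit 0x100020103020407)]) : Goal E d c s :=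
  (Fit.rej h hS.fit (w := [nat_lit 4, nat_lit 2]) (a := 1) (b := 0) (by decide +kernel)).elim
theorem n31 (h : Fit B (Nb E d) s e [unp 8 8 (nat_lit 0x100020103020403), [nat_lit 2, nat_lit 3, nat_lit 1, nat_lit 2, nat_lit 0, nat_lit 1], unp 8 8 (nat_lit 0x100020103020703), [nat_lit 5, nat_lit 6, nat_lit 1, nat_lit 5, nat_lit 0, nat_lit 1], unp 8 8 (nat_lit 0x102030405010207)]) : Goal E d c s :=
  .inl (h.leaf hS q0 (w := []) (by decide +kernel))
theorem n32 (h : Fit B (Nb E d) s e [unp 8 8 (nat_lit 0x100020103020403), [nat_lit 2, nat_lit 3, nat_lit 1, nat_lit 2, nat_lit 0, nat_lit 1], unp 8 8 (nat_lit 0x100020103020703), [nat_lit 5, nat_lit 6, nat_lit 1, nat_lit 5, nat_lit 0, nat_lit 1], unp 8 9 (nat_lit 0x10203040501020706)]) : Goal E d c s :=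
  (Fit.rej hS.fit h (w := [nat_lit 1, nat_lit 2, nat_lit 4, nat_lit 2, nat_lit 1]) (a := 0) (b := 0) (by decide +kernel)).elim
theorem n33 (h : Fit B (Nb E d) s e [unp 8 8 (nat_lit 0x100020103020403), [nat_lit 2, nat_lit 3, nat_lit 1, nat_lit 2, nat_lit 0, nat_lit 1], unp 8 8 (nat_lit 0x100020103020703), [nat_lit 5, nat_lit 6, nat_lit 1, nat_lit 5, nat_lit 0, nat_lit 1], unp 8 13 (nat_lit 0x1020304050102030605070302)]) : Goal E d c s :=
  (Fit.rej hS.fit h (w := [nat_lit 1, nat_lit 2, nat_lit 4, nat_lit 2, nat_lit 1]) (a := 0) (b := 0) (by decide +kernel)).elim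
theorem n34 (h : Fit B (Nb E d) s e [unp 8 8 (nat_lit 0x100020103020403), [nat_lit 2, nat_lit 3, nat_lit 1, nat_lit 2, nat_lit 0, nat_lit 1], unp 8 8 (nat_lit 0x100020103020703), [nat_lit 5, nat_lit 6, nat_lit 1, nat_lit 5, nat_lit 0, nat_lit 1], unp 8 13 (nat_lit 0x1020304050102030605070304)]) : Goal E d c s :=
  (Fit.rej hS.fit h (w := [nat_lit 1, nat_lit 2, nat_lit 4, nat_lit 2, nat_lit 1]) (a := 0) (b := 0) (by decide +kernel)).elim
theorem n35 (h : Fit B (Nb E d) s e [unp 8 8 (nat_lit 0x100020103020403), [nat_lit 2, nat_lit 3, nat_lit 1, nat_lit 2, nat_lit 0, nat_lit 1], unp 8 8 (nat_lit 0x100020103020703), [nat_lit 5, nat_lit 6, nat_lit 1, nat_lit 5, nat_lit 0, nat_lit 1], unp 8 13 (nat_lit 0x1020304050102060507030607)]) : Goal E d c s :=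
  (Fit.rej hS.fit h (w := [nat_lit 1, nat_lit 2, nat_lit 4, nat_lit 2, nat_lit 1]) (a := 0) (b := 0) (by decide +kernel)).elim
theorem n36 (h : Fit B (Nb E d) s e [unp 8 8 (nat_lit 0x100020103020403), [nat_lit 2, nat_lit 3, nat_lit 1, nat_lit 2, nat_lit 0, nat_lit 1], unp 8 8 (nat_lit 0x100020103020703), [nat_lit 5, nat_lit 6, nat_lit 1, nat_lit 5, nat_lit 0, nat_lit 1], unp 8 13 (nat_lit 0x1020304050106070302040307)]) : Goal E d c s :=
  (Fit.rej hS.fit h (w := [nat_lit 1, nat_lit 2, nat_lit 4, nat_lit 2, nat_lit 1]) (a := 0) (b := 0) (by decide +kernel)).elim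
theorem n37 (h : Fit B (Nb E d) s e [unp 8 8 (nat_lit 0x100020103020403), [nat_lit 2, nat_lit 3, nat_lit 1, nat_lit 2, nat_lit 0, nat_lit 1], unp 8 8 (nat_lit 0x100020103020703), [nat_lit 5, nat_lit 6, nat_lit 1, nat_lit 5, nat_lit 0, nat_lit 1], unp 8 14 (nat_lit 0x102030405010203060507030206)]) : Goal E d c s :=
  .inr (.inl (h.leaf hS q1 (w := unp 8 7 (nat_lit 0x7030406070302)) (by decide +kernel)))
theorem n38 (h : Fit B (Nb E d) s e [unp 8 8 (nat_lit 0x100020103020403), [nat_lit 2, nat_lit 3, nat_lit 1, nat_lit 2, nat_lit 0, nat_lit 1], unp 8 8 (nat_lit 0x100020103020703), [nat_lit 5, nat_lit 6, nat_lit 1, nat_lit 5, nat_lit 0, nat_lit 1], unp 8 14 (nat_lit 0x102030405010203060507030406)]) : Goal E d c s :=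
  .inr (.inr (.inr (h.leaf hS q3 (w := unp 8 12 (nat_lit 0x20706010502010001020501)) (by decide +kernel))))
theorem n39 (h : Fit B (Nb E d) s e [unp 8 8 (nat_lit 0x100020103020403), [nat_lit 2, nat_lit 3, nat_lit 1, nat_lit 2, nat_lit 0, nat_lit 1], unp 8 8 (nat_lit 0x100020103020703), [nat_lit 5, nat_lit 6, nat_lit 1, nat_lit 5, nat_lit 0, nat_lit 1], unp 8 14 (nat_lit 0x102030405010203060507030607)]) : Goal E d c s :=
  .inr (.inr (.inr (h.leaf hS q3 (w := unp 8 12 (nat_lit 0x20706010502010001020501)) (by decide +kernel))))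
theorem n40 (h : Fit B (Nb E d) s e [unp 8 8 (nat_lit 0x100020103020403), [nat_lit 2, nat_lit 3, nat_lit 1, nat_lit 2, nat_lit 0, nat_lit 1], unp 8 8 (nat_lit 0x100020103020703), [nat_lit 5, nat_lit 6, nat_lit 1, nat_lit 5, nat_lit 0, nat_lit 1], unp 8 14 (nat_lit 0x102030405010607030204030706)]) : Goal E d c s :=
  .inr (.inl (h.leaf hS q1 (w := unp 8 7 (nat_lit 0x7030406070302)) (by decide +kernel)))
theorem n41 (h : Fit B (Nb E d) s e [unp 8 8 (nat_lit 0x100020103020403), [nat_lit 2, nat_lit 3, nat_lit 1, nat_lit 2, nat_lit 0, nat_lit 1], unp 8 8 (nat_lit 0x100020103020703), [nat_lit 5, nat_lit 6, nat_lit 1, nat_lit 5, nat_lit 0, nat_lit 1], unp 8 14 (nat_lit 0x102030405060703020100050106)]) : Goal E d c s :=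
  (Fit.rej h hS.fit (w := [nat_lit 3, nat_lit 4, nat_lit 3]) (a := 2) (b := 2) (by decide +kernel)).elim
theorem n42 (h : Fit B (Nb E d) s e [unp 8 8 (nat_lit 0x100020103020403), [nat_lit 2, nat_lit 3, nat_lit 1, nat_lit 2, nat_lit 0, nat_lit 1], unp 8 8 (nat_lit 0x100020103020703), [nat_lit 5, nat_lit 6, nat_lit 1, nat_lit 5, nat_lit 0, nat_lit 1], unp 8 14 (nat_lit 0x102030407030201060507030206)]) : Goal E d c s :=
  (Fit.rej h hS.fit (w := [nat_lit 3, nat_lit 4, nat_lit 3]) (a := 2) (b := 2) (by decide +kernel)).elim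
theorem n43 (h : Fit B (Nb E d) s e [unp 8 8 (nat_lit 0x100020103020403), [nat_lit 2, nat_lit 3, nat_lit 1, nat_lit 2, nat_lit 0, nat_lit 1], unp 8 8 (nat_lit 0x100020103020703), [nat_lit 5, nat_lit 6, nat_lit 1, nat_lit 5, nat_lit 0, nat_lit 1]]) : Goal E d c s := by
  obtain ⟨u, hu, h⟩ := Fit.step hE hS.fit h (W := []) (r := 0) (R := [[nat_lit 7, nat_lit 3, nat_lit 1, nat_lit 2, nat_lit 0, nat_lit 1], [nat_lit 1, nat_lit 5, nat_lit 4, nat_lit 3, nat_lit 2, nat_lit 1], [nat_lit 2, nat_lit 1, nat_lit 5, nat_lit 3, nat_lit 2, nat_lit 1], [nat_lit 7, nat_lit 1, nat_lit 5, nat_lit 3, nat_lit 2, nat_lit 1], unp 8 7 (nat_lit 0x1020304050106), unp 8 7 (nat_lit 0x1020305010206), unp 8 7 (nat_lit 0x1020305010706), unp 8 8 (nat_lit 0x100020103020407), unp 8 8 (nat_lit 0x102030405010207), unp 8 9 (nat_lit 0x10203040501020706), unp 8 13 (nat_lit 0x1020304050102030605070302), unp 8 13 (nat_lit 0x1020304050102030605070304), unp 8 13 (nat_lit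 0x1020304050102060507030607), unp 8 13 (nat_lit 0x1020304050106070302040307), unp 8 14 (nat_lit 0x102030405010203060507030206), unp 8 14 (nat_lit 0x102030405010203060507030406), unp 8 14 (nat_lit 0x102030405010203060507030607), unp 8 14 (nat_lit 0x102030405010607030204030706), unp 8 14 (nat_lit 0x102030405060703020100050106), unp 8 14 (nat_lit 0x102030407030201060507030206)]) (by decide +kernel)
  simp only [List.mem_cons, List.not_mem_nil, or_false] at hu
  rcases hu with rfl | rfl | rfl | rfl | rfl | rfl | rfl | rfl | rfl | rfl | rfl | rfl | rfl | rfl | rfl | rfl | rfl | rfl | rfl | rfl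
  exacts [n23 hE hS h, n24 hE hS h, n25 hE hS h, n26 hE hS h, n27 hE hS h, n28 hE hS h, n29 hE hS h, n30 hE hS h, n31 hE hS h, n32 hE hS h, n33 hE hS h, n34 hE hS h, n35 hE hS h, n36 hE hS h, n37 hE hS h, n38 hE hS h, n39 hE hS h, n40 hE hS h, n41 hE hS h, n42 hE hS h]
theorem n44 (h : Fit B (Nb E d) s e [unp 8 8 (nat_lit 0x100020103020403), [nat_lit 2, nat_lit 3, nat_lit 1, nat_lit 2, nat_lit 0, nat_lit 1], unp 8 8 (nat_lit 0x100020103020703)]) : Goal E d c s := by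
  obtain ⟨u, hu, h⟩ := Fit.step hE hS.fit h (W := [[nat_lit 5], unp 8 17 (nat_lit 0x102030704030201000102030407030201), unp 8 21 (nat_lit 0x10203070504030200010001000203040507030201)]) (r := 1) (R := [[nat_lit 5, nat_lit 6, nat_lit 1, nat_lit 5, nat_lit 0, nat_lit 1]]) (by decide +kernel)
  simp only [List.mem_cons, List.not_mem_nil, or_false] at hu
  rcases hu with rfl
  exacts [n43 hE hS h]
theorem n45 (h : Fit B (Nb E d) s e [unp 8 8 (nat_lit 0x100020103020403), [nat_lit 2, nat_lit 3, nat_lit 1, nat_lit 2, nat_lit 0, nat_lit 1], [nat_lit 7, nat_lit 6, nat_lit 1, nat_lit 5, nat_lit 2, nat_lit 1], [nat_lit 1, nat_lit 5, nat_lit 0, nat_lit 1], unp 8 7 (nat_lit 0x1000201030706)]) : Goal E d c s :=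
  (Fit.rej hS.fit h (w := [nat_lit 1, nat_lit 2, nat_lit 4, nat_lit 2, nat_lit 1]) (a := 0) (b := 0) (by decide +kernel)).elim
theorem n46 (h : Fit B (Nb E d) s e [unp 8 8 (nat_lit 0x100020103020403), [nat_lit 2, nat_lit 3, nat_lit 1, nat_lit 2, nat_lit 0, nat_lit 1], [nat_lit 7, nat_lit 6, nat_lit 1, nat_lit 5, nat_lit 2, nat_lit 1], [nat_lit 1, nat_lit 5, nat_lit 0, nat_lit 1], unp 8 7 (nat_lit 0x1020304050106)]) : Goal E d c s :=
  (Fit.rej hS.fit h (w := [nat_lit 1, nat_lit 2, nat_lit 4, nat_lit 2, nat_lit 1]) (a := 0) (b := 0) (by decide +kernel)).elim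
theorem n47 (h : Fit B (Nb E d) s e [unp 8 8 (nat_lit 0x100020103020403), [nat_lit 2, nat_lit 3, nat_lit 1, nat_lit 2, nat_lit 0, nat_lit 1], [nat_lit 7, nat_lit 6, nat_lit 1, nat_lit 5, nat_lit 2, nat_lit 1], [nat_lit 1, nat_lit 5, nat_lit 0, nat_lit 1], unp 8 7 (nat_lit 0x1020305010206)]) : Goal E d c s :=
  (Fit.rej hS.fit h (w := [nat_lit 1, nat_lit 2, nat_lit 4, nat_lit 2, nat_lit 1]) (a := 0) (b := 0) (by decide +kernel)).elim
theorem n48 (h : Fit B (Nb E d) s e [unp 8 8 (nat_lit 0x100020103020403), [nat_lit 2, nat_lit 3, nat_lit 1, nat_lit 2, nat_lit 0, nat_lit 1], [nat_lit 7, nat_lit 6, nat_lit 1, nat_lit 5, nat_lit 2, nat_lit 1], [nat_lit 1, nat_lit 5, nat_lit 0, nat_lit 1], unp 8 8 (nat_lit 0x100020103070605)]) : Goal E d c s :=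
  .inr (.inl (h.leaf hS q1 (w := [nat_lit 6, nat_lit 5]) (by decide +kernel)))
theorem n49 (h : Fit B (Nb E d) s e [unp 8 8 (nat_lit 0x100020103020403), [nat_lit 2, nat_lit 3, nat_lit 1, nat_lit 2, nat_lit 0, nat_lit 1], [nat_lit 7, nat_lit 6, nat_lit 1, nat_lit 5, nat_lit 2, nat_lit 1], [nat_lit 1, nat_lit 5, nat_lit 0, nat_lit 1], unp 8 8 (nat_lit 0x100050106070304)]) : Goal E d c s :=
  .inl (h.leaf hS q0 (w := [nat_lit 6, nat_lit 5]) (by decide +kernel))
theorem n50 (h : Fit B (Nb E d) s e [unp 8 8 (nat_lit 0x100020103020403), [nat_lit 2, nat_lit 3, nat_lit 1, nat_lit 2, nat_lit 0, nat_lit 1], [nat_lit 7, nat_lit 6, nat_lit 1, nat_lit 5, nat_lit 2, nat_lit 1], [nat_lit 1, nat_lit 5, nat_lit 0, nat_lit 1], unp 8 8 (nat_lit 0x102030405010605)]) : Goal E d c s :=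
  .inr (.inl (h.leaf hS q1 (w := [nat_lit 6, nat_lit 5]) (by decide +kernel)))
theorem n51 (h : Fit B (Nb E d) s e [unp 8 8 (nat_lit 0x100020103020403), [nat_lit 2, nat_lit 3, nat_lit 1, nat_lit 2, nat_lit 0, nat_lit 1], [nat_lit 7, nat_lit 6, nat_lit 1, nat_lit 5, nat_lit 2, nat_lit 1], [nat_lit 1, nat_lit 5, nat_lit 0, nat_lit 1], unp 8 8 (nat_lit 0x102030501020605)]) : Goal E d c s :=
  .inl (h.leaf hS q0 (w := [nat_lit 6, nat_lit 5]) (by decide +kernel))
theorem n52 (h : Fit B (Nb E d) s e [unp 8 8 (nat_lit 0x100020103020403), [nat_lit 2, nat_lit 3, nat_lit 1, nat_lit 2, nat_lit 0, nat_lit 1], [nat_lit 7, nat_lit 6, nat_lit 1, nat_lit 5, nat_lit 2, nat_lit 1], [nat_lit 1, nat_lit 5, nat_lit 0, nat_lit 1], unp 8 8 (nat_lit 0x102030501070605)]) : Goal E d c s :=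
  (Fit.rej h hS.fit (w := [nat_lit 3, nat_lit 4, nat_lit 3]) (a := 2) (b := 2) (by decide +kernel)).elim
theorem n53 (h : Fit B (Nb E d) s e [unp 8 8 (nat_lit 0x100020103020403), [nat_lit 2, nat_lit 3, nat_lit 1, nat_lit 2, nat_lit 0, nat_lit 1], [nat_lit 7, nat_lit 6, nat_lit 1, nat_lit 5, nat_lit 2, nat_lit 1], [nat_lit 1, nat_lit 5, nat_lit 0, nat_lit 1], unp 8 8 (nat_lit 0x102050106070304)]) : Goal E d c s :=
  (Fit.rej h hS.fit (w := [nat_lit 4, nat_lit 2]) (a := 1) (b := 0) (by decide +kernel)).elim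
theorem n54 (h : Fit B (Nb E d) s e [unp 8 8 (nat_lit 0x100020103020403), [nat_lit 2, nat_lit 3, nat_lit 1, nat_lit 2, nat_lit 0, nat_lit 1], [nat_lit 7, nat_lit 6, nat_lit 1, nat_lit 5, nat_lit 2, nat_lit 1], [nat_lit 1, nat_lit 5, nat_lit 0, nat_lit 1], unp 8 9 (nat_lit 0x10002010302040706)]) : Goal E d c s :=
  (Fit.rej hS.fit h (w := [nat_lit 1, nat_lit 2, nat_lit 4, nat_lit 2, nat_lit 1]) (a := 0) (b := 0) (by decide +kernel)).elim
theorem n55 (h : Fit B (Nb E d) s e [unp 8 8 (nat_lit 0x100020103020403), [nat_lit 2, nat_lit 3, nat_lit 1, nat_lit 2, nat_lit 0, nat_lit 1], [nat_lit 7, nat_lit 6, nat_lit 1, nat_lit 5, nat_lit 2, nat_lit 1], [nat_lit 1, nat_lit 5, nat_lit 0, nat_lit 1], unp 8 12 (nat_lit 0x10203040501020306070302)]) : Goal E d c s :=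
  (Fit.rej h hS.fit (w := [nat_lit 3, nat_lit 4, nat_lit 3]) (a := 2) (b := 2) (by decide +kernel)).elim
theorem n56 (h : Fit B (Nb E d) s e [unp 8 8 (nat_lit 0x100020103020403), [nat_lit 2, nat_lit 3, nat_lit 1, nat_lit 2, nat_lit 0, nat_lit 1], [nat_lit 7, nat_lit 6, nat_lit 1, nat_lit 5, nat_lit 2, nat_lit 1], [nat_lit 1, nat_lit 5, nat_lit 0, nat_lit 1], unp 8 12 (nat_lit 0x10203040501020306070304)]) : Goal E d c s :=
  (Fit.rej h hS.fit (w := [nat_lit 3, nat_lit 4, nat_lit 3]) (a := 2) (b := 2) (by decide +kernel)).elim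
theorem n57 (h : Fit B (Nb E d) s e [unp 8 8 (nat_lit 0x100020103020403), [nat_lit 2, nat_lit 3, nat_lit 1, nat_lit 2, nat_lit 0, nat_lit 1], [nat_lit 7, nat_lit 6, nat_lit 1, nat_lit 5, nat_lit 2, nat_lit 1], [nat_lit 1, nat_lit 5, nat_lit 0, nat_lit 1], unp 8 12 (nat_lit 0x10203040501060703020607)]) : Goal E d c s :=
  .inr (.inr (.inr (h.leaf hS q3 (w := [nat_lit 7, nat_lit 6, nat_lit 5, nat_lit 2]) (by decide +kernel))))
theorem n58 (h : Fit B (Nb E d) s e [unp 8 8 (nat_lit 0x100020103020403), [nat_lit 2, nat_lit 3, nat_lit 1, nat_lit 2, nat_lit 0, nat_lit 1], [nat_lit 7, nat_lit 6, nat_lit 1, nat_lit 5, nat_lit 2, nat_lit 1], [nat_lit 1, nat_lit 5, nat_lit 0, nat_lit 1], unp 8 12 (nat_lit 0x10203040501060703040607)]) : Goal E d c s :=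
  .inr (.inr (.inl (h.leaf hS q2 (w := unp 8 17 (nat_lit 0x203040506070105020100010205010302)) (by decide +kernel))))
theorem n59 (h : Fit B (Nb E d) s e [unp 8 8 (nat_lit 0x100020103020403), [nat_lit 2, nat_lit 3, nat_lit 1, nat_lit 2, nat_lit 0, nat_lit 1], [nat_lit 7, nat_lit 6, nat_lit 1, nat_lit 5, nat_lit 2, nat_lit 1], [nat_lit 1, nat_lit 5, nat_lit 0, nat_lit 1], unp 8 12 (nat_lit 0x10203040703020106070302)]) : Goal E d c s :=
  .inr (.inr (.inr (h.leaf hS q3 (w := [nat_lit 7, nat_lit 6, nat_lit 5, nat_lit 2]) (by decide +kernel))))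
theorem n60 (h : Fit B (Nb E d) s e [unp 8 8 (nat_lit 0x100020103020403), [nat_lit 2, nat_lit 3, nat_lit 1, nat_lit 2, nat_lit 0, nat_lit 1], [nat_lit 7, nat_lit 6, nat_lit 1, nat_lit 5, nat_lit 2, nat_lit 1], [nat_lit 1, nat_lit 5, nat_lit 0, nat_lit 1], unp 8 12 (nat_lit 0x10203040703020106070304)]) : Goal E d c s :=
  .inr (.inr (.inl (h.leaf hS q2 (w := unp 8 17 (nat_lit 0x203040506070105020100010205010302)) (by decide +kernel))))
theorem n61 (h : Fit B (Nb E d) s e [unp 8 8 (nat_lit 0x100020103020403), [nat_lit 2, nat_lit 3, nat_lit 1, nat_lit 2, nat_lit 0, nat_lit 1], [nat_lit 7, nat_lit 6, nat_lit 1, nat_lit 5, nat_lit 2, nat_lit 1], [nat_lit 1, nat_lit 5, nat_lit 0, nat_lit 1], unp 8 13 (nat_lit 0x1020304050102060507030607)]) : Goal E d c s :=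
  (Fit.rej hS.fit h (w := [nat_lit 1, nat_lit 2, nat_lit 4, nat_lit 2, nat_lit 1]) (a := 0) (b := 0) (by decide +kernel)).elim
theorem n62 (h : Fit B (Nb E d) s e [unp 8 8 (nat_lit 0x100020103020403), [nat_lit 2, nat_lit 3, nat_lit 1, nat_lit 2, nat_lit 0, nat_lit 1], [nat_lit 7, nat_lit 6, nat_lit 1, nat_lit 5, nat_lit 2, nat_lit 1], [nat_lit 1, nat_lit 5, nat_lit 0, nat_lit 1], unp 8 13 (nat_lit 0x1020304050106070302040307)]) : Goal E d c s :=
  (Fit.rej hS.fit h (w := [nat_lit 1, nat_lit 2, nat_lit 4, nat_lit 2, nat_lit 1]) (a := 0) (b := 0) (by decide +kernel)).elim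
theorem n63 (h : Fit B (Nb E d) s e [unp 8 8 (nat_lit 0x100020103020403), [nat_lit 2, nat_lit 3, nat_lit 1, nat_lit 2, nat_lit 0, nat_lit 1], [nat_lit 7, nat_lit 6, nat_lit 1, nat_lit 5, nat_lit 2, nat_lit 1], [nat_lit 1, nat_lit 5, nat_lit 0, nat_lit 1], unp 8 13 (nat_lit 0x1020304050607030201000501)]) : Goal E d c s :=
  (Fit.rej hS.fit h (w := [nat_lit 1, nat_lit 2, nat_lit 4, nat_lit 2, nat_lit 1]) (a := 0) (b := 0) (by decide +kernel)).elim
theorem n64 (h : Fit B (Nb E d) s e [unp 8 8 (nat_lit 0x100020103020403), [nat_lit 2, nat_lit 3, nat_lit 1, nat_lit 2, nat_lit 0, nat_lit 1], [nat_lit 7, nat_lit 6, nat_lit 1, nat_lit 5, nat_lit 2, nat_lit 1], [nat_lit 1, nat_lit 5, nat_lit 0, nat_lit 1], unp 8 13 (nat_lit 0x1020304070302010605070302)]) : Goal E d c s :=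
  (Fit.rej hS.fit h (w := [nat_lit 1, nat_lit 2, nat_lit 4, nat_lit 2, nat_lit 1]) (a := 0) (b := 0) (by decide +kernel)).elim
theorem n65 (h : Fit B (Nb E d) s e [unp 8 8 (nat_lit 0x100020103020403), [nat_lit 2, nat_lit 3, nat_lit 1, nat_lit 2, nat_lit 0, nat_lit 1], [nat_lit 7, nat_lit 6, nat_lit 1, nat_lit 5, nat_lit 2, nat_lit 1], [nat_lit 1, nat_lit 5, nat_lit 0, nat_lit 1]]) : Goal E d c s := by
  obtain ⟨u, hu, h⟩ := Fit.step hE hS.fit h (W := []) (r := 0) (R := [unp 8 7 (nat_lit 0x1000201030706), unp 8 7 (nat_lit 0x1020304050106), unp 8 7 (nat_lit 0x1020305010206), unp 8 8 (nat_lit 0x100020103070605), unp 8 8 (nat_lit 0x100050106070304), unp 8 8 (nat_lit 0x102030405010605), unp 8 8 (nat_lit 0x102030501020605), unp 8 8 (nat_lit 0x102030501070605), unp 8 8 (nat_lit 0x102050106070304), unp 8 9 (nat_lit 0x10002010302040706), unp 8 12 (nat_lit 0x10203040501020306070302), unp 8 12 (nat_lit 0x10203040501020306070304), unp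 8 12 (nat_lit 0x10203040501060703020607), unp 8 12 (nat_lit 0x10203040501060703040607), unp 8 12 (nat_lit 0x10203040703020106070302), unp 8 12 (nat_lit 0x10203040703020106070304), unp 8 13 (nat_lit 0x1020304050102060507030607), unp 8 13 (nat_lit 0x1020304050106070302040307), unp 8 13 (nat_lit 0x1020304050607030201000501), unp 8 13 (nat_lit 0x1020304070302010605070302)]) (by decide +kernel)
  simp only [List.mem_cons, List.not_mem_nil, or_false] at hu
  rcases hu with rfl | rfl | rfl | rfl | rfl | rfl | rfl | rfl | rfl | rfl | rfl | rfl | rfl | rfl | rfl | rfl | rfl | rfl | rfl | rfl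
  exacts [n45 hE hS h, n46 hE hS h, n47 hE hS h, n48 hE hS h, n49 hE hS h, n50 hE hS h, n51 hE hS h, n52 hE hS h, n53 hE hS h, n54 hE hS h, n55 hE hS h, n56 hE hS h, n57 hE hS h, n58 hE hS h, n59 hE hS h, n60 hE hS h, n61 hE hS h, n62 hE hS h, n63 hE hS h, n64 hE hS h]
theorem n66 (h : Fit B (Nb E d) s e [unp 8 8 (nat_lit 0x100020103020403), [nat_lit 2, nat_lit 3, nat_lit 1, nat_lit 2, nat_lit 0, nat_lit 1], [nat_lit 7, nat_lit 6, nat_lit 1, nat_lit 5, nat_lit 2, nat_lit 1]]) : Goal E d c s := by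
  obtain ⟨u, hu, h⟩ := Fit.step hE hS.fit h (W := [[nat_lit 6], unp 8 21 (nat_lit 0x70603070403010200010001000201030407030607), unp 8 21 (nat_lit 0x50601020307040302010001020304070302010605)]) (r := 1) (R := [[nat_lit 1, nat_lit 5, nat_lit 0, nat_lit 1]]) (by decide +kernel)
  simp only [List.mem_cons, List.not_mem_nil, or_false] at hu
  rcases hu with rfl
  exacts [n65 hE hS h]
theorem n67 (h : Fit B (Nb E d) s e [unp 8 8 (nat_lit 0x100020103020403), [nat_lit 2, nat_lit 3, nat_lit 1, nat_lit 2, nat_lit 0, nat_lit 1], unp 8 16 (nat_lit 0x1020304050102030605010007060501)]) : Goal E d c s := by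
  obtain ⟨u, hu, h⟩ := Fit.step hE hS.fit h (W := []) (r := 0) (R := []) (by decide +kernel)
  exact absurd hu List.not_mem_nil
theorem n68 (h : Fit B (Nb E d) s e [unp 8 8 (nat_lit 0x100020103020403), [nat_lit 2, nat_lit 3, nat_lit 1, nat_lit 2, nat_lit 0, nat_lit 1], unp 8 16 (nat_lit 0x1020304050102030605010207060501)]) : Goal E d c s := by
  obtain ⟨u, hu, h⟩ := Fit.step hE hS.fit h (W := []) (r := 0) (R := []) (by decide +kernel)
  exact absurd hu List.not_mem_nil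
theorem n69 (h : Fit B (Nb E d) s e [unp 8 8 (nat_lit 0x100020103020403), [nat_lit 2, nat_lit 3, nat_lit 1, nat_lit 2, nat_lit 0, nat_lit 1]]) : Goal E d c s := by
  obtain ⟨u, hu, h⟩ := Fit.step hE hS.fit h (W := [[nat_lit 5], [nat_lit 6], unp 8 17 (nat_lit 0x102030704030201000102030407030201), unp 8 21 (nat_lit 0x70603070403010200010001000201030407030607)]) (r := 2) (R := [[nat_lit 1, nat_lit 2, nat_lit 0, nat_lit 1], [nat_lit 1, nat_lit 5, nat_lit 2, nat_lit 1], unp 8 8 (nat_lit 0x100020103020703), [nat_lit 7, nat_lit 6, nat_lit 1, nat_lit 5, nat_lit 2, nat_lit 1], unp 8 16 (nat_lit 0x1020304050102030605010007060501), unp 8 16 (nat_lit 0x1020304050102030605010207060501)]) (by decide +kernel)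
  simp only [List.mem_cons, List.not_mem_nil, or_false] at hu
  rcases hu with rfl | rfl | rfl | rfl | rfl | rfl
  exacts [n0 hE hS h, n22 hE hS h, n44 hE hS h, n66 hE hS h, n67 hE hS h, n68 hE hS h]
theorem n70 (h : Fit B (Nb E d) s e [unp 8 8 (nat_lit 0x100020103020403)]) : Goal E d c s := by
  obtain ⟨u, hu, h⟩ := Fit.step hE hS.fit h (W := [[nat_lit 2], [nat_lit 4], [nat_lit 5], [nat_lit 6], [nat_lit 7], unp 8 9 (nat_lit 0x10502010001020501), unp 8 17 (nat_lit 0x307010504030201000102030405010703)]) (r := 3) (R := [[nat_lit 2, nat_lit 3, nat_lit 1, nat_lit 2, nat_lit 0, nat_lit 1]]) (by decide +kernel)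
  simp only [List.mem_cons, List.not_mem_nil, or_false] at hu
  rcases hu with rfl
  exacts [n69 hE hS h]
theorem n71 (h : Fit B (Nb E d) s e []) : Goal E d c s := by
  obtain ⟨u, hu, h⟩ := Fit.step hE hS.fit h (W := [[nat_lit 2], [nat_lit 3], [nat_lit 4], [nat_lit 5], [nat_lit 6], [nat_lit 7], unp 8 9 (nat_lit 0x10502010001020501)]) (r := 4) (R := [unp 8 8 (nat_lit 0x100020103020403)]) (by decide +kernel)
  simp only [List.mem_cons, List.not_mem_nil, or_false] at hu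
  rcases hu with rfl
  exacts [n70 hE hS h]
end

theorem conf {k : ℕ} (hE : Tr3 E) (hL : Loc B E) (hR : B.Rank3 u1 u2 k) (hd : d ∈ E) (hc : c ∈ E) (hdc : ¬ Commute d c)
    (hs : s ∈ Nb E d) (hsc : Commute c s) : Conf B E d c S1a ∨ Conf B E d c S2a ∨ Conf B E d c S3a := by
  obtain ⟨e, hS⟩ := exists_src hE hL hR hd hc hdc hs hsc src
  have h3 := three hE hL hR hd hc hdc hs hsc src
  rcases n71 hE hS (Fit.start hL hR hd hs e) with h | h | h | h
  · exact (h.inner hsc q0 rj0 in0 h3).elim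
  · exact (h.outer hsc q1 rj1 acc1 h3).elim (fun h => .inl (h)) fun h => .inl (h)
  · exact (h.outer hsc q2 rj2 acc2 h3).elim (fun h => .inr (.inl (h))) fun h => .inr (.inl (h))
  · exact (h.outer hsc q3 rj3 acc3 h3).elim (fun h => .inr (.inr (h))) fun h => .inr (.inr (h))

end Cfsg.Agent.H29.S22
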