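import Cfsg.Agent.H29.Sz4

/-! The Suzuki graph and its automorphisms. -/

set_option autoImplicit false
set_option maxRecDepth 100000
open Cfsg.Agent.H17 MulAction Finset Equiv

namespace Cfsg.Agent.H29.Sz

noncomputable scoped instance actS : MulAction Spor.Suz ℕ := MulAction.compHom ℕ SuzT.φ

theorem smul_def (a : Spor.Suz) (i : ℕ) : a • i = SuzT.φ a i := rfl

theorem wS : Wd Suz.g SuzT.D := ⟨SuzT.good.toShape, fun x i => by rw [smul_def, SuzT.rep.map], SuzT.rep.gens.surj⟩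

/-- the point stabilizer -/
noncomputable abbrev H0 : Subgroup Spor.Suz := wgrp Suz.g SuzT.W

/-- its letters -/
noncomputable def hh (x : ℕ) : H0 := ⟨sub SuzT.W Suz.g x,
  nth_prop (P := fun u => ev Suz.g u ∈ H0) (d := []) H0.one_mem (fun _ hu => mem_wgrp _ hu) x⟩

theorem hh_lt {x : ℕ} (h : x < 6) : (hh x : Spor.Suz) = Suz.g x := by
  interval_cases x <;> exact mul_one _

theorem hh_ge {x : ℕ} (h : 6 ≤ x) : hh x = 1 := Subtype.ext (sub_triv _ h)

theorem w1 : Wd hh E1 := by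
  refine ⟨TD.shape_of shape1, fun x i => ?_, fun a => ?_⟩
  · by_cases h : x < 6
    · change (hh x : Spor.Suz) • i = _
      rw [hh_lt h, wS.act]
      interval_cases x <;> rfl
    · rw [hh_ge (by omega), (TD.shape_of shape1).triv x (not_lt.1 h), one_smul]; rfl
  · obtain ⟨v, hv⟩ := exists_word_sub (k := 6) (σ := SuzT.W) (g := Suz.g) (fun x => by
      by_cases h : x < 6
      · have := SuzT.rep.gens.inv x
        rw [inv_of_lt (show x < SuzT.D.k from h.trans (by decide))] at this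
        rw [inv_of_lt h]
        exact (hh_lt h).trans (this.trans (congrArg _ (hh_lt h).symm))
      · rw [sub_triv (σ := SuzT.W) (x := x) _ (not_lt.1 h), sub_triv, inv_one]
        unfold H17.inv
        rw [Nat.ble_eq_true_of_le (not_lt.1 h)]
        exact Nat.le_add_right _ _) a.2
    exact ⟨v, Subtype.ext ((map_ev H0.subtype hh v).trans hv)⟩

theorem cardH : Nat.card H0 = 251596800 := by
  have := H0.index_mul_card
  rw [SuzT.coset.index_eq, Suz.faith.card] at this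
  omega

theorem fix0 (g : H0) : g • (0 : ℕ) = 0 := (SuzT.coset.stab _).1 g.2

def Dl : ℕ := nat_lit 0x20080000000001e000001830c0000000000cb3fff000000000000000000000000000000000000000000000000f30c00000098000000000000003fffc000003ffffff800001fffff800000000000000000000000000000000007fff33320000000000000e6666666640000000000000000000000000000601cc3381e00d3f801f8ccccccc0000000fffff00000003f66663c3ffff8000000000000038783807e19800007467e03f00fc7801ffecccccccdfffffe00000000003333000000000cccc000cccc000663a000f3f37ffff8000000000000000000000000000000000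
def N0 : ℕ := nat_lit 0x1e0006601800001e000000000000000000000000040004d2000000000000000000000000000000000000000000000000000ff30c000000fffc000000000000000003ce800001e3eea40000000e0099e1ccb332ccc80000000000006999900000000000000000000000000000000000007afc2007ff8c01fe1e001f986786ce69699267ff000000fc00000000000000061e00000000e01fc000fc01c41fe001fff8001e1ffe07e000000000000000000004e0019e180000000067861326787ed2000000000007ffff81c0701ff863fffff3332001ffffffffff
def O1 : ℕ := nat_lit 0x180000000000000000000000000000000000000000000000000000000000000000000000000000000000000000000000000000000000000000000000000000000000000000000000000000000000004cc8000000000000000000000000000000000000000000000000000000020000038180013e00000c8844840000000267ff000000000000000000000000000000000020180000e00000006001e038001c180007e000000000000000000000000112100000000044840004484000000000000007ffff8000000000000000000000000000000000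
def O2 : ℕ := nat_lit 0x80000000001e000000030c0000000000cb3fff000000000000000000000000000000000000000000000000f30c00000098000000000000003fffc000003ffffff800001fffff80000000000000000000000000000000000333733320000000000000e6666666640000000000000000000000000000401cc3000600c01801f804488480000000d980000000003f66663c3ffff8000000000000018603807019800001466000700e06001f80cccccccdfffffe0000000000221200000000088480008848000663a000f3f3000000000000000000000000000000000000000
def steps : List (ℕ × List ℕ × ℕ) := [(0, [], 1782),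
  (135, [6, 1, 2, 3, 2, 1, 6], 416),
  (136, [6, 1, 2, 3, 2, 1, 4, 6], 100),
  (137, [6, 1, 2, 3, 2, 1, 4, 3, 6], 36),
  (226, [6, 1, 0, 2, 3, 2, 1, 4, 3, 2, 6], 14),
  (539, [6, 1, 0, 2, 1, 3, 2, 1, 3, 4, 3, 2, 3, 6, 5, 1], 4),
  (1281, [6, 1, 0, 2, 1, 3, 2, 1, 4, 3, 2, 5, 1, 6, 1, 0], 3),
  (1309, [6, 1, 2, 3, 2, 1, 4, 3, 2, 1, 3, 5, 6, 1, 2, 5], 2),
  (1383, [6, 1, 0, 2, 3, 2, 4, 3, 2, 1, 5, 6, 1, 2], 1),
  (799, [6, 1, 2, 3, 2, 4, 3, 2, 1, 0, 6, 1, 2], 1),
  (1636, [6, 1, 0, 2, 3, 2, 1, 4, 3, 2, 5, 6, 1, 0, 2], 1),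
  (525, [6, 1, 0, 2, 1, 3, 2, 1, 4, 3, 2, 3, 5, 6, 1], 1),
  (289, [6, 1, 2, 3, 2, 1, 0, 5, 1, 0, 1], 1),
  (1651, [6, 1, 0, 2, 1, 3, 2, 4, 3, 2, 6, 5, 1, 0, 2, 3], 1),
  (1683, [6, 1, 0, 2, 1, 3, 2, 4, 3, 5, 1, 0, 2, 1, 0, 6], 1),
  (635, [6, 1, 0, 1, 2, 3, 2, 1, 4, 3, 5, 6, 1, 2, 3], 1),
  (1488, [6, 1, 2, 3, 2, 1, 0, 4, 3, 2, 5, 1, 0, 2, 1, 6], 1),
  (1343, [6, 1, 0, 2, 1, 3, 2, 3, 4, 3, 2, 5, 1, 0, 2], 1),
  (882, [6, 1, 0, 2, 1, 3, 2, 1, 3, 4, 3, 2, 1, 6, 5, 1], 1),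
  (304, [6, 1, 0, 2, 1, 3, 2, 1, 3, 4, 3, 2, 6], 1),
  (1302, [6, 1, 2, 3, 2, 1, 4, 3, 2, 1, 3, 5, 1, 6, 1, 2], 1),
  (1048, [6, 1, 0, 2, 3, 2, 1, 4, 3, 2, 3, 5, 6, 1, 0, 2], 1),
  (398, [6, 1, 0, 2, 3, 2, 1, 4, 3, 5, 6, 1, 0, 2], 1),
  (1111, [6, 1, 0, 2, 1, 3, 2, 3, 4, 3, 2, 1, 0, 3], 1),
  (581, [6, 1, 0, 1, 2, 1, 3, 2, 1, 4, 3, 2, 5, 1], 1),
  (673, [6, 1, 0, 1, 2, 3, 2, 1, 4, 3, 2, 1, 5, 1], 1),
  (806, [6, 1, 2, 3, 2, 1, 4, 3, 2, 1, 0, 3, 2], 1)]

def tw : List ℕ := [5, 1, 2, 3, 2, 1, 5, 6, 1, 2, 3, 2, 1, 6, 5, 1, 2, 3, 2, 1, 5]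

theorem cDl : invAll E1 Dl = true ∧ E1.orb W6 6 1781 = Dl ∧ tb Dl 1781 = true ∧ SuzT.D.sendB tw 0 1781 = true ∧
    SuzT.D.sendB tw 1781 0 = true ∧ SuzT.D.pullW1 tw Dl = N0 := by decide +kernel

theorem mem_Dl (i : ℕ) : Dl.testBit i = true ↔ i ∈ orbit H0 (1781 : ℕ) :=
  ⟨fun e => w1.orb_top (cDl.2.1 ▸ e), by rintro ⟨g, rfl⟩; exact (w1.inv cDl.1 g _).trans (tb_eq _ _ ▸ cDl.2.2.1)⟩

/-- adjacency in the Suzuki graph -/
def Adj0 (i j : ℕ) : Prop := ∃ a : Spor.Suz, a • i = 0 ∧ Dl.testBit (a • j) = true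

theorem adj0_iff {a : Spor.Suz} {i : ℕ} (h : a • i = 0) (j : ℕ) : Adj0 i j ↔ Dl.testBit (a • j) = true := by
  refine ⟨fun ⟨b, h1, h2⟩ => ?_, fun e => ⟨a, h, e⟩⟩
  have k : a * b⁻¹ ∈ H0 := (SuzT.coset.stab _).2 (by rw [← smul_def, mul_smul, ← h1, inv_smul_smul, h, h1])
  have := w1.inv cDl.1 ⟨_, k⟩ (b • j)
  rwa [h2, Subgroup.mk_smul, mul_smul, inv_smul_smul] at this

theorem adj0_smul (g : Spor.Suz) (i j : ℕ) : Adj0 (g • i) (g • j) ↔ Adj0 i j :=
  ⟨fun ⟨a, h1, h2⟩ => ⟨a * g, by rwa [mul_smul], by rwa [mul_smul]⟩,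
    fun ⟨a, h1, h2⟩ => ⟨a * g⁻¹, by rwa [mul_smul, inv_smul_smul], by rwa [mul_smul, inv_smul_smul]⟩⟩

theorem adj0_word {u : List ℕ} {v : ℕ} (h : SuzT.D.sendB u v 0 = true) (j : ℕ) :
    Adj0 v j ↔ (SuzT.D.pullW1 u Dl).testBit j = true := by
  rw [adj0_iff (wS.send h), wS.pull]

theorem adj0_symm {i j : ℕ} : Adj0 i j → Adj0 j i := by
  rintro ⟨a, h1, h2⟩
  obtain ⟨k, hk⟩ := (mem_Dl _).1 h2
  refine ⟨ev Suz.g tw * (k⁻¹ : H0) * a, ?_, ?_⟩
  · rw [mul_smul, mul_smul, ← hk, ← Subgroup.smul_def, inv_smul_smul, wS.send cDl.2.2.2.2.1]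
  · rw [mul_smul, mul_smul, h1, ← Subgroup.smul_def, fix0, wS.send cDl.2.2.2.1, ← tb_eq, cDl.2.2.1]

theorem lt_of_fix {σ : Perm ℕ} {n : ℕ} (h : ∀ i, n ≤ i → σ i = i) {i : ℕ} (hi : i < n) : σ i < n := by
  by_contra! k
  have := σ.injective (h _ k)
  omega

/-- the automorphisms of the graph -/
def A0 : Subgroup (Perm ℕ) where
  carrier := {σ | (∀ i, 1782 ≤ i → σ i = i) ∧ ∀ i < 1782, ∀ j < 1782, Adj0 (σ i) (σ j) ↔ Adj0 i j}
  mul_mem' := fun {a b} ha hb => ⟨fun i hi => by rw [Perm.mul_apply, hb.1 i hi, ha.1 i hi], fun i hi j hj =>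
    (ha.2 _ (lt_of_fix hb.1 hi) _ (lt_of_fix hb.1 hj)).trans (hb.2 i hi j hj)⟩
  one_mem' := ⟨fun _ _ => rfl, fun _ _ _ _ => .rfl⟩
  inv_mem' := fun {a} ha => by
    have k : ∀ i, 1782 ≤ i → a⁻¹ i = i := fun i hi => by rw [Perm.inv_eq_iff_eq, ha.1 i hi]
    refine ⟨k, fun i hi j hj => ?_⟩
    simpa using (ha.2 _ (lt_of_fix k hi) _ (lt_of_fix k hj)).symm

theorem cardLe_orb (B : Subgroup (Perm ℕ)) (v : ℕ) (s : Finset ℕ) (hs : ∀ σ ∈ B, σ v ∈ s) {m k : ℕ}
    (h : CardLe (B ⊓ fixS [v]) m) (hk : #s ≤ k) : CardLe B (k * m) := by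
  classical
  refine cardLe_of_cover (fun j => if h : ∃ σ ∈ B, σ v = s.toList.getD j 0 then h.choose else 1) h fun a ha => ?_
  obtain ⟨j, hj, e⟩ := List.getElem_of_mem (mem_toList.2 (hs a ha))
  have e' : ∃ σ ∈ B, σ v = s.toList.getD j 0 := ⟨a, ha, by rw [List.getD_eq_getElem _ _ hj, e]⟩
  refine ⟨j, by rw [length_toList] at hj; omega, ?_⟩
  simp only [dif_pos e']
  refine ⟨B.mul_mem (B.inv_mem e'.choose_spec.1) ha, fun β hβ => ?_⟩
  rw [List.mem_singleton.1 hβ, Perm.mul_apply, Perm.inv_eq_iff_eq, e'.choose_spec.2, List.getD_eq_getElem _ _ hj, e]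

noncomputable def sig (Ns : List ℕ) (v : ℕ) : ℕ :=
  List.rec (motive := fun _ => ℕ) (ones 1782)
    (fun N _ ih => Nat.land (Bool.rec (motive := fun _ => ℕ) (Nat.xor N (ones 1782)) N (tb N v)) ih) Ns

theorem sig_bit {v y : ℕ} (hy : y < 1782) : ∀ {Ns : List ℕ}, (∀ N ∈ Ns, N.testBit y = N.testBit v) →
    (sig Ns v).testBit y = true
  | [], _ => by simpa [sig, testBit_ones] using hy
  | N :: Ns, h => by
    change (Nat.land (Bool.rec (motive := fun _ => ℕ) (Nat.xor N (ones 1782)) N (tb N v)) (sig Ns v)).testBit y = true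
    rw [land_eq, Nat.testBit_and, sig_bit hy fun M hM => h M (by simp [hM]), tb_eq, ← h N (by simp)]
    cases e : N.testBit y <;> simp [xor_eq, e, testBit_ones, hy]

noncomputable def chain (l : List (ℕ × List ℕ × ℕ)) : List ℕ → Bool :=
  List.rec (motive := fun _ => List ℕ → Bool) (fun Ns => allLt 1782 fun v => Nat.beq (sig Ns v) (Nat.shiftLeft 1 v))
    (fun p _ ih Ns => band (Nat.ble p.1 1781) <| band (SuzT.D.sendB p.2.1 p.1 0) <|
      band (Nat.ble (pop 6 (sig Ns p.1)) p.2.2) <| force (SuzT.D.pullW1 p.2.1 Dl) fun N =>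
        force (Nat.shiftLeft 1 p.1) fun N' => ih (N :: N' :: Ns)) l

theorem chain_sound : ∀ (l : List (ℕ × List ℕ × ℕ)) (Ns : List ℕ) (B : Subgroup (Perm ℕ)), B ≤ A0 →
    (∀ σ ∈ B, ∀ N ∈ Ns, ∀ j < 1782, N.testBit (σ j) = N.testBit j) → chain l Ns = true →
    CardLe B (l.map fun p => p.2.2).prod
  | [], Ns, B, h1, h2, h => cardLe_bot.mono fun σ hσ => Subgroup.mem_bot.2 (Perm.ext fun v => by
      by_cases hv : v < 1782
      · have h' : allLt 1782 (fun v => Nat.beq (sig Ns v) (Nat.shiftLeft 1 v)) = true := h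
        exact (testBit_one _ _).1 (beq_true (allLt_true h' v hv) ▸
          sig_bit (lt_of_fix (h1 hσ).1 hv) fun N hN => h2 σ hσ N hN v hv)
      · exact (h1 hσ).1 v (not_lt.1 hv))
  | p :: l, Ns, B, h1, h2, h => by
    have h' : band (Nat.ble p.1 1781) (band (SuzT.D.sendB p.2.1 p.1 0) (band (Nat.ble (pop 6 (sig Ns p.1)) p.2.2)
        (chain l (SuzT.D.pullW1 p.2.1 Dl :: Nat.shiftLeft 1 p.1 :: Ns)))) = true := by
      simpa only [chain, force_eq] using h
    simp only [band_true, Nat.ble_eq] at h'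
    obtain ⟨a, b, c, d⟩ := h'
    have a' : p.1 < 1782 := by omega
    refine cardLe_orb B p.1 (fs (sig Ns p.1)) (fun σ hσ => ?_) (chain_sound l _ _ (inf_le_left.trans h1) ?_ d)
      ((card_fs _).trans_le c)
    · have := lt_of_fix (h1 hσ).1 a'
      exact mem_fs'.2 ⟨by omega, sig_bit this fun N hN => h2 σ hσ N hN _ a'⟩
    · rintro σ ⟨s1, s2⟩ N hN j hj
      have e : σ p.1 = p.1 := s2 _ (by simp)
      rcases List.mem_cons.1 hN with rfl | hN
      · rw [Bool.eq_iff_iff, ← adj0_word b, ← adj0_word b, ← (h1 s1).2 _ a' j hj, e]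
      rcases List.mem_cons.1 hN with rfl | hN
      · rw [Bool.eq_iff_iff, testBit_one, testBit_one, ← σ.injective.eq_iff (a := j), e]
      · exact h2 σ s1 N hN j hj

theorem chain_ok : chain steps [] = true := by decide +kernel

theorem card_A0 : CardLe A0 896690995200 :=
  (show (steps.map fun p => p.2.2).prod = 896690995200 by decide +kernel) ▸
    chain_sound steps [] A0 le_rfl (by simp) chain_ok

theorem iso_Suz {G : Type*} [Group G] (ψ' : G →* Perm ℕ) (hψ' : Function.Injective ψ') (hA : ∀ g, ψ' g ∈ A0)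
    (hG : Nat.card G = 448345497600) : Spor.IsoSuz G := by
  let φ : Spor.Suz →* A0 := SuzT.φ.codRestrict A0 fun a =>
    ⟨fun i hi => SuzT.rep.fix a hi, fun i _ j _ => adj0_smul a i j⟩
  have hφ : Function.Injective φ := fun a b e => Suz.faith.inj (congrArg Subtype.val e)
  let ψ : G →* A0 := ψ'.codRestrict A0 hA
  have hψ : Function.Injective ψ := fun a b e => hψ' (congrArg Subtype.val e)
  obtain ⟨_, h0⟩ := card_A0
  have h1 : Nat.card ψ.range = 448345497600 := (Nat.card_congr (MonoidHom.ofInjective hψ).toEquiv).symm.trans hG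
  have h2 : Nat.card φ.range = 448345497600 :=
    (Nat.card_congr (MonoidHom.ofInjective hφ).toEquiv).symm.trans Suz.faith.card
  have h3 := ψ.range.index_mul_card
  have h6 := ψ.range.index_ne_zero_of_finite
  rw [h1] at h3
  have h4 : ψ.range.index = 1 ∨ ψ.range.index = 2 := by omega
  have : ψ.range.Normal := h4.elim (fun e => Subgroup.index_eq_one.1 e ▸ inferInstance) Subgroup.normal_of_index_eq_two
  have := Suz.simple
  have := (MonoidHom.ofInjective hφ).symm.isSimpleGroup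
  rcases this.eq_bot_or_eq_top_of_normal (ψ.range.subgroupOf φ.range) inferInstance with h | h
  · have h5 := Nat.le_of_dvd (by omega) (Subgroup.relIndex_dvd_index_of_normal ψ.range φ.range)
    rw [Subgroup.relIndex, h, Subgroup.index_bot, h2] at h5
    omega
  · have h5 := Subgroup.eq_of_le_of_card_ge (Subgroup.subgroupOf_eq_top.1 h) (h1.trans h2.symm).le
    exact ⟨((MonoidHom.ofInjective hψ).trans (MulEquiv.subgroupCongr h5.symm)).trans (MonoidHom.ofInjective hφ).symm⟩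

end Cfsg.Agent.H29.Sz
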